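import Mathlib
import Cfsg.Agent.H288.AsTools
import Cfsg.Agent.H585.SuE6
import Cfsg.Agent.H583.GoodGen
import Cfsg.Agent.H934.HeisE6
import Cfsg.Agent.S1054
import Cfsg.Agent.S2123

/-!
# `AS2` of `E₆(q)` (helper288, for S3943)
-/

set_option autoImplicit false
set_option linter.unusedSectionVars false

namespace Cfsg.Agent.H288.AsE6

open Subgroup Cfsg Cfsg.Lie Cfsg.Agent.H129 Cfsg.Agent.Nodes.RGDChev Cfsg.Agent.H129.TorusTw Cfsg.Agent.H585.SuRow
  Cfsg.Agent.H585.SuSel Cfsg.Agent.H585.SuPhi Cfsg.Agent.H62.PPChev Cfsg.Agent.H585.SuE6 Cfsg.Agent.H288.AsT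
  Cfsg.Agent.H965.AS Cfsg.Agent.H583.GoodGen

universe u

variable {F : Type u} [Field F] [Fintype F]

/-- the small fields -/
theorem small9 {q N r m : ℕ} {L : List (ℕ × ℕ)} {p : ℕ} (hF : Fintype.card F = q) (hN : (N : ℤ) = 1 + (q : ℤ) ^ 3 + (q : ℤ) ^ 6)
    (hr : r.Prime) (h7 : 7 < r) (hrN : r ∣ N) (hrN2 : ¬ r ^ 2 ∣ N) (hf : ∃ p f : ℕ, p.Prime ∧ q = p ^ f ∧ ¬ r ∣ f)
    (hm0 : m * (q ^ 36 * (q ^ 2 - 1) * (q ^ 5 - 1) * (q ^ 6 - 1) * (q ^ 8 - 1) * (q ^ 9 - 1) * (q ^ 12 - 1)) = pp L)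
    (hprime : ∀ x ∈ L, x.1.Prime) (hnodup : (L.map Prod.fst).Nodup) (hp : p.Prime) (hpq : p ∣ q)
    (hchk : Chk r p L) : RowC ↥(chevE6.group F) q (1 * N) := by
  obtain ⟨T, h1, h2, h3, h4, h5⟩ := torus9 hF hN hr h7 hrN
  have ho : orderOf (q : ZMod r) = 9 := by
    rcases ord9 hN r hr hrN with h | h
    · exact h
    · omega
  refine rowC_small_of typ hF hr (by omega) ho hrN hrN2 hf h1 h5 (fun h => hr.one_lt.ne' (Nat.dvd_one.1 h)) h2 h3 (fun h => by have := Nat.le_of_dvd (by norm_num) h; omega) h4 ndv9 (L := L) (m := m * Nat.gcd 3 (q - 1))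
    ?_ hprime hnodup hp hpq hchk
  have h := Cfsg.Agent.S1063.result (F := F) hF
  rw [show m * Nat.gcd 3 (q - 1) * Nat.card ↥(chevE6.group F) = m * (Nat.gcd 3 (q - 1) * Nat.card ↥(chevE6.group F)) by ring, h]
  exact hm0

theorem rowC : RowC ↥(chevE6.group F) (Fintype.card F) (2 * Fintype.card F ^ 6) := by
  obtain ⟨q, hF⟩ : ∃ q, Fintype.card F = q := ⟨_, rfl⟩
  have hq2 : 2 ≤ q := by rw [← hF]; exact Fintype.one_lt_card
  rw [hF]
  obtain ⟨N, hNdef⟩ : ∃ N, N = q ^ 6 + q ^ 3 + 1 := ⟨_, rfl⟩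
  have hN : (N : ℤ) = 1 + (q : ℤ) ^ 3 + (q : ℤ) ^ 6 := by rw [hNdef]; push_cast; ring
  have hle1 : 1 * N ≤ 2 * q ^ 6 := by
    have h1 : q ^ 6 = q ^ 3 * q ^ 3 := by ring
    have h2 : 2 ^ 3 ≤ q ^ 3 := Nat.pow_le_pow_left hq2 3
    nlinarith
  rcases sel_of (F := F) (d := 78) (B := 153957) hF (by norm_num) (by norm_num) (by omega) (ord9 hN) (sq9 hN) (dvd9 hN)
    (by decide +kernel) (by norm_num) with ⟨r, a, hr, ha, ho, haN, haN', hd, hf⟩ | hB
  · obtain ⟨hmod, h6⟩ := mod_eq_one hr (by norm_num) ho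
    obtain ⟨T, h1, h2, h3, h4, h5⟩ := torus9 hF hN hr (by omega) (dvd9 hN r hr ho)
    exact (rowC_of typ hF hr (by omega) ha ho haN haN' (by rw [dim]; exact hd) hf h1 h5
      (fun h => hr.one_lt.ne' (Nat.dvd_one.1 h)) h2 h3 (fun h => by have := Nat.le_of_dvd (by norm_num) h; omega) h4
      ndv9).mono hle1
  · -- the second torus
    have hle : q ^ 2 ≤ q ^ 4 := Nat.pow_le_pow_right (by omega) (by norm_num)
    obtain ⟨N2, hN2def⟩ : ∃ N, N = q ^ 4 - q ^ 2 + 1 := ⟨_, rfl⟩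
    have hN2 : (N2 : ℤ) = 1 - (q : ℤ) ^ 2 + (q : ℤ) ^ 4 := by rw [hN2def]; push_cast [Nat.cast_sub hle]; ring
    have second : ∀ r : ℕ, r.Prime → 79 < r → r ∣ N2 → ¬ r ^ 2 ∣ N2 → ¬ r ∣ (q ^ 2 + q + 1) →
        (∃ p f : ℕ, p.Prime ∧ q = p ^ f ∧ ¬ r ∣ f) → RowC ↥(chevE6.group F) q ((q ^ 2 + q + 1) * N2) := by
      intro r hr h15 hrN hrN2 hnd hf
      obtain ⟨T, h1, h2, h3, h4, h5⟩ := torus12 hF hN2 hr (by omega) hrN
      have ho : orderOf (q : ZMod r) = 12 := by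
        rcases ord12 hN2 r hr hrN with h | h
        · exact h
        · omega
      refine rowC_of typ hF hr (by omega) (a := 1) le_rfl ho (by rwa [pow_one]) hrN2 ?_ hf h1 h5
        hnd h2 h3 (fun h => by have := Nat.le_of_dvd (by norm_num) h; omega) h4 ndv12
      rw [dim]
      simp only [Nat.sub_self, pow_zero, pow_one]
      omega
    have hq4 : q ≤ 7 := by
      have := Nat.le_of_dvd (by norm_num) hB
      by_contra h
      push Not at h
      have h2 : 8 ^ 6 ≤ q ^ 6 := Nat.pow_le_pow_left h 6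
      omega
    subst hNdef
    subst hN2def
    have hcases : q = 2 ∨ q = 4 := by
      clear hN hN2 hF hle second hle1
      interval_cases q <;> revert hB <;> norm_num
    rcases hcases with rfl | rfl
    · exact (small9 (r := 73) (m := 1) (L := [(2, 36), (3, 6), (5, 2), (7, 3), (13, 1), (17, 1), (31, 1), (73, 1)]) (p := 2) hF hN (by norm_num) (by norm_num)
        (by norm_num) (by norm_num) ⟨2, 1, by norm_num, by norm_num, by norm_num⟩ (by decide +kernel) (by norm_num)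
        (by decide) (by norm_num) (by norm_num) (by decide +kernel)).mono hle1
    · exact (second 241 (by norm_num) (by norm_num) (by norm_num) (by norm_num) (by norm_num)
        ⟨2, 2, by norm_num, by norm_num, by norm_num⟩).mono (by norm_num)

/-- **`AS2 E₆(q)`** -/
theorem as2 : AS2 ↥(chevE6.group F) := by
  have hs : IsSimpleGroup ↥(chevE6.group F) := (Cfsg.Agent.S1054.result chevE6 (by simp)).1
  refine RowC.as2 (b := 2 * Fintype.card F ^ 11) rowC (fun r hr h7 hf => ?_)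
    (fun H hH => Cfsg.Agent.H934.HeisE6.two_mul_le hs H hH) ?_
  · obtain ⟨p, f, hp, hpc, hq, hf1, hF, hrf⟩ := not_dvd_exp (F := F) one_ne_zero (pow_one _).symm hf
    rw [one_mul] at hF
    rw [Cfsg.Agent.S2123.result p f hF]
    exact not_dvd_mul hr (not_dvd_mul hr (not_dvd_of_lt (by norm_num) (by omega)) (not_dvd_gcd (by norm_num) (by omega)))
      hrf
  · have hq2 : 2 ≤ Fintype.card F := Fintype.one_lt_card
    have h1 : Fintype.card F ^ 6 < Fintype.card F ^ 11 := Nat.pow_lt_pow_right (by omega) (by norm_num)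
    omega

/-- the row -/
theorem as2_E6 {K : Type*} [Group K] (h : IsoChevE6 K) : AS2 K := by
  obtain ⟨F, _, _, ⟨e⟩⟩ := h
  exact (as2 (F := F)).congr e.symm

end Cfsg.Agent.H288.AsE6
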