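import Cfsg.Agent.H288.BnRgd
import Cfsg.Agent.H339.MaxTwo

/-!
# Supplements: the index trick (helper288, S5907; idea: helper339)

`exists_hall` : `S` simple normal in `X` with a parabolic system such that Sylow `r`-subgroups of `N_S(U)` lie in two conjugates
of `N_S(U)`. If `X` has no three classes of supplements, then `S` has a proper subgroup `H` of `p`-power index containing the
normaliser of a Sylow `r`-subgroup for every prime `r ≠ p`.

`supp_of_noHall` : the criterion for `Supp 3 K` for groups with a root group datum (any rank).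
-/

set_option autoImplicit false
set_option linter.unusedSectionVars false

namespace Cfsg.Agent.H288.BnHall

open Subgroup Cfsg.Agent.H339.MaxCl Cfsg.Agent.H288.BnAbs

/-- Sylow subgroups for primes `r ≠ p` normalising `U` normalise another Sylow `p`-subgroup -/
def Spread (p : ℕ) {S : Type*} [Group S] (U : Sylow p S) : Prop :=
  ∀ (r : ℕ) [Fact r.Prime], r ≠ p → ∀ R : Sylow r S, (R : Subgroup S) ≤ normalizer ((U : Subgroup S) : Set S) →
    ∃ g : S, (U : Subgroup S).map (MulAut.conj g).toMonoidHom ≠ U ∧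
      (R : Subgroup S) ≤ (normalizer ((U : Subgroup S) : Set S)).map (MulAut.conj g).toMonoidHom

/-- the subgroups `H` obtained from few supplements -/
def Hall (p : ℕ) {S : Type*} [Group S] (H : Subgroup S) : Prop :=
  (∃ k, 0 < k ∧ H.index = p ^ k) ∧ ∀ (r : ℕ) [Fact r.Prime], r ≠ p → r ∣ Nat.card S →
    ∃ R : Sylow r S, normalizer ((R : Subgroup S) : Set S) ≤ H

theorem exists_sylow_conj {r : ℕ} {S : Type*} [Group S] (R : Sylow r S) (g : S) :
    ∃ R' : Sylow r S, (R' : Subgroup S) = (R : Subgroup S).map (MulAut.conj g).toMonoidHom := ⟨g • R, rfl⟩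

theorem Spread.false {p : ℕ} {S : Type*} [Group S] [Finite S] {U : Sylow p S} (hs : Spread p U) {r : ℕ}
    [Fact r.Prime] (hr : r ≠ p) (R : Sylow r S)
    (h : normalizer ((R : Subgroup S) : Set S) ≤ normalizer ((U : Subgroup S) : Set S)) : False := by
  obtain ⟨g, hg, hRg⟩ := hs r hr R (le_normalizer.trans h)
  apply hg
  -- `R` and `R ^ g⁻¹` lie in `N(U)`
  obtain ⟨R', hR'⟩ := exists_sylow_conj R g⁻¹
  have h1 : (R' : Subgroup S) ≤ normalizer ((U : Subgroup S) : Set S) := by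
    rw [hR']
    have h5 := Subgroup.map_mono (f := (MulAut.conj g⁻¹).toMonoidHom) hRg
    rwa [map_conj_mul, inv_mul_cancel, map_conj_one] at h5
  obtain ⟨c, hc, hcR⟩ := exists_conj_le R R' (le_normalizer.trans h) h1
  rw [hR', map_conj_mul] at hcR
  have h2 : c * g⁻¹ ∈ normalizer ((U : Subgroup S) : Set S) := h (mem_normalizer_iff_conj.2 hcR)
  have h3 : g ∈ normalizer ((U : Subgroup S) : Set S) := by
    have h7 := mul_mem (inv_mem h2) hc
    have e : (c * g⁻¹)⁻¹ * c = g := by group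
    rwa [e] at h7
  exact mem_normalizer_iff_conj.1 h3

section abs

variable {p : ℕ} {X : Type*} [Group X] [Finite X] [Fact p.Prime] {S : Subgroup X} [hS : S.Normal] {U : Sylow p ↥S}
  {I : Type*} {P : Set I → Subgroup ↥S}

/-- `N_X(A) ≤ Y` gives `N_S(A) ≤ Y ∩ S` -/
theorem norm_sub {A : Subgroup ↥S} {Y : Subgroup X}
    (h : normalizer ((A.map S.subtype : Subgroup X) : Set X) ≤ Y) : normalizer (A : Set ↥S) ≤ Y.subgroupOf S := by
  intro x hx
  refine h ?_
  rw [mem_normalizer_iff] at hx ⊢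
  intro y
  constructor
  · rintro ⟨z, hz, rfl⟩
    exact ⟨x * z * x⁻¹, (hx z).1 hz, rfl⟩
  · rintro ⟨z, hz, hzy⟩
    have e : y = ((x⁻¹ * z * x : ↥S) : X) := by
      show y = (x : X)⁻¹ * (z : X) * (x : X)
      have : (z : X) = (x : X) * y * (x : X)⁻¹ := hzy
      rw [this]; group
    rw [e]
    refine ⟨x⁻¹ * z * x, (hx _).2 ?_, rfl⟩
    have e2 : x * (x⁻¹ * z * x) * x⁻¹ = z := by group
    rw [e2]; exact hz

theorem norm_conj (A : Subgroup ↥S) (s : ↥S) :
    normalizer ((A.map (MulAut.conj s).toMonoidHom : Subgroup ↥S) : Set ↥S) =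
      (normalizer (A : Set ↥S)).map (MulAut.conj s).toMonoidHom := by
  rw [Subgroup.map_equiv_normalizer_eq A (MulAut.conj s)]

theorem subgroupOf_conj (Y : Subgroup X) (s : ↥S) :
    (Y.map (MulAut.conj (s : X)).toMonoidHom).subgroupOf S = (Y.subgroupOf S).map (MulAut.conj s).toMonoidHom := by
  ext x
  rw [mem_subgroupOf, mem_map_conj, mem_map_conj, mem_subgroupOf]
  rfl

theorem exists_hall [Finite I] [Nonempty I] (hsimp : IsSimpleGroup ↥S) (hns : ¬ Group.IsSolvable ↥S) (h : ParSys p U P)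
    (hs : Spread p U) (hpS : p ∣ Nat.card ↥S) (hcl : ¬ NCl 3 X fun M => ¬ S ≤ M) : ∃ H : Subgroup ↥S, Hall p H := by
  obtain ⟨M, hM, -, hR⟩ := exists_indices hsimp hns (n := 2) (by norm_num) hcl
  obtain ⟨i0, U0, hU0⟩ := hR p hpS
  -- the other index
  obtain ⟨i1, hi1⟩ : ∃ i1 : Fin 2, ∀ i, i ≠ i0 → i = i1 := by
    fin_cases i0
    · exact ⟨1, fun i hi => by fin_cases i; exacts [absurd rfl hi, rfl]⟩
    · exact ⟨0, fun i hi => by fin_cases i; exacts [rfl, absurd rfl hi]⟩
  -- conjugate `U0` to `U`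
  obtain ⟨s, -, hsU⟩ := exists_conj_le U U0 (C := ⊤) le_top le_top
  have hB0 : (normalizer ((U : Subgroup ↥S) : Set ↥S)) ≤ ((M i0).subgroupOf S).map (MulAut.conj s).toMonoidHom := by
    rw [← hsU, norm_conj]
    exact Subgroup.map_mono (norm_sub hU0)
  have hYS : (M i0).map (MulAut.conj (s : X)).toMonoidHom ⊔ S = ⊤ := by
    have h2 : S.map (MulAut.conj (s : X)).toMonoidHom = S :=
      mem_normalizer_iff_conj.1 (le_normalizer s.2)
    have h3 := congrArg (fun A : Subgroup X => A.map (MulAut.conj (s : X)).toMonoidHom)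
      (sup_eq_top_of_coatom (hM i0).1 (hM i0).2)
    simp only [Subgroup.map_sup, h2] at h3
    rw [h3]
    exact Subgroup.map_top_of_surjective _ (MulAut.conj (s : X)).surjective
  obtain ⟨K, hK, -, hKi⟩ := inv_of_le h hYS (J := ∅) (by rw [subgroupOf_conj, h.empty]; exact hB0)
  rw [subgroupOf_conj] at hK
  have hKt : K ≠ Set.univ := by
    rintro rfl
    rw [h.top] at hK
    have h1 : (M i0).subgroupOf S = ⊤ := by
      have h2 := congrArg (fun A : Subgroup ↥S => A.map (MulAut.conj s⁻¹).toMonoidHom) hK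
      simp only [map_conj_mul, inv_mul_cancel, map_conj_one] at h2
      rw [h2]
      exact Subgroup.map_top_of_surjective _ (MulAut.conj s⁻¹).surjective
    rw [subgroupOf_eq_top] at h1
    exact (hM i0).2 h1
  have hK0 : K = ∅ := by
    by_contra hne
    exact hcl (h.nCl_three (Set.nonempty_iff_ne_empty.2 hne) hKt hKi)
  subst hK0
  rw [h.empty] at hK
  -- every other prime goes to `i1`
  have hR1 : ∀ (r : ℕ) [Fact r.Prime], r ≠ p → r ∣ Nat.card ↥S →
      ∃ R : Sylow r ↥S, normalizer (((R : Subgroup ↥S).map S.subtype : Subgroup X) : Set X) ≤ M i1 := by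
    intro r hr hrp hrS
    obtain ⟨i, R, hRi⟩ := hR r hrS
    by_cases hi : i = i0
    · exfalso
      subst hi
      obtain ⟨R', hR'⟩ := exists_sylow_conj R s
      refine hs.false hrp R' ?_
      rw [hR', norm_conj, ← hK]
      exact Subgroup.map_mono (norm_sub hRi)
    · rw [hi1 i hi] at hRi
      exact ⟨R, hRi⟩
  refine ⟨(M i1).subgroupOf S, ?_, fun r hr hrp hrS => ?_⟩
  · have hsup := sup_eq_top_of_coatom (hM i1).1 (hM i1).2
    have hne : (M i1).index ≠ 1 := fun e => (hM i1).1.1 (Subgroup.index_eq_one.1 e)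
    have hidx := index_eq hsup
    have hpow : ∀ r : ℕ, r.Prime → r ∣ (M i1).index → r = p := by
      intro r hr hrd
      by_contra hrp
      have := Fact.mk hr
      have hrS : r ∣ Nat.card ↥S := hrd.trans (by rw [hidx]; exact Subgroup.index_dvd_card _)
      obtain ⟨R, hR2⟩ := hR1 r hrp hrS
      have h1 := index_modEq hsup R hR2
      have h2 : (M i1).index ≡ 0 [MOD r] := (Nat.modEq_zero_iff_dvd).2 hrd
      have h3 : 1 ≡ 0 [MOD r] := h1.symm.trans h2
      exact hr.one_lt.ne' (Nat.dvd_one.1 ((Nat.modEq_zero_iff_dvd).1 h3))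
    have h0 : (M i1).index = p ^ (M i1).index.primeFactorsList.length :=
      Nat.eq_prime_pow_of_unique_prime_dvd (Subgroup.index_ne_zero_of_finite (H := M i1))
        (fun {r} hr hrd => hpow r hr hrd)
    refine ⟨(M i1).index.primeFactorsList.length, Nat.pos_of_ne_zero ?_, by rw [← hidx]; exact h0⟩
    intro e
    exact hne (by rw [h0, e, pow_zero])
  · obtain ⟨R, hR2⟩ := hR1 r hrp hrS
    exact ⟨R, norm_sub hR2⟩

end abs

/-! ### root group data -/

section rgd

open CoxeterSystem Cfsg.Agent.ChevalleyStructure.CoxeterGeom Cfsg.Agent.Tits.Roots Cfsg.Agent.Tits.Core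
  Cfsg.Agent.Tits.RootComb Cfsg.Agent.Tits.Exchange Cfsg.Agent.Nodes.Reps Cfsg.Agent.Nodes.BNOf
  Cfsg.Agent.Nodes.StabComb Cfsg.Agent.Nodes.Bruhat Cfsg.Agent.Nodes.OppDec Cfsg.Agent.Nodes.LeviDec
  Cfsg.Agent.KFacts.RgdCharP Cfsg.Agent.KFacts.RgdVJ Cfsg.Agent.H288.BnRgd

variable {I W Y : Type*} [Fintype I] [DecidableEq I] [Group W] [Group Y] {M : CoxeterMatrix I}
  {cs : CoxeterSystem M W} {A : I → I → ℤ} {h : IsCartan M A} {p : ℕ} {T : Subgroup Y} {n : I → Y}
  {X : (I → ℤ) → Subgroup Y}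

theorem card_B [Finite W] [Finite Y] [Fact p.Prime] (R : RGD cs h p T n X) :
    Nat.card (RGD.B cs h T X) = Nat.card T * Nat.card (RGD.Sup X (RGD.Pos cs h)) := by
  have hle : Nat.card (RGD.B cs h T X) ≤ Nat.card T * Nat.card (RGD.Sup X (RGD.Pos cs h)) := by
    rw [← Nat.card_prod]
    refine Nat.card_le_card_of_surjective
      (fun x : ↥T × ↥(RGD.Sup X (RGD.Pos cs h)) =>
        (⟨x.1 * x.2, mul_mem (RGD.T_le_B x.1.2) (RGD.U_le_B x.2.2)⟩ : ↥(RGD.B cs h T X))) ?_
    rintro ⟨b, hb⟩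
    obtain ⟨t, ht, u, hu, e⟩ := (R.mem_B).1 hb
    exact ⟨(⟨t, ht⟩, ⟨u, hu⟩), Subtype.ext e.symm⟩
  refine le_antisymm hle (Nat.le_of_dvd Nat.card_pos ?_)
  refine Nat.Coprime.mul_dvd_of_dvd_of_dvd ?_ (Subgroup.card_dvd_of_le RGD.T_le_B) (Subgroup.card_dvd_of_le RGD.U_le_B)
  obtain ⟨m, hm⟩ := (IsPGroup.iff_card (p := p)).1 R.isPGroup_Upos
  rw [hm]
  exact R.tcop.pow_right m

/-- Sylow subgroups of `B` normalise another Sylow `p`-subgroup -/
theorem spread [Finite W] [Finite Y] [Nonempty I] [Fact p.Prime] (R : RGD cs h p T n X) (hG : GG cs h T X = ⊤)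
    {U : Sylow p Y} (hU : (U : Subgroup Y) = RGD.Sup X (RGD.Pos cs h)) : Spread p U := by
  intro r hr hrp Q hQ
  rw [hU, normalizer_U R hG] at hQ
  -- the Sylow `r`-subgroup of `T`
  have hcard := card_B (W := W) R
  let Q0 : Sylow r ↥T := default
  have h1 : ¬ r ∣ ((Q0 : Subgroup ↥T).map T.subtype).index := by
    intro hdvd
    have e1 : Nat.card ((Q0 : Subgroup ↥T).map T.subtype) = Nat.card (Q0 : Subgroup ↥T) :=
      Subgroup.card_map_of_injective T.subtype_injective
    have e2 : Nat.card ((Q0 : Subgroup ↥T).map T.subtype) * ((Q0 : Subgroup ↥T).map T.subtype).index = Nat.card Y :=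
      Subgroup.card_mul_index _
    have e3 : Nat.card (RGD.B cs h T X) * (RGD.B cs h T X).index = Nat.card Y := Subgroup.card_mul_index _
    have e4 : Nat.card (Q0 : Subgroup ↥T) * (Q0 : Subgroup ↥T).index = Nat.card T := Subgroup.card_mul_index _
    have e5 : Nat.card (Q0 : Subgroup ↥T) * ((Q0 : Subgroup ↥T).map T.subtype).index =
        Nat.card (Q0 : Subgroup ↥T) * ((Q0 : Subgroup ↥T).index * Nat.card (RGD.Sup X (RGD.Pos cs h)) *
          (RGD.B cs h T X).index) := by
      rw [← e1, e2, ← e3, hcard, ← e4, e1]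
      ring
    rw [Nat.eq_of_mul_eq_mul_left Nat.card_pos e5] at hdvd
    rcases hr.out.dvd_mul.1 hdvd with h2 | h2
    · rcases hr.out.dvd_mul.1 h2 with h3 | h3
      · exact Q0.not_dvd_index h3
      · obtain ⟨m, hm⟩ := (IsPGroup.iff_card (p := p)).1 R.isPGroup_Upos
        rw [hm] at h3
        exact hrp ((Nat.prime_dvd_prime_iff_eq hr.out Fact.out).1 (hr.out.dvd_of_dvd_pow h3))
    · exact Q.not_dvd_index (h2.trans (Subgroup.index_dvd_of_le hQ))
  have hQ1 : IsPGroup r ((Q0 : Subgroup ↥T).map T.subtype) := Q0.2.map _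
  let Q1 : Sylow r Y := hQ1.toSylow h1
  have hQ1T : (Q1 : Subgroup Y) ≤ T := by
    rintro _ ⟨a, -, rfl⟩
    exact a.2
  obtain ⟨c, hc, hcQ⟩ := exists_conj_le Q1 Q (hQ1T.trans RGD.T_le_B) hQ
  obtain ⟨i⟩ := (inferInstance : Nonempty I)
  have hn : n i ∉ RGD.B cs h T X := by
    intro hn
    have h3 := R.eq_one_of_mem_B (rp_simple cs R.nsys i) hn
    exact simple_ne_one i h3
  have hT : T.map (MulAut.conj (n i)).toMonoidHom = T :=
    mem_normalizer_iff_conj.1 (R.nsys.norm i)
  refine ⟨c⁻¹ * n i, ?_, ?_⟩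
  · intro e
    have h3 : c⁻¹ * n i ∈ normalizer ((U : Subgroup Y) : Set Y) := mem_normalizer_iff_conj.2 e
    rw [hU, normalizer_U R hG] at h3
    apply hn
    have h4 := mul_mem hc h3
    rwa [mul_inv_cancel_left] at h4
  · rw [hU, normalizer_U R hG, ← map_conj_mul]
    have h3 : T ≤ (RGD.B cs h T X).map (MulAut.conj (n i)).toMonoidHom := by
      conv_lhs => rw [← hT]
      exact Subgroup.map_mono RGD.T_le_B
    have h4 : (Q : Subgroup Y) = (Q1 : Subgroup Y).map (MulAut.conj c⁻¹).toMonoidHom := by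
      rw [← hcQ, map_conj_mul, inv_mul_cancel, map_conj_one]
    rw [h4]
    exact Subgroup.map_mono (hQ1T.trans h3)

universe u v

/-- no subgroup as in `exists_hall` -/
def NoHall (p : ℕ) (K : Type*) [Group K] : Prop := ∀ H : Subgroup K, ¬ Hall p H

theorem Hall.map {p : ℕ} {G K : Type*} [Group G] [Group K] [Finite G] (f : G ≃* K) {H : Subgroup G} (hH : Hall p H) :
    Hall p (H.map f.toMonoidHom) := by
  obtain ⟨⟨k, hk, hi⟩, h2⟩ := hH
  have : Finite K := Finite.of_equiv G f.toEquiv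
  refine ⟨⟨k, hk, ?_⟩, ?_⟩
  · rw [← hi]
    exact Subgroup.index_map_of_bijective f.bijective H
  · intro r _ hrp hrK
    have hc : Nat.card K = Nat.card G := (Nat.card_congr f.toEquiv).symm
    obtain ⟨R, hR⟩ := h2 r hrp (hc ▸ hrK)
    have h3 : ¬ r ∣ ((R : Subgroup G).map f.toMonoidHom).index := by
      rw [Subgroup.index_map_of_bijective f.bijective]
      exact R.not_dvd_index
    refine ⟨(R.2.map f.toMonoidHom).toSylow h3, ?_⟩
    have h4 : normalizer (((R : Subgroup G).map f.toMonoidHom : Subgroup K) : Set K) ≤ H.map f.toMonoidHom := by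
      rw [← Subgroup.map_equiv_normalizer_eq (R : Subgroup G) f]
      exact Subgroup.map_mono hR
    exact h4

theorem NoHall.of_equiv {p : ℕ} {G K : Type*} [Group G] [Group K] [Finite G] (f : G ≃* K) (hK : NoHall p K) :
    NoHall p G := fun _ hH => hK _ (hH.map f)

/-- **`Supp 3`** for simple groups with a root group datum of any rank without Hall-like subgroups -/
theorem supp_of_noHall {K : Type v} [Group K] [Finite K] [IsSimpleGroup K] (hns : ¬ Group.IsSolvable K) {p l : ℕ}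
    [Fact p.Prime] {M : CoxeterMatrix (Fin l)} (hK : Cfsg.Agent.Omega.ML.Ex.Typ.HasRGDT p M K) (hl : 1 ≤ l)
    (hno : NoHall p K) : Supp.{u} 3 K := by
  rintro X _ _ S _ ⟨f⟩ - - - -
  have hS : IsSimpleGroup ↥S := f.isSimpleGroup
  obtain ⟨A, h, T, n, X', hW, R, hX⟩ := hK.of_equiv f.symm
  have hG : GG M.toCoxeterSystem h T X' = ⊤ := Cfsg.Agent.KFacts.RgdFilt.GG_eq_top hX
  have hns' : ¬ Group.IsSolvable ↥S := fun h =>
    hns (Group.isSolvable_of_isSolvable_injective (f := f.symm.toMonoidHom) f.symm.injective)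
  obtain ⟨U, hU⟩ := exists_U R hG
  have hp := parSys R hG hU
  have : Nonempty (Fin l) := ⟨⟨0, hl⟩⟩
  by_contra hcl
  have hpS : p ∣ Nat.card ↥S := by
    by_contra hpS
    have h1 : (U : Subgroup ↥S) = ⊥ := by
      rw [← Subgroup.card_eq_one]
      obtain ⟨m, hm⟩ := (IsPGroup.iff_card (p := p)).1 U.2
      rcases Nat.eq_zero_or_pos m with rfl | hm0
      · rw [hm, pow_zero]
      · exfalso
        apply hpS
        have h3 : p ∣ Nat.card (U : Subgroup ↥S) := by rw [hm]; exact dvd_pow_self p hm0.ne'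
        exact h3.trans (Subgroup.card_subgroup_dvd_card _)
    obtain ⟨V, hV, hVU, -⟩ := hp.rad ∅ (Set.empty_ne_univ)
    apply hV
    rw [eq_bot_iff, ← h1]
    exact hVU
  obtain ⟨H, hH⟩ := exists_hall hS hns' hp (spread R hG hU) hpS hcl
  exact hno.of_equiv f H hH

end rgd

end Cfsg.Agent.H288.BnHall
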