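import Mathlib
import Cfsg.Agent.TwoFusion.SLTwoFacts
import Cfsg.Agent.LieExceptional.CyclicSylow

/-!
# `SL 3 p`, `p = 2 ^ m - 1 ≥ 7` prime, has no subgroup of index `p ^ 3` and order prime to `p` (helper288, S5907)
-/

set_option autoImplicit false
set_option linter.unusedSectionVars false

namespace Cfsg.Agent.H288.BnMer

open Matrix
open scoped commutatorElement

variable {F : Type*} [Field F]

local notation "SL3" => Matrix.SpecialLinearGroup (Fin 3) F
local notation "SL2" => Matrix.SpecialLinearGroup (Fin 2) F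

/-- block matrices -/
def im (A : Matrix (Fin 2) (Fin 2) F) (d a b : F) : Matrix (Fin 3) (Fin 3) F :=
  !![A 0 0, A 0 1, a; A 1 0, A 1 1, b; 0, 0, d]

theorem im_mul (A B : Matrix (Fin 2) (Fin 2) F) (d a b d' a' b' : F) :
    im A d a b * im B d' a' b' =
      im (A * B) (d * d') (A 0 0 * a' + A 0 1 * b' + a * d') (A 1 0 * a' + A 1 1 * b' + b * d') := by
  ext i j
  fin_cases i <;> fin_cases j <;> simp [im, Matrix.mul_apply, Fin.sum_univ_succ, add_assoc]

theorem im_one : im (1 : Matrix (Fin 2) (Fin 2) F) 1 0 0 = 1 := by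
  ext i j
  fin_cases i <;> fin_cases j <;> simp [im]

theorem det_im (A : Matrix (Fin 2) (Fin 2) F) (d a b : F) : (im A d a b).det = A.det * d := by
  rw [Matrix.det_fin_three, Matrix.det_fin_two]
  simp [im]
  ring

/-- the embedding `GL 2 → SL 3` -/
noncomputable def iota : GL (Fin 2) F →* SL3 where
  toFun A := ⟨im A.1 (A.1.det)⁻¹ 0 0, by
    rw [det_im, mul_inv_cancel₀ (Matrix.isUnits_det_units A).ne_zero]⟩
  map_one' := by
    apply Subtype.ext
    change im (1 : Matrix (Fin 2) (Fin 2) F) ((1 : Matrix (Fin 2) (Fin 2) F).det)⁻¹ 0 0 = 1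
    rw [Matrix.det_one, inv_one, im_one]
  map_mul' A B := by
    apply Subtype.ext
    change im (A.1 * B.1) ((A.1 * B.1).det)⁻¹ 0 0 = im A.1 (A.1.det)⁻¹ 0 0 * im B.1 (B.1.det)⁻¹ 0 0
    rw [im_mul, Matrix.det_mul, _root_.mul_inv_rev, mul_comm (B.1.det)⁻¹]
    simp

/-- the unipotent radical -/
def vv (a b : F) : SL3 := ⟨im 1 1 a b, by rw [det_im, Matrix.det_one, one_mul]⟩

theorem vv_mul (a b c d : F) : vv a b * vv c d = vv (a + c) (b + d) := by
  apply Subtype.ext
  change im 1 1 a b * im 1 1 c d = im 1 1 (a + c) (b + d)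
  rw [im_mul]
  simp [add_comm]

theorem vv_zero : vv (0 : F) 0 = 1 := Subtype.ext im_one

theorem vv_inv (a b : F) : (vv a b)⁻¹ = vv (-a) (-b) := by
  rw [inv_eq_iff_mul_eq_one, vv_mul, add_neg_cancel, add_neg_cancel, vv_zero]

theorem vv_injective {a b c d : F} (h : vv a b = vv c d) : a = c ∧ b = d := by
  have h1 := congrArg Subtype.val h
  have h2 := congrFun (congrFun h1 0) 2
  have h3 := congrFun (congrFun h1 1) 2
  exact ⟨h2, h3⟩

theorem iota_vv (A : GL (Fin 2) F) (a b : F) : ∃ c d, iota A * vv a b = vv c d * iota A := by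
  have h : A.1.det ≠ 0 := (Matrix.isUnits_det_units A).ne_zero
  refine ⟨(A.1 0 0 * a + A.1 0 1 * b) * A.1.det, (A.1 1 0 * a + A.1 1 1 * b) * A.1.det, ?_⟩
  apply Subtype.ext
  change im A.1 (A.1.det)⁻¹ 0 0 * im 1 1 a b = im 1 1 _ _ * im A.1 (A.1.det)⁻¹ 0 0
  rw [im_mul, im_mul, mul_one, mul_one, one_mul, one_mul]
  congr 1 <;> simp [mul_assoc, mul_inv_cancel₀ h]

/-- unipotent matrices -/
theorem im_unip (A : Matrix (Fin 2) (Fin 2) F) (h10 : A 1 0 = 0) (h00 : A 0 0 = 1) (h11 : A 1 1 = 1) (a b : F) :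
    (im A 1 a b - 1) ^ 3 = 0 := by
  rw [pow_succ, pow_two]
  ext i j
  fin_cases i <;> fin_cases j <;> simp [im, Matrix.mul_apply, Fin.sum_univ_three, h10, h00, h11]

theorem vv_unip (a b : F) : ((vv a b).1 - 1) ^ 3 = 0 := by
  change (im 1 1 a b - 1) ^ 3 = 0
  exact im_unip 1 (by simp) (by simp) (by simp) a b

section main

variable [Fintype F] {p m : ℕ}

/-- elements of `H` conjugates of order prime to `p` -/
theorem eq_one_of_unip {H : Subgroup SL3} (hp : p.Prime) (hF : Fintype.card F = p) (hp3 : 3 ≤ p)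
    (hH : ¬ p ∣ Nat.card H) {z : SL3} (hz : (z.1 - 1) ^ 3 = 0) {g : SL3} (hg : g⁻¹ * z * g ∈ H) : z = 1 := by
  have : Fact p.Prime := ⟨hp⟩
  have hchar : CharP F p := by
    obtain ⟨r, hr⟩ := CharP.exists F
    obtain ⟨n, hrp, hn⟩ := FiniteField.card F r
    rw [hF] at hn
    have h1 := (Nat.prime_dvd_prime_iff_eq hrp hp).1 (hn ▸ dvd_pow_self r n.ne_zero)
    exact h1 ▸ hr
  have h1 : z ^ p = 1 := by
    apply Subtype.ext
    have h2 : (z.1 - 1) ^ p = 0 := by
      obtain ⟨k, rfl⟩ := Nat.exists_eq_add_of_le hp3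
      rw [pow_add, hz, zero_mul]
    have h3 : (z.1 - 1) ^ p = z.1 ^ p - 1 ^ p := sub_pow_char_of_commute p (Commute.one_right _)
    rw [h2, one_pow] at h3
    have h4 : z.1 ^ p = 1 := (sub_eq_zero.1 h3.symm)
    have h5 : ∀ k : ℕ, (z ^ k).1 = z.1 ^ k := fun k => by
      induction k with
      | zero => rw [pow_zero, pow_zero]; rfl
      | succ k ih => rw [pow_succ, pow_succ, ← ih]; rfl
    rw [h5, h4]
    rfl
  have h2 : (g⁻¹ * z * g) ^ p = 1 := by
    have e : (g⁻¹ * z * g) = g⁻¹ * z * (g⁻¹)⁻¹ := by group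
    rw [e, conj_pow, h1]
    group
  have h3 : orderOf (g⁻¹ * z * g) ∣ p := orderOf_dvd_of_pow_eq_one h2
  rcases (Nat.dvd_prime hp).1 h3 with h4 | h4
  · have h5 := orderOf_eq_one_iff.1 h4
    have e : z = g * (g⁻¹ * z * g) * g⁻¹ := by group
    rw [e, h5]
    group
  · exfalso
    apply hH
    rw [← h4]
    exact Subgroup.orderOf_dvd_natCard H hg

/-- the relation: same `V`-orbit -/
def Rel (H : Subgroup SL3) (x y : SL3 ⧸ H) : Prop := ∃ a b : F, y = vv a b • x

theorem Rel.refl {H : Subgroup SL3} (x : SL3 ⧸ H) : Rel H x x := ⟨0, 0, by rw [vv_zero, one_smul]⟩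

theorem Rel.symm {H : Subgroup SL3} {x y : SL3 ⧸ H} (h : Rel H x y) : Rel H y x := by
  obtain ⟨a, b, rfl⟩ := h
  exact ⟨-a, -b, by rw [← vv_inv, inv_smul_smul]⟩

theorem Rel.trans {H : Subgroup SL3} {x y z : SL3 ⧸ H} (h : Rel H x y) (h' : Rel H y z) : Rel H x z := by
  obtain ⟨a, b, rfl⟩ := h
  obtain ⟨c, d, rfl⟩ := h'
  exact ⟨c + a, d + b, by rw [← vv_mul, mul_smul]⟩

theorem Rel.iota {H : Subgroup SL3} {x y : SL3 ⧸ H} (h : Rel H x y) (A : GL (Fin 2) F) :
    Rel H (iota A • x) (iota A • y) := by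
  obtain ⟨a, b, rfl⟩ := h
  obtain ⟨c, d, e⟩ := iota_vv A a b
  exact ⟨c, d, by rw [← mul_smul, e, mul_smul]⟩

/-- the kernel of the action on the `V`-orbits -/
def KK (H : Subgroup SL3) : Subgroup (GL (Fin 2) F) where
  carrier := {A | ∀ x : SL3 ⧸ H, Rel H x (iota A • x)}
  one_mem' := fun x => by rw [map_one, one_smul]; exact Rel.refl x
  mul_mem' := fun {A B} hA hB x => by
    rw [map_mul, mul_smul]
    exact (hB x).trans (hA _)
  inv_mem' := fun {A} hA x => by
    have h1 := hA (BnMer.iota A⁻¹ • x)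
    rw [← mul_smul, ← map_mul, mul_inv_cancel, map_one, one_smul] at h1
    exact h1.symm

theorem KK_normal (H : Subgroup SL3) : (KK H).Normal := by
  refine ⟨fun A hA B x => ?_⟩
  have h1 := (hA (BnMer.iota B⁻¹ • x)).iota B
  rw [← mul_smul, ← mul_smul, ← mul_smul, ← map_mul, ← map_mul, ← map_mul, mul_inv_cancel, map_one, one_smul] at h1
  exact h1

/-- pigeonhole: `p + 1` points, two in the same orbit -/
theorem exists_rel {H : Subgroup SL3} (hp : p.Prime) (hF : Fintype.card F = p) (hp3 : 3 ≤ p)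
    (hH : ¬ p ∣ Nat.card H) (hidx : H.index = p ^ 3) (f : Fin (p + 1) → SL3 ⧸ H) :
    ∃ i j, i < j ∧ Rel H (f i) (f j) := by
  classical
  by_contra hcon
  push Not at hcon
  let φ : Fin (p + 1) × F × F → SL3 ⧸ H := fun t => vv t.2.1 t.2.2 • f t.1
  have hφ : Function.Injective φ := by
    rintro ⟨i, a, b⟩ ⟨j, c, d⟩ h
    have h' : vv a b • f i = vv c d • f j := h
    have hij : i = j := by
      by_contra hne
      have h1 : Rel H (f i) (f j) := by
        refine ⟨-c + a, -d + b, ?_⟩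
        rw [← vv_mul, mul_smul, h', ← vv_inv, inv_smul_smul]
      rcases lt_or_gt_of_ne hne with h2 | h2
      · exact hcon i j h2 h1
      · exact hcon j i h2 h1.symm
    subst hij
    obtain ⟨g, hg⟩ := QuotientGroup.mk_surjective (f i)
    have h2 : (vv (-c + a) (-d + b)) • f i = f i := by
      rw [← vv_mul, mul_smul, h', ← vv_inv, inv_smul_smul]
    rw [← hg] at h2
    have h3 : ((vv (-c + a) (-d + b) * g : SL3) : SL3 ⧸ H) = (g : SL3 ⧸ H) := h2
    have h4 : g⁻¹ * vv (-c + a) (-d + b) * g ∈ H := by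
      rw [eq_comm, QuotientGroup.eq] at h3
      rwa [mul_assoc]
    have h5 := eq_one_of_unip hp hF hp3 hH (vv_unip _ _) h4
    rw [← vv_zero] at h5
    obtain ⟨h6, h7⟩ := vv_injective h5
    have h8 : a = c := by linear_combination h6
    have h9 : b = d := by linear_combination h7
    rw [h8, h9]
  have : Finite (SL3 ⧸ H) := inferInstance
  have hle := Nat.card_le_card_of_injective φ hφ
  rw [Nat.card_prod, Nat.card_prod, Nat.card_eq_fintype_card (α := F), hF, Nat.card_eq_fintype_card (α := Fin (p + 1)),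
    Fintype.card_fin] at hle
  have h1 : Nat.card (SL3 ⧸ H) = p ^ 3 := hidx
  rw [h1] at hle
  nlinarith [hp.pos]

/-- an element of order `2 ^ (m + 1)` acts with `2 ^ (m - 1)`-th power trivial on the orbits -/
theorem pow_mem_KK {H : Subgroup SL3} (hp : p.Prime) (hF : Fintype.card F = p) (hp3 : 3 ≤ p)
    (hH : ¬ p ∣ Nat.card H) (hidx : H.index = p ^ 3) (hm : p + 1 = 2 ^ m) {g : GL (Fin 2) F}
    (hg : orderOf g = 2 ^ (m + 1)) : g ^ 2 ^ (m - 1) ∈ KK H := by
  intro x
  obtain ⟨i, j, hij, hR⟩ := exists_rel hp hF hp3 hH hidx (fun i => iota (g ^ (i : ℕ)) • x)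
  -- the subgroup of exponents
  let E : AddSubgroup ℤ :=
    { carrier := {n | ∀ y : SL3 ⧸ H, Rel H x y → Rel H x (iota (g ^ n) • y)}
      zero_mem' := fun y hy => by rwa [_root_.zpow_zero, map_one, one_smul]
      add_mem' := fun {a b} ha hb y hy => by
        rw [_root_.zpow_add, map_mul, mul_smul]
        exact ha _ (hb y hy)
      neg_mem' := fun {a} ha y hy => by
        have h1 := (ha x (Rel.refl x)).symm.trans hy
        have h2 := h1.iota (g ^ (-a))
        rw [← mul_smul, ← map_mul, ← _root_.zpow_add, neg_add_cancel, _root_.zpow_zero, map_one, one_smul] at h2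
        exact h2 }
  have hlt : (i : ℕ) < (j : ℕ) := hij
  have h1 : ((j : ℕ) - (i : ℕ) : ℤ) ∈ E := by
    intro y hy
    have h2 := hR.iota (g ^ (-((i : ℕ) : ℤ)))
    rw [← mul_smul, ← mul_smul, ← map_mul, ← map_mul, ← _root_.zpow_natCast, ← _root_.zpow_natCast, ← _root_.zpow_add, ← _root_.zpow_add,
      neg_add_cancel, _root_.zpow_zero, map_one, one_smul, neg_add_eq_sub] at h2
    exact h2.trans (hy.iota _)
  have h2 : ((2 ^ (m + 1) : ℕ) : ℤ) ∈ E := by
    intro y hy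
    rwa [_root_.zpow_natCast, ← hg, pow_orderOf_eq_one, map_one, one_smul]
  have h3 : ((Nat.gcd (j - i) (2 ^ (m + 1)) : ℕ) : ℤ) ∈ E := by
    rw [Nat.gcd_eq_gcd_ab]
    refine E.add_mem ?_ ?_
    · rw [mul_comm, ← smul_eq_mul]
      apply E.zsmul_mem
      rwa [Nat.cast_sub hlt.le]
    · rw [mul_comm, ← smul_eq_mul]
      exact E.zsmul_mem h2 _
  have h4 : Nat.gcd (j - i) (2 ^ (m + 1)) ∣ 2 ^ (m - 1) := by
    obtain ⟨a, ha, ha2⟩ := (Nat.dvd_prime_pow Nat.prime_two).1 (Nat.gcd_dvd_right ((j : ℕ) - i) (2 ^ (m + 1)))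
    rw [ha2]
    apply pow_dvd_pow
    have h5 : 2 ^ a ≤ (j : ℕ) - i := by
      rw [← ha2]
      exact Nat.gcd_le_left _ (by omega)
    have h6 : 2 ^ a < 2 ^ m := by
      have := j.2
      omega
    have h7 := (Nat.pow_lt_pow_iff_right (by norm_num : 1 < 2)).1 h6
    omega
  obtain ⟨c, hc⟩ := h4
  have h5 : ((2 ^ (m - 1) : ℕ) : ℤ) ∈ E := by
    rw [hc, mul_comm, Nat.cast_mul, ← smul_eq_mul]
    exact E.zsmul_mem h3 _
  have h6 := h5 x (Rel.refl x)
  rwa [_root_.zpow_natCast] at h6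

theorem noIndex {H : Subgroup SL3} (hp : p.Prime) (hF : Fintype.card F = p)
    (hH : ¬ p ∣ Nat.card H) (hidx : H.index = p ^ 3) (hm : p + 1 = 2 ^ m) (hm3 : 3 ≤ m) : False := by
  have hp7 : 7 ≤ p := by
    have : 2 ^ 3 ≤ 2 ^ m := Nat.pow_le_pow_right (by norm_num) hm3
    omega
  -- an element of order `2 ^ (m + 1)`
  obtain ⟨K, _, _, hK, φ, hφ⟩ := Cfsg.Agent.LieExceptional.CyclicSylow.exists_singer F 2
  obtain ⟨u, hu⟩ := IsCyclic.exists_generator (α := Kˣ)
  have hou : orderOf u = p ^ 2 - 1 := by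
    rw [orderOf_eq_card_of_forall_mem_zpowers hu, Nat.card_units, hK, Nat.card_eq_fintype_card, hF]
  have hfac : p ^ 2 - 1 = (p - 1) * (p + 1) := by
    have := Nat.sq_sub_sq p 1
    rw [one_pow] at this
    rw [this, mul_comm]
  obtain ⟨c, hc⟩ : ∃ c, p - 1 = 2 * c ∧ Odd c := by
    refine ⟨2 ^ (m - 1) - 1, ?_, ?_⟩
    · obtain ⟨k, rfl⟩ : ∃ k, m = k + 1 := ⟨m - 1, by omega⟩
      rw [Nat.add_sub_cancel, Nat.mul_sub, ← pow_succ']
      omega
    · apply Nat.Even.sub_odd (Nat.one_le_two_pow) _ odd_one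
      exact (even_two).pow_of_ne_zero (by omega)
  have hdvd : 2 ^ (m + 1) ∣ orderOf u := by
    rw [hou, hfac, hm, hc.1, pow_succ]
    exact ⟨c, by ring⟩
  have hg0 : orderOf (u ^ (orderOf u / 2 ^ (m + 1))) = 2 ^ (m + 1) :=
    orderOf_pow_orderOf_div (orderOf_pos u).ne' hdvd
  obtain ⟨g, hg⟩ : ∃ g : GL (Fin 2) F, orderOf g = 2 ^ (m + 1) :=
    ⟨φ (u ^ (orderOf u / 2 ^ (m + 1))), by rw [orderOf_injective φ hφ, hg0]⟩
  have hyK := pow_mem_KK hp hF (by omega) hH hidx hm hg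
  set y : GL (Fin 2) F := g ^ 2 ^ (m - 1) with hy
  have hy2 : y ^ 2 ≠ 1 := by
    rw [hy, ← pow_mul, ← pow_succ, Nat.sub_add_cancel (by omega)]
    intro h
    have h1 := orderOf_dvd_of_pow_eq_one h
    rw [hg] at h1
    have := Nat.le_of_dvd (by positivity) h1
    rw [pow_succ] at this
    have : 0 < 2 ^ m := by positivity
    omega
  -- determinant one
  have hdet : y.1.det = 1 := by
    let δ : Fˣ := Matrix.GeneralLinearGroup.det g
    have h1 : δ ^ 2 ^ (m + 1) = 1 := by rw [← map_pow, ← hg, pow_orderOf_eq_one, map_one]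
    have h2 : δ ^ (p - 1) = 1 := by
      have := pow_card_eq_one' (x := δ)
      rwa [Nat.card_units, Nat.card_eq_fintype_card, hF] at this
    have h3 : δ ^ 2 = 1 := by
      rw [← orderOf_dvd_iff_pow_eq_one] at h1 h2 ⊢
      rw [hc.1] at h2
      obtain ⟨a, -, ha⟩ := (Nat.dvd_prime_pow Nat.prime_two).1 h1
      rw [ha] at h2 ⊢
      have h4 : Nat.Coprime (2 ^ (a - 1)) c := Nat.Coprime.pow_left _ ((Nat.coprime_two_left).2 hc.2)
      rcases Nat.eq_zero_or_pos a with rfl | ha0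
      · simp
      · obtain ⟨b, rfl⟩ : ∃ b, a = b + 1 := ⟨a - 1, by omega⟩
        rw [Nat.add_sub_cancel] at h4
        rw [pow_succ, mul_comm] at h2 ⊢
        have h5 := (Nat.mul_dvd_mul_iff_left (by norm_num : 0 < 2)).1 h2
        have h6 : 2 ^ b ∣ 1 := h4 ▸ Nat.dvd_gcd dvd_rfl h5
        rw [Nat.dvd_one.1 h6, mul_one]
    have h4 : Matrix.GeneralLinearGroup.det y = 1 := by
      rw [hy, map_pow]
      change δ ^ _ = 1
      obtain ⟨k, rfl⟩ : ∃ k, m = k + 2 := ⟨m - 2, by omega⟩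
      have e : 2 ^ (k + 2 - 1) = 2 * 2 ^ k := by
        rw [show k + 2 - 1 = k + 1 by omega, pow_succ, mul_comm]
      rw [e, pow_mul, h3, one_pow]
    exact congrArg Units.val h4
  -- the normal subgroup of `SL 2`
  let j : SL2 →* GL (Fin 2) F := Matrix.SpecialLinearGroup.toGL
  let N : Subgroup SL2 := (KK H).comap j
  have hKn : (KK H).Normal := KK_normal H
  have hNn : N.Normal := Subgroup.Normal.comap hKn j
  let y' : SL2 := ⟨y.1, hdet⟩
  have hjy : j y' = y := Units.ext rfl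
  have hy'N : y' ∈ N := by
    change j y' ∈ KK H
    rw [hjy]
    exact hyK
  have hy'c : y' ∉ Subgroup.center SL2 := by
    intro h
    obtain ⟨s, hs, hs2⟩ := Matrix.SpecialLinearGroup.mem_center_iff.1 h
    apply hy2
    apply Units.ext
    rw [Units.val_pow_eq_pow_val, Units.val_one]
    change y'.1 ^ 2 = 1
    rw [← hs2, ← map_pow, ← Fintype.card_fin 2]
    rw [hs, map_one]
  have h4F : 3 < Fintype.card F := by omega
  have hsimp := Cfsg.Agent.TwoFusion.SLTwoFacts.isSimpleGroup_psl h4F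
  have hperf := Cfsg.Agent.TwoFusion.SLTwoFacts.commutator_eq_top h4F
  have hNt : N = ⊤ := by
    let π : SL2 →* Matrix.ProjectiveSpecialLinearGroup (Fin 2) F := QuotientGroup.mk' _
    have hπ : Function.Surjective π := QuotientGroup.mk'_surjective _
    have h1 : (N.map π).Normal := hNn.map π hπ
    rcases h1.eq_bot_or_eq_top with h2 | h2
    · exfalso
      apply hy'c
      have h3 : π y' ∈ N.map π := ⟨y', hy'N, rfl⟩
      rw [h2, Subgroup.mem_bot] at h3
      exact (QuotientGroup.eq_one_iff y').1 h3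
    · have h3 : N ⊔ Subgroup.center SL2 = ⊤ := by
        rw [eq_top_iff]
        intro a _
        have h4 : π a ∈ N.map π := by rw [h2]; exact Subgroup.mem_top _
        obtain ⟨b, hb, hab⟩ := h4
        have h5 : b⁻¹ * a ∈ Subgroup.center SL2 := QuotientGroup.eq.1 hab
        have e : a = b * (b⁻¹ * a) := by group
        rw [e]
        exact mul_mem (Subgroup.mem_sup_left hb) (Subgroup.mem_sup_right h5)
      rw [eq_top_iff, ← hperf, commutator_def, ← h3]
      rw [Subgroup.commutator_le]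
      intro a ha b hb
      obtain ⟨a1, ha1, z1, hz1, rfl⟩ := Subgroup.mem_sup_of_normal_left.1 ha
      obtain ⟨b1, hb1, z2, hz2, rfl⟩ := Subgroup.mem_sup_of_normal_left.1 hb
      have e : ⁅a1 * z1, b1 * z2⁆ = ⁅a1, b1⁆ := by
        have c1 : ∀ g, z1 * g = g * z1 := fun g => (Subgroup.mem_center_iff.1 hz1 g).symm
        have c2 : ∀ g, z2 * g = g * z2 := fun g => (Subgroup.mem_center_iff.1 hz2 g).symm
        rw [commutatorElement_def, commutatorElement_def]
        calc a1 * z1 * (b1 * z2) * (a1 * z1)⁻¹ * (b1 * z2)⁻¹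
            = a1 * (z1 * (b1 * z2)) * (z1⁻¹ * a1⁻¹) * (z2⁻¹ * b1⁻¹) := by group
          _ = a1 * (b1 * (z2 * (a1⁻¹ * z2⁻¹))) * b1⁻¹ := by rw [c1]; group
          _ = a1 * b1 * a1⁻¹ * b1⁻¹ := by rw [c2]; group
      rw [e]
      rw [commutatorElement_def]
      exact mul_mem (mul_mem (mul_mem ha1 hb1) (inv_mem ha1)) (inv_mem hb1)
  -- a transvection
  let t : SL2 := ⟨!![1, 1; 0, 1], by rw [Matrix.det_fin_two]; simp⟩
  have htN : j t ∈ KK H := by
    have : t ∈ N := by rw [hNt]; exact Subgroup.mem_top t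
    exact this
  obtain ⟨a, b, hab⟩ := htN ((1 : SL3) : SL3 ⧸ H)
  have h1 : ((iota (j t) * 1 : SL3) : SL3 ⧸ H) = ((vv a b * 1 : SL3) : SL3 ⧸ H) := hab
  rw [mul_one, mul_one, eq_comm, QuotientGroup.eq, vv_inv] at h1
  have hz : ((vv (-a) (-b) * iota (j t)).1 - 1) ^ 3 = 0 := by
    have e : (vv (-a) (-b) * iota (j t)).1 = im (1 : Matrix (Fin 2) (Fin 2) F) 1 (-a) (-b) *
        im t.1 (t.1.det)⁻¹ 0 0 := rfl
    rw [e, im_mul, t.2, inv_one, mul_one, one_mul]
    exact im_unip _ (by simp [t]) (by simp [t]) (by simp [t]) _ _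
  have h2 := eq_one_of_unip (g := 1) hp hF (by omega) hH hz (by
    rw [inv_one, one_mul, mul_one]
    exact h1)
  have h3 := congrFun (congrFun (congrArg Subtype.val h2) 0) 1
  have e : (vv (-a) (-b) * iota (j t)).1 = im (1 : Matrix (Fin 2) (Fin 2) F) 1 (-a) (-b) *
      im t.1 (t.1.det)⁻¹ 0 0 := rfl
  rw [e, im_mul] at h3
  simp [im, t] at h3

end main

end Cfsg.Agent.H288.BnMer
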