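import Cfsg.Agent.H288.BnHall
import Cfsg.Agent.H163.PG.Prim
import Cfsg.Agent.S0243
import Cfsg.Agent.S0245
import Cfsg.Agent.S0246
import Cfsg.Agent.S0280

/-!
# The index trick: numerical part (helper288, S5907)

* `Hall.data` : the exponent `k` of the index;
* `Hall.dvd` : `e ∣ k` for a primitive prime divisor of `p ^ e - 1` dividing the order;
* `supp_PSU3`, ...
-/

set_option autoImplicit false
set_option linter.unusedSectionVars false

namespace Cfsg.Agent.H288.BnNum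

open Subgroup Cfsg.Agent.H339.MaxCl Cfsg.Agent.H288.BnHall Cfsg.Agent.H163.PG

section gen

variable {p : ℕ} {K : Type*} [Group K] [Finite K] {H : Subgroup K}

/-- the index is `1` modulo every prime `r ≠ p` -/
theorem Hall.modEq (hH : Hall p H) {k : ℕ} (hk : H.index = p ^ k) {r : ℕ} (hr : r.Prime) (hrp : r ≠ p)
    (hrK : r ∣ Nat.card K) : r ∣ p ^ k - 1 := by
  have := Fact.mk hr
  obtain ⟨R, hR⟩ := hH.2 r hrp hrK
  have h1 := Cfsg.Agent.H940.MaxCls.index_modEq_one R hR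
  rw [hk] at h1
  have h2 : 1 ≤ p ^ k := by
    rw [← hk]
    exact Nat.pos_of_ne_zero Subgroup.index_ne_zero_of_finite
  exact (Nat.modEq_iff_dvd' h2).1 h1.symm

theorem Hall.dvd (hp : p.Prime) (hH : Hall p H) {k : ℕ} (hk : H.index = p ^ k) {r e : ℕ} (hr : Ppd p e r)
    (he : 1 ≤ e) (hrK : r ∣ Nat.card K) : e ∣ k :=
  (hr.dvd_iff hp.one_lt.le k).1 (Hall.modEq hH hk hr.prime (hr.ne he) hrK)

theorem Hall.le (hp : p.Prime) {k : ℕ} (hk : H.index = p ^ k) {g N m : ℕ}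
    (hc : g * Nat.card K = p ^ N * m) (hm : ¬ p ∣ m) : k ≤ N := by
  have h1 : p ^ k ∣ p ^ N * m := by
    rw [← hc, ← hk]
    exact (Subgroup.index_dvd_card H).mul_left g
  have h2 : (p ^ k).Coprime m := Nat.Coprime.pow_left k ((Nat.Prime.coprime_iff_not_dvd hp).2 hm)
  exact (Nat.pow_dvd_pow_iff_le_right hp.one_lt).1 (h2.dvd_of_dvd_mul_right h1)

end gen

/-- `p` does not divide `p ^ e - 1` -/
theorem not_dvd_sub {p e : ℕ} (hp : p.Prime) (he : 1 ≤ e) : ¬ p ∣ p ^ e - 1 := by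
  intro h
  have h1 : p ∣ p ^ e := dvd_pow_self p (by omega)
  have h2 : 1 ≤ p ^ e := Nat.one_le_pow _ _ hp.pos
  have h3 : p ∣ 1 := by
    have := (Nat.dvd_sub h1 h)
    rwa [Nat.sub_sub_self h2] at this
  exact hp.one_lt.ne' (Nat.dvd_one.1 h3)

theorem not_dvd_add {p e : ℕ} (hp : p.Prime) (he : 1 ≤ e) : ¬ p ∣ p ^ e + 1 := by
  intro h
  have h1 : p ∣ p ^ e := dvd_pow_self p (by omega)
  exact hp.one_lt.ne' (Nat.dvd_one.1 ((Nat.dvd_add_right h1).1 h))

section psu3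

variable {F : Type*} [Field F] [Fintype F] {q p : ℕ}

theorem exists_q (hF : Fintype.card F = q ^ 2) [hp : Fact p.Prime] [CharP F p] : ∃ f, 1 ≤ f ∧ q = p ^ f := by
  obtain ⟨n, -, hn⟩ := FiniteField.card F p
  rw [hF] at hn
  have h1 : q ∣ p ^ (n : ℕ) := hn ▸ dvd_pow_self q two_ne_zero
  obtain ⟨f, -, hf⟩ := (Nat.dvd_prime_pow hp.out).1 h1
  refine ⟨f, ?_, hf⟩
  rcases Nat.eq_zero_or_pos f with rfl | h2
  · rw [pow_zero] at hf
    rw [hf] at hF
    have := Fintype.one_lt_card (α := F)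
    omega
  · exact h2

theorem noHall_PSU3 (hF : Fintype.card F = q ^ 2) (hq : 2 < q) [hp : Fact p.Prime] [CharP F p] :
    NoHall p (Cfsg.PSU 3 F q) := by
  intro H hH
  obtain ⟨k, hk0, hk⟩ := hH.1
  obtain ⟨f, hf, hqf⟩ := exists_q (p := p) hF
  have hc := S0280.result hF 3 (by norm_num)
  simp only [Finset.prod_range_succ, Finset.prod_range_zero] at hc
  norm_num at hc
  rw [← mul_assoc] at hc
  obtain ⟨r, hr⟩ := Ppd.exists (p := p) (n := 6 * f) hp.out.two_le (by omega) (by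
    rintro ⟨rfl, h6⟩
    have : f = 1 := by omega
    subst this
    rw [pow_one] at hqf
    omega)
  have hle : k ≤ 3 * f := by
    refine Hall.le (m := (q + 1) * (q ^ 2 - 1) * (q ^ 3 + 1)) hp.out hk (g := (Nat.gcd 3 (q + 1) * (q + 1))) ?_ ?_
    · rw [hc, hqf]
      ring
    · rw [hp.out.dvd_mul, hp.out.dvd_mul, hqf, ← pow_mul, ← pow_mul]
      push Not
      exact ⟨⟨not_dvd_add hp.out hf, not_dvd_sub hp.out (by omega)⟩, not_dvd_add hp.out (by omega)⟩
  have hrK : r ∣ Nat.card (Cfsg.PSU 3 F q) := by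
    have h1 : r ∣ q ^ 3 + 1 := by
      have h2 : r ∣ (q ^ 3 - 1) * (q ^ 3 + 1) := by
        have h3 : r ∣ p ^ (6 * f) - 1 := (hr.dvd_iff hp.out.one_lt.le _).2 dvd_rfl
        have h4 : (q ^ 3 - 1) * (q ^ 3 + 1) = p ^ (6 * f) - 1 := by
          rw [mul_comm, ← Nat.sq_sub_sq, one_pow, hqf, ← pow_mul, ← pow_mul]
          congr 2
          ring
        rw [h4]
        exact h3
      rcases hr.prime.dvd_mul.1 h2 with h3 | h3
      · exfalso
        rw [hqf, ← pow_mul, hr.dvd_iff hp.out.one_lt.le] at h3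
        have := Nat.le_of_dvd (by omega) h3
        omega
      · exact h3
    have h2 : r ∣ Nat.gcd 3 (q + 1) * (q + 1) * Nat.card (Cfsg.PSU 3 F q) := by
      rw [hc]
      exact (h1.mul_left _).mul_left _
    have h3 : ¬ r ∣ q + 1 := by
      intro h
      have := hr.dvd_add_one hp.out.one_lt.le (m := f) (hqf ▸ h)
      have := Nat.le_of_dvd (by omega) this
      omega
    rcases hr.prime.dvd_mul.1 h2 with h4 | h4
    · rcases hr.prime.dvd_mul.1 h4 with h5 | h5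
      · exact absurd (h5.trans (Nat.gcd_dvd_right _ _)) h3
      · exact absurd h5 h3
    · exact h4
  have h6 := Hall.dvd hp.out hH hk hr (by omega) hrK
  have := Nat.le_of_dvd hk0 h6
  omega

end psu3

universe u v

/-- the row `PSU 3 q` -/
theorem supp_PSU3 {F : Type v} [Field F] [Fintype F] {q : ℕ} (hF : Fintype.card F = q ^ 2) (hq : 2 < q)
    [IsSimpleGroup (Cfsg.PSU 3 F q)] (hns : ¬ Group.IsSolvable (Cfsg.PSU 3 F q)) : Supp.{u} 3 (Cfsg.PSU 3 F q) := by
  obtain ⟨p, hp⟩ := CharP.exists F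
  have : Fact p.Prime := ⟨CharP.char_is_prime F p⟩
  obtain ⟨m, hm, h⟩ := Cfsg.Agent.Omega.ML.Ex.Typ.typ_PSU (p := p) hF (N := 3) le_rfl
  exact supp_of_noHall hns h (by omega) (noHall_PSU3 hF hq)

end Cfsg.Agent.H288.BnNum
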