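import Cfsg.Agent.H288.BnSp
import Cfsg.Agent.H288.BnMer
import Cfsg.Agent.S0249

/-!
# The index trick: `PSL 3 q` (helper288, S5907)
-/

set_option autoImplicit false
set_option linter.unusedSectionVars false

namespace Cfsg.Agent.H288.BnPsl

open Subgroup Cfsg.Agent.H339.MaxCl Cfsg.Agent.H288.BnHall Cfsg.Agent.H163.PG Cfsg.Agent.H288.BnNum
  Cfsg.Agent.H288.BnSp

theorem not_dvd_card {p : ℕ} {K : Type*} [Group K] [Finite K] {H : Subgroup K} (hp : p.Prime) {g N m : ℕ}
    (hk : H.index = p ^ N) (hc : g * Nat.card K = p ^ N * m) (hm : ¬ p ∣ m) : ¬ p ∣ Nat.card H := by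
  intro h
  apply hm
  have h1 := H.card_mul_index
  rw [hk] at h1
  rw [← h1] at hc
  have h2 : p ^ N * (g * Nat.card H) = p ^ N * m := by rw [← hc]; ring
  rw [← Nat.eq_of_mul_eq_mul_left (pow_pos hp.pos N) h2]
  exact h.mul_left g

section psl

variable {F : Type*} [Field F] [Fintype F]

local notation "PSL3" => Matrix.ProjectiveSpecialLinearGroup (Fin 3) F
local notation "SL3" => Matrix.SpecialLinearGroup (Fin 3) F

theorem noHall_PSL3 (hns : ¬ Group.IsSolvable PSL3) {p : ℕ} [hp : Fact p.Prime] [CharP F p] : NoHall p PSL3 := by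
  intro H hH
  obtain ⟨k, hk0, hk⟩ := hH.1
  obtain ⟨f, hf, hqf⟩ := exists_pow (F := F) (p := p)
  have hq2 : 2 ≤ Fintype.card F := Fintype.one_lt_card
  have hc := S0243.result (F := F) (q := Fintype.card F) rfl 3 (by norm_num)
  simp only [Fin.prod_univ_three, Fin.val_zero, Fin.val_one, Fin.val_two, pow_zero, pow_one] at hc
  set q := Fintype.card F with hq
  have hc2 : (Nat.gcd 3 (q - 1) * (q - 1)) * Nat.card PSL3 = q ^ 3 * ((q ^ 3 - 1) * (q ^ 2 - 1) * (q - 1)) := by
    rw [mul_assoc, hc]
    have e1 : q ^ 3 - q = q * (q ^ 2 - 1) := by rw [Nat.mul_sub, mul_one]; congr 1; ring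
    have e2 : q ^ 3 - q ^ 2 = q ^ 2 * (q - 1) := by rw [Nat.mul_sub, mul_one]; congr 1
    rw [e1, e2]
    ring
  have hpm : ¬ p ∣ (q ^ 3 - 1) * (q ^ 2 - 1) * (q - 1) := by
    rw [hp.out.dvd_mul, hp.out.dvd_mul, hqf, ← pow_mul, ← pow_mul]
    push Not
    exact ⟨⟨not_dvd_sub hp.out (by omega), not_dvd_sub hp.out (by omega)⟩, not_dvd_sub hp.out hf⟩
  have hc3 : (Nat.gcd 3 (q - 1) * (q - 1)) * Nat.card PSL3 = p ^ (3 * f) * ((q ^ 3 - 1) * (q ^ 2 - 1) * (q - 1)) := by
    rw [hc2]
    congr 1
    rw [hqf, ← pow_mul, mul_comm f]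
  have hle : k ≤ 3 * f := Hall.le hp.out hk hc3 hpm
  -- primes dividing the order
  have hdiv : ∀ r : ℕ, r.Prime → ¬ r ∣ q - 1 → (r ∣ q ^ 3 - 1 ∨ r ∣ q ^ 2 - 1) → r ∣ Nat.card PSL3 := by
    intro r hr h1 h2
    have h3 : r ∣ (Nat.gcd 3 (q - 1) * (q - 1)) * Nat.card PSL3 := by
      rw [hc2]
      apply Dvd.dvd.mul_left
      apply Dvd.dvd.mul_right
      rcases h2 with h2 | h2
      · exact h2.mul_right _
      · exact h2.mul_left _
    rcases hr.dvd_mul.1 h3 with h4 | h4
    · rcases hr.dvd_mul.1 h4 with h5 | h5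
      · exact absurd (h5.trans (Nat.gcd_dvd_right _ _)) h1
      · exact absurd h5 h1
    · exact h4
  by_cases h26 : p = 2 ∧ 3 * f = 6
  · -- `q = 4`
    obtain ⟨h2, h6⟩ := h26
    subst h2
    have hf2 : f = 2 := by omega
    subst hf2
    have hq4 : q = 4 := by rw [hqf]; norm_num
    have h5 : 5 ∣ 2 ^ k - 1 := Hall.modEq hH hk (by norm_num) (by norm_num)
      (hdiv 5 (by norm_num) (by rw [hq4]; norm_num) (Or.inr (by rw [hq4]; norm_num)))
    have h7 : 7 ∣ 2 ^ k - 1 := Hall.modEq hH hk (by norm_num) (by norm_num)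
      (hdiv 7 (by norm_num) (by rw [hq4]; norm_num) (Or.inl (by rw [hq4]; norm_num)))
    interval_cases k <;> omega
  · obtain ⟨r, hr⟩ := Ppd.exists (p := p) (n := 3 * f) hp.out.two_le (by omega) h26
    have hrK : r ∣ Nat.card PSL3 := by
      refine hdiv r hr.prime ?_ (Or.inl ?_)
      · rw [hqf, hr.dvd_iff hp.out.one_lt.le]
        intro h
        have := Nat.le_of_dvd (by omega) h
        omega
      · rw [hqf, ← pow_mul, hr.dvd_iff hp.out.one_lt.le, mul_comm]
    have h3f := Hall.dvd hp.out hH hk hr (by omega) hrK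
    have hk3 : k = 3 * f := le_antisymm hle (Nat.le_of_dvd hk0 h3f)
    -- the second prime
    have hs : ¬ ∃ s, Ppd p (2 * f) s := by
      rintro ⟨s, hs⟩
      have hsK : s ∣ Nat.card PSL3 := by
        refine hdiv s hs.prime ?_ (Or.inr ?_)
        · rw [hqf, hs.dvd_iff hp.out.one_lt.le]
          intro h
          have := Nat.le_of_dvd (by omega) h
          omega
        · rw [hqf, ← pow_mul, hs.dvd_iff hp.out.one_lt.le, mul_comm]
      have h1 := Hall.dvd hp.out hH hk hs (by omega) hsK
      rw [hk3] at h1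
      have h2 := (Nat.mul_dvd_mul_iff_right (by omega : 0 < f)).1 h1
      omega
    by_cases h8 : p = 2 ∧ 2 * f = 6
    · obtain ⟨h2, h6⟩ := h8
      subst h2
      have hf3 : f = 3 := by omega
      subst hf3
      have hq8 : q = 8 := by rw [hqf]; norm_num
      have h3 : 3 ∣ 2 ^ k - 1 := Hall.modEq hH hk (by norm_num) (by norm_num)
        (hdiv 3 (by norm_num) (by rw [hq8]; norm_num) (Or.inr (by rw [hq8]; norm_num)))
      rw [hk3] at h3
      norm_num at h3
    · have hf1 : f = 1 := by
        by_contra hne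
        exact hs (Ppd.exists (p := p) (n := 2 * f) hp.out.two_le (by omega) h8)
      subst hf1
      rw [pow_one] at hqf
      obtain ⟨m, hm⟩ : ∃ m, p + 1 = 2 ^ m := by
        by_contra hne
        exact hs (Ppd.exists_two hp.out.two_le hne)
      have hm2 : 2 ≤ m := by
        have h1 := hp.out.two_le
        rcases m with _ | _ | m
        · simp at hm; omega
        · simp at hm; omega
        · omega
      rw [mul_one] at hk3 hc3
      rw [hk3] at hk
      have hHp := not_dvd_card hp.out hk hc3 hpm
      rcases Nat.lt_or_ge m 3 with hm3 | hm3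
      · -- `p = 3`
        have : m = 2 := by omega
        subst this
        have hp3 : p = 3 := by omega
        subst hp3
        have hcen : Subgroup.center SL3 = ⊥ := by
          rw [eq_bot_iff]
          intro z hz
          obtain ⟨s, hs1, hs2⟩ := Matrix.SpecialLinearGroup.mem_center_iff.1 hz
          rw [Fintype.card_fin, ← hqf, hq, FiniteField.pow_card] at hs1
          rw [hs1, map_one] at hs2
          exact Subtype.ext hs2.symm
        let e : PSL3 ≃* SL3 := (QuotientGroup.quotientMulEquivOfEq hcen).trans QuotientGroup.quotientBot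
        let ρ : PSL3 →* Matrix.GeneralLinearGroup (Fin 3) F :=
          (Matrix.SpecialLinearGroup.toGL : SL3 →* Matrix.GeneralLinearGroup (Fin 3) F).comp e.toMonoidHom
        have hρ : Function.Injective ρ := by
          intro a b hab
          have h1 := congrArg Units.val hab
          apply e.injective
          exact Subtype.ext h1
        have := Fact.mk hr.prime
        obtain ⟨R, hR⟩ := hH.2 r (hr.ne (by omega)) hrK
        have hcop : (Nat.card (normalizer ((R : Subgroup PSL3) : Set PSL3))).Coprime 3 := by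
          have h1 : ¬ 3 ∣ Nat.card (normalizer ((R : Subgroup PSL3) : Set PSL3)) :=
            fun h => hHp (h.trans (Subgroup.card_dvd_of_le hR))
          exact ((Nat.Prime.coprime_iff_not_dvd (by norm_num)).2 h1).symm
        have hsimp : IsSimpleGroup PSL3 := S0249.result 3 le_rfl
        have ho : orderOf ((3 : ℕ) : ZMod r) = 3 := by
          have := hr.ord
          rwa [mul_one] at this
        exact Gal.simple_false hns R hrK (Gal.normalizer_le_centralizer (p := 3) (q := 3) (by rw [← hqf, hq]) (by norm_num)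
          hr.prime (hr.ne (by omega)) ho ρ hρ R hrK hcop)
      · have hp7 : 7 ≤ p := by
          have : 2 ^ 3 ≤ 2 ^ m := Nat.pow_le_pow_right (by norm_num) hm3
          omega
        have hsurj : Function.Surjective (QuotientGroup.mk' (Subgroup.center SL3)) := QuotientGroup.mk'_surjective _
        refine BnMer.noIndex (F := F) (H := H.comap (QuotientGroup.mk' (Subgroup.center SL3))) hp.out
          (by rw [← hq, hqf]) ?_ ?_ hm hm3
        · intro hd
          obtain ⟨z, hz⟩ := exists_prime_orderOf_dvd_card' p hd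
          have hz1 : orderOf (z : SL3) = p := by rw [Subgroup.orderOf_coe, hz]
          have h1 : QuotientGroup.mk' (Subgroup.center SL3) (z : SL3) = 1 := by
            have h2 : orderOf (QuotientGroup.mk' (Subgroup.center SL3) (z : SL3)) ∣ p := by
              rw [← hz1]
              exact orderOf_map_dvd _ _
            rcases (Nat.dvd_prime hp.out).1 h2 with h3 | h3
            · exact orderOf_eq_one_iff.1 h3
            · exfalso
              apply hHp
              rw [← h3]
              exact Subgroup.orderOf_dvd_natCard H z.2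
          have h2 : (z : SL3) ∈ Subgroup.center SL3 := (QuotientGroup.eq_one_iff (z : SL3)).1 h1
          obtain ⟨s, hs1, hs2⟩ := Matrix.SpecialLinearGroup.mem_center_iff.1 h2
          have h3 : (z : SL3) ^ 3 = 1 := by
            apply Subtype.ext
            rw [Matrix.SpecialLinearGroup.coe_pow, ← hs2, ← map_pow]
            rw [Fintype.card_fin] at hs1
            rw [hs1, map_one]
            rfl
          have h4 := orderOf_dvd_of_pow_eq_one h3
          rw [hz1] at h4
          have := Nat.le_of_dvd (by norm_num) h4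
          omega
        · rw [Subgroup.index_comap_of_surjective _ hsurj, hk]

universe u v

/-- the row `PSL 3 q` -/
theorem supp_PSL3 {F : Type v} [Field F] [Fintype F]
    (hns : ¬ Group.IsSolvable (Matrix.ProjectiveSpecialLinearGroup (Fin 3) F)) :
    Supp.{u} 3 (Matrix.ProjectiveSpecialLinearGroup (Fin 3) F) := by
  obtain ⟨p, hp⟩ := CharP.exists F
  have : Fact p.Prime := ⟨CharP.char_is_prime F p⟩
  have h := Cfsg.Agent.Omega.ML.Ex.Typ.typ_PSL (F := F) 2 (p := p)
  have hsimp : IsSimpleGroup (Matrix.ProjectiveSpecialLinearGroup (Fin 3) F) := S0249.result 3 le_rfl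
  exact supp_of_noHall hns h (by norm_num) (noHall_PSL3 hns)

end psl

end Cfsg.Agent.H288.BnPsl
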