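import Cfsg.Agent.H288.BnAbs
import Cfsg.Agent.H339.RgdQuot
import Cfsg.Agent.KFacts.RgdLieCharP
import Cfsg.Agent.Tits.Gate
import Cfsg.Agent.Mrg.Omega.ML.Ex.Typ.List

/-!
# The parabolic system of a root group datum; diagrams of rank at least three (helper288, S5907)

* `parSys` : a group generated by a root group datum has a `ParSys`;
* `comm_iff` : the minimal parabolics `P_i`, `P_j` satisfy `P_j P_i ⊆ P_i P_j` iff `M i j = 2`;
* `exists_two_nbrs`, `exists_leaf` : a connected finite diagram with at least three nodes has a node with two neighbours and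
  a node without two neighbours;
* `supp_three` : `Supp 3 K` for every simple `K` generated by a root group datum of rank at least three.
-/

set_option autoImplicit false
set_option linter.unusedSectionVars false
set_option linter.style.haveILetI false

namespace Cfsg.Agent.H288.BnRgd

open CoxeterSystem Cfsg.Agent.ChevalleyStructure.CoxeterGeom Cfsg.Agent.Tits.Roots Cfsg.Agent.Tits.Core
  Cfsg.Agent.Tits.RootComb Cfsg.Agent.Tits.Exchange Cfsg.Agent.Nodes.Reps Cfsg.Agent.Nodes.BNOf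
  Cfsg.Agent.Nodes.StabComb Cfsg.Agent.Nodes.Bruhat Cfsg.Agent.Nodes.OppDec Cfsg.Agent.Nodes.LeviDec
  Cfsg.Agent.KFacts.RgdCharP Cfsg.Agent.KFacts.RgdVJ
open Cfsg.Agent.H288.BnAbs

variable {I W Y : Type*} [Fintype I] [DecidableEq I] [Group W] [Group Y] {M : CoxeterMatrix I}
  {cs : CoxeterSystem M W} {A : I → I → ℤ} {h : IsCartan M A} {p : ℕ} {T : Subgroup Y} {n : I → Y}
  {X : (I → ℤ) → Subgroup Y}

/-- the Sylow `p`-subgroup `U` -/
theorem exists_U [Finite W] [Finite Y] [Fact p.Prime] (R : RGD cs h p T n X) (hG : GG cs h T X = ⊤) :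
    ∃ U : Sylow p Y, (U : Subgroup Y) = RGD.Sup X (RGD.Pos cs h) := by
  refine ⟨{ RGD.Sup X (RGD.Pos cs h) with
      isPGroup' := R.isPGroup_Upos
      is_maximal' := fun {Q} hQ hle =>
        Nodes.NormalForm.eq_U_of_isPGroup R hQ hle (by rw [hG]; exact le_top) }, rfl⟩

theorem normalizer_U [Finite W] (R : RGD cs h p T n X) (hG : GG cs h T X = ⊤) :
    Subgroup.normalizer (RGD.Sup X (RGD.Pos cs h) : Set Y) = RGD.B cs h T X := by
  have h1 := normalizer_VJ R (∅ : Set I)
  rw [hG, inf_top_eq, PJ_empty R] at h1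
  rw [← h1]
  congr 2
  unfold VJ
  congr 1
  ext x
  constructor
  · rintro ⟨hx, hx0⟩
    refine ⟨hx, hx0, ?_⟩
    by_contra hcon
    push Not at hcon
    exact hx.ne_zero (le_antisymm (fun k => hcon k (Set.notMem_empty k)) hx0)
  · rintro ⟨hx, hx0, -⟩
    exact ⟨hx, hx0⟩

/-- the parabolic system of a root group datum -/
theorem parSys [Finite W] [Finite Y] [Fact p.Prime] (R : RGD cs h p T n X) (hG : GG cs h T X = ⊤) {U : Sylow p Y}
    (hU : (U : Subgroup Y) = RGD.Sup X (RGD.Pos cs h)) : ParSys p U (PJ cs h T X) where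
  le_iff J K := by
    constructor
    · intro hle j hj
      have h1 := hle ((H339.RgdQuot.n_mem_PJ_iff R).2 hj)
      exact (H339.RgdQuot.n_mem_PJ_iff R).1 h1
    · intro hJK g hg
      obtain ⟨w, hw, hc⟩ := (mem_PJ_iff_cell R).1 hg
      exact (mem_PJ_iff_cell R).2 ⟨w, WJ_mono cs hJK hw, hc⟩
  norm_le J := by
    rw [hU, normalizer_U R hG]
    exact B_le_PJ
  surj Q hQ := by
    rw [hU, normalizer_U R hG] at hQ
    have h1 := inf_eq_PJ (R := R) hQ
    rw [hG, inf_top_eq] at h1
    exact ⟨_, h1⟩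
  rad J hJ := by
    refine ⟨VJ cs h X J, ?_, ?_, PJ_le_normalizer_VJ R J⟩
    · obtain ⟨b, hb⟩ := (Set.ne_univ_iff_exists_notMem J).1 hJ
      intro h1
      apply X_ne_bot R (isRoot_sr cs h b)
      rw [eq_bot_iff, ← h1]
      exact RGD.le_Sup (sr_mem_NotJ hb)
    · rw [hU]
      exact VJ_le_U J

/-! ### commuting minimal parabolics -/

/-- `Q' Q ⊆ Q Q'` -/
def Comm (Q Q' : Subgroup Y) : Prop := ∀ a ∈ Q, ∀ b ∈ Q', ∃ a' ∈ Q, ∃ b' ∈ Q', b * a = a' * b'

theorem Comm.map {Q Q' : Subgroup Y} (hc : Comm Q Q') (α : MulAut Y) :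
    Comm (Q.map α.toMonoidHom) (Q'.map α.toMonoidHom) := by
  rintro _ ⟨a, ha, rfl⟩ _ ⟨b, hb, rfl⟩
  obtain ⟨a', ha', b', hb', e⟩ := hc a ha b hb
  refine ⟨α a', ⟨a', ha', rfl⟩, α b', ⟨b', hb', rfl⟩, ?_⟩
  change α b * α a = α a' * α b'
  rw [← map_mul, e, map_mul]

include h in
theorem length_two {i j : I} (hij : i ≠ j) : cs.length (cs.simple i * cs.simple j) = 2 := by
  have h1 := cs.length_mul_simple (cs.simple i) j
  rw [cs.length_simple] at h1
  rcases h1 with h1 | h1
  · exact h1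
  · exfalso
    have h2 : cs.length (cs.simple i * cs.simple j) = 0 := by omega
    rw [cs.length_eq_zero_iff] at h2
    have h3 : cs.simple i = cs.simple j := by
      have h4 : cs.simple i * cs.simple j * cs.simple j = cs.simple j := by rw [h2, one_mul]
      rwa [mul_assoc, simple_mul_simple_self, mul_one] at h4
    exact RGD.simple_ne (cs := cs) (h := h) hij h3

theorem simple_ne_one (i : I) : cs.simple i ≠ 1 := by
  intro h1
  have h2 := cs.length_simple i
  rw [h1, cs.length_one] at h2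
  omega

theorem comm_iff [Finite W] (R : RGD cs h p T n X) {i j : I} (hij : i ≠ j) :
    Comm (PJ cs h T X {i}) (PJ cs h T X {j}) ↔ M i j = 2 := by
  constructor
  · intro hc
    by_contra hM
    have hi : n i ∈ PJ cs h T X {i} := (H339.RgdQuot.n_mem_PJ_iff R).2 rfl
    have hj : n j ∈ PJ cs h T X {j} := (H339.RgdQuot.n_mem_PJ_iff R).2 rfl
    obtain ⟨a, ha, b, hb, e⟩ := hc _ hi _ hj
    obtain ⟨u, hu, hua⟩ := (mem_PJ_iff_cell R).1 ha
    obtain ⟨v, hv, hvb⟩ := (mem_PJ_iff_cell R).1 hb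
    have hji : Cell R.nsys cs h X (cs.simple j * cs.simple i) (n j * n i) :=
      cell_of_rp ((rp_simple cs R.nsys j).mul (rp_simple cs R.nsys i))
    have hne : cs.simple i ≠ cs.simple j := RGD.simple_ne (cs := cs) (h := h) hij
    have huv : cs.length (u * v) = cs.length u + cs.length v := by
      rcases Cfsg.Agent.Tits.Core.Bldg.mem_WJ_singleton.1 hu with rfl | rfl
      · rw [one_mul, cs.length_one, zero_add]
      · rcases Cfsg.Agent.Tits.Core.Bldg.mem_WJ_singleton.1 hv with rfl | rfl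
        · rw [mul_one, cs.length_one, add_zero]
        · rw [length_two (h := h) hij, cs.length_simple, cs.length_simple]
    have h1 := Cell.mul_of_length R huv hua hvb
    rw [← e] at h1
    have h2 := Cell.unique R hji h1
    rcases Cfsg.Agent.Tits.Core.Bldg.mem_WJ_singleton.1 hu with rfl | rfl
    · rcases Cfsg.Agent.Tits.Core.Bldg.mem_WJ_singleton.1 hv with rfl | rfl
      · have h3 := length_two (cs := cs) (h := h) hij.symm
        rw [h2, one_mul, cs.length_one] at h3
        omega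
      · rw [one_mul, mul_eq_left] at h2
        exact simple_ne_one i h2
    · rcases Cfsg.Agent.Tits.Core.Bldg.mem_WJ_singleton.1 hv with rfl | rfl
      · rw [mul_one, mul_eq_right] at h2
        exact simple_ne_one j h2
      · refine RGD.comm_ne (cs := cs) (h := h) hij hM ?_
        rw [mul_inv_eq_one, mul_inv_eq_iff_eq_mul]
        exact h2.symm
  · intro hM a ha b hb
    obtain ⟨u, hu, hua⟩ := (mem_PJ_iff_cell R).1 ha
    obtain ⟨v, hv, hvb⟩ := (mem_PJ_iff_cell R).1 hb
    rcases Cfsg.Agent.Tits.Core.Bldg.mem_WJ_singleton.1 hu with rfl | rfl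
    · exact ⟨1, one_mem _, b * a, mul_mem hb (B_le_PJ hua.mem_of_one), by group⟩
    · rcases Cfsg.Agent.Tits.Core.Bldg.mem_WJ_singleton.1 hv with rfl | rfl
      · exact ⟨b * a, mul_mem (B_le_PJ hvb.mem_of_one) ha, 1, one_mem _, by group⟩
      · have hl : cs.length (cs.simple j * cs.simple i) = cs.length (cs.simple j) + cs.length (cs.simple i) := by
          rw [length_two (h := h) hij.symm, cs.length_simple, cs.length_simple]
        have h1 := Cell.mul_of_length R hl hvb hua
        have hcom : cs.simple j * cs.simple i = cs.simple i * cs.simple j := by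
          have h2 := cs.simple_mul_simple_pow i j
          rw [hM, pow_two] at h2
          have h3 : cs.simple i * cs.simple j = (cs.simple i * cs.simple j)⁻¹ := eq_inv_of_mul_eq_one_left h2
          rw [mul_inv_rev, inv_simple, inv_simple] at h3
          exact h3.symm
        rw [hcom] at h1
        obtain ⟨b₁, hb₁, k, hk, b₂, hb₂, e⟩ := h1
        have hk2 : Rp cs R.nsys (cs.simple j) ((n i)⁻¹ * k) := by
          have := (rp_simple cs R.nsys i).inv.mul hk
          rwa [inv_simple, ← mul_assoc, simple_mul_simple_self, one_mul] at this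
        refine ⟨b₁ * n i, mul_mem (B_le_PJ hb₁) ((H339.RgdQuot.n_mem_PJ_iff R).2 rfl), (n i)⁻¹ * k * b₂,
          mul_mem ?_ (B_le_PJ hb₂), by rw [e]; group⟩
        exact (mem_PJ_iff_cell R).2 ⟨cs.simple j, Cfsg.Agent.Tits.Core.Bldg.mem_WJ_singleton.2 (Or.inr rfl), cell_of_rp hk2⟩

/-! ### diagrams -/

/-- `i` has two neighbours -/
def Two (M : CoxeterMatrix I) (i : I) : Prop := ∃ j k, j ≠ i ∧ k ≠ i ∧ j ≠ k ∧ M i j ≠ 2 ∧ M i k ≠ 2

theorem exists_two_nbrs (hc : Conn M) (h3 : 3 ≤ Fintype.card I) : ∃ i, Two M i := by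
  by_contra hcon
  push Not at hcon
  obtain ⟨i⟩ : Nonempty I := Fintype.card_pos_iff.1 (by omega)
  have h1 : ({i} : Set I) ≠ Set.univ := by
    intro e
    have : Fintype.card I ≤ 1 := Fintype.card_le_one_iff.2 fun a b => by
      have ha : a ∈ ({i} : Set I) := e ▸ Set.mem_univ a
      have hb : b ∈ ({i} : Set I) := e ▸ Set.mem_univ b
      rw [Set.mem_singleton_iff.1 ha, Set.mem_singleton_iff.1 hb]
    omega
  obtain ⟨a, ha, j, hj, hij⟩ := hc {i} ⟨i, rfl⟩ h1
  rw [Set.mem_singleton_iff] at ha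
  subst ha
  have hja : j ≠ a := hj
  have h2 : ({a, j} : Set I) ≠ Set.univ := by
    intro e
    have h4 : (Finset.univ : Finset I) ⊆ {a, j} := fun b _ => by
      have hb : b ∈ ({a, j} : Set I) := e ▸ Set.mem_univ b
      simpa using hb
    have h5 := Finset.card_le_card h4
    have h6 : ({a, j} : Finset I).card ≤ 2 := Finset.card_le_two
    rw [Finset.card_univ] at h5
    omega
  obtain ⟨b, hb, k, hk, hbk⟩ := hc {a, j} ⟨a, Or.inl rfl⟩ h2
  have hka : k ≠ a := fun e => hk (Or.inl e)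
  have hkj : k ≠ j := fun e => hk (Or.inr e)
  rcases hb with rfl | hb
  · exact hcon b ⟨j, k, hja, hka, hkj.symm, hij, hbk⟩
  · rw [Set.mem_singleton_iff] at hb
    subst hb
    exact hcon b ⟨a, k, hja.symm, hkj, hka.symm, by rwa [M.symmetric], hbk⟩

include cs h in
theorem exists_leaf [Finite W] (hne : Nonempty I) : ∃ i, ¬ Two M i := by
  have hfin := Fintype.ofFinite W
  have h0 : (0 : I → ℤ) ≤ fun _ => 1 := fun _ => zero_le_one
  have h1 : (fun _ => 1 : I → ℤ) ≠ 0 := by
    intro e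
    obtain ⟨i⟩ := hne
    exact one_ne_zero (congrFun e i)
  obtain ⟨i, -, hi⟩ := exists_pairing_pos cs h h0 h1
  refine ⟨i, ?_⟩
  rintro ⟨j, k, hj, hk, hjk, hMj, hMk⟩
  have hA : ∀ l, l ≠ i → A i l ≤ 0 := by
    intro l hl
    rcases h.rel i l hl.symm with h2 | h2 | h2 | h2
    all_goals omega
  have hA' : ∀ l, l ≠ i → M i l ≠ 2 → A i l ≤ -1 := by
    intro l hl hM
    rcases h.rel i l hl.symm with h2 | h2 | h2 | h2
    all_goals omega
  have h2 : pairing A i (fun _ => 1) ≤ 0 := by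
    unfold pairing
    have h3 : ∑ l, A i l * (1 : ℤ) = A i i + (A i j + (A i k + ∑ l ∈ ((Finset.univ.erase i).erase j).erase k, A i l)) := by
      rw [Finset.add_sum_erase, Finset.add_sum_erase, Finset.add_sum_erase]
      · exact Finset.sum_congr rfl fun l _ => mul_one _
      · exact Finset.mem_univ i
      · exact Finset.mem_erase.2 ⟨hj, Finset.mem_univ j⟩
      · exact Finset.mem_erase.2 ⟨hjk.symm, Finset.mem_erase.2 ⟨hk, Finset.mem_univ k⟩⟩
    rw [h3, h.diag]
    have h4 : ∑ l ∈ ((Finset.univ.erase i).erase j).erase k, A i l ≤ 0 := by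
      refine Finset.sum_nonpos fun l hl => hA l ?_
      rw [Finset.mem_erase, Finset.mem_erase, Finset.mem_erase] at hl
      exact hl.2.2.1
    have h5 := hA' j hj hMj
    have h6 := hA' k hk hMk
    linarith
  linarith

/-- the nodes with two neighbours are invariant under all automorphisms fixing `U` -/
theorem two_inv [Finite W] [Finite Y] [Fact p.Prime] (R : RGD cs h p T n X) (hG : GG cs h T X = ⊤) {U : Sylow p Y}
    (hU : (U : Subgroup Y) = RGD.Sup X (RGD.Pos cs h)) (α : MulAut Y)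
    (hα : (U : Subgroup Y).map α.toMonoidHom = U) :
    (PJ cs h T X {i | Two M i}).map α.toMonoidHom = PJ cs h T X {i | Two M i} := by
  have hp := parSys R hG hU
  refine hp.inv_of_atoms ?_ α hα
  rintro β hβ i ⟨j, k, hj, hk, hjk, hMj, hMk⟩ i' hi'
  obtain ⟨j', hj'⟩ := hp.exists_atom β hβ j
  obtain ⟨k', hk'⟩ := hp.exists_atom β hβ k
  have hinj : ∀ {a b a' b' : I}, (PJ cs h T X {a}).map β.toMonoidHom = PJ cs h T X {a'} →
      (PJ cs h T X {b}).map β.toMonoidHom = PJ cs h T X {b'} → a ≠ b → a' ≠ b' := by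
    rintro a b a' b' ha hb hab rfl
    rw [← hb] at ha
    exact hab (Set.singleton_injective (hp.inj (Subgroup.map_injective (MulEquiv.injective β) ha)))
  have hM : ∀ {a b a' b' : I}, (PJ cs h T X {a}).map β.toMonoidHom = PJ cs h T X {a'} →
      (PJ cs h T X {b}).map β.toMonoidHom = PJ cs h T X {b'} → a ≠ b → M a b ≠ 2 → M a' b' ≠ 2 := by
    intro a b a' b' ha hb hab hM hM'
    apply hM
    rw [← comm_iff R (hinj ha hb hab), ← ha, ← hb] at hM'
    rw [← comm_iff R hab]
    have h1 := hM'.map (β⁻¹ : MulAut Y)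
    rwa [ParSys.map_inv_map, ParSys.map_inv_map] at h1
  exact ⟨j', k', hinj hj' hi' hj, hinj hk' hi' hk, hinj hj' hk' hjk, hM hi' hj' hj.symm hMj, hM hi' hk' hk.symm hMk⟩

/-! ### the rows -/

open Cfsg.Agent.H339.MaxCl

universe u v

/-- **`Supp 3`** for simple groups with a root group datum of rank at least three -/
theorem supp_three {K : Type v} [Group K] [Finite K] [IsSimpleGroup K] (hnc : ∃ a b : K, a * b ≠ b * a) {p l : ℕ}
    [Fact p.Prime] {M : CoxeterMatrix (Fin l)} (hK : Cfsg.Agent.Omega.ML.Ex.Typ.HasRGDT p M K) (hl : 3 ≤ l) :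
    Supp.{u} 3 K := by
  rintro X _ _ S _ ⟨f⟩ - - - -
  have hS : IsSimpleGroup ↥S := f.isSimpleGroup
  obtain ⟨A, h, T, n, X', hW, R, hX⟩ := hK.of_equiv f.symm
  have hG : GG M.toCoxeterSystem h T X' = ⊤ := Cfsg.Agent.KFacts.RgdFilt.GG_eq_top hX
  have hnc' : ∃ a b : ↥S, a * b ≠ b * a := by
    obtain ⟨a, b, hab⟩ := hnc
    refine ⟨f.symm a, f.symm b, fun e => hab ?_⟩
    rw [← map_mul, ← map_mul] at e
    exact f.symm.injective e
  have hconn : Conn M := Cfsg.Agent.KFacts.RgdLieCharP.conn_of_simple R hX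
    (Cfsg.Agent.KFacts.RgdLieCharP.center_eq_bot hnc')
  obtain ⟨U, hU⟩ := exists_U R hG
  have hp := parSys R hG hU
  obtain ⟨i, hi⟩ := exists_two_nbrs hconn (by rw [Fintype.card_fin]; exact hl)
  obtain ⟨j, hj⟩ := exists_leaf (cs := M.toCoxeterSystem) (h := h) ⟨i⟩
  refine hp.nCl_three (J := {i | Two M i}) ⟨i, hi⟩ (fun e => hj (e ▸ Set.mem_univ j : j ∈ {i | Two M i})) ?_
  intro x hx
  exact two_inv R hG hU _ hx

end Cfsg.Agent.H288.BnRgd
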