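import Mathlib
import Cfsg.Agent.H150.Fpf
import Cfsg.Agent.S2638

/-!
# The normaliser of an irreducible element of prime order (helper288)

`gal_pow` : `x` of prime order `r` on `V`, `dim V = n` = the order of `q` modulo `r`; if `y` normalises `⟨x⟩`, then `y ^ n`
centralises `x`.
-/

set_option autoImplicit false

namespace Cfsg.Agent.H288.Gal

open Module Polynomial

variable {F V : Type*} [Field F] [Finite F] [AddCommGroup V] [Module F V] [FiniteDimensional F V]

/-- the minimal polynomial is irreducible -/
theorem irreducible_minpoly {r : ℕ} (hr : r.Prime) (hrF : (r : F) ≠ 0) {x : V →ₗ[F] V} (hx : x ^ r = 1) (hx1 : x ≠ 1)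
    (ho : orderOf ((Nat.card F : ℕ) : ZMod r) = finrank F V) : Irreducible (minpoly F x) := by
  have hint : IsIntegral F x := Algebra.IsIntegral.isIntegral x
  -- `x` has no fixed vectors
  have hsub : ∀ W : Submodule F V, (∀ w ∈ W, x w ∈ W) → (∀ v ∈ W, x v = v → v = 0) → W = ⊥ ∨ W = ⊤ := by
    intro W hW hf
    have h1 := Cfsg.Agent.H150.dvd_finrank_of_fpf_submodule hr x hx W hW hf
    rw [ho] at h1
    rcases Nat.eq_zero_or_pos (finrank F W) with h2 | h2
    · exact Or.inl (Submodule.finrank_eq_zero.1 h2)
    · exact Or.inr (Submodule.eq_top_of_finrank_eq (le_antisymm (Submodule.finrank_le W) (Nat.le_of_dvd h2 h1)))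
  have hfix : ∀ v, x v = v → v = 0 := by
    have h1 := hsub (LinearMap.range (x - 1)) (by
      rintro _ ⟨w, rfl⟩
      exact ⟨x w, by simp⟩) (Cfsg.Agent.H150.fpf_range hrF x hx)
    have hc := Cfsg.Agent.H150.isCompl_fix hrF x hx
    rcases h1 with h1 | h1
    · rw [LinearMap.range_eq_bot, sub_eq_zero] at h1
      exact absurd h1 hx1
    · rw [h1] at hc
      have h2 := hc.inf_eq_bot
      rw [inf_top_eq] at h2
      intro v hv
      have h3 : v ∈ LinearMap.ker (x - 1) := by simp [hv]
      rw [h2] at h3
      exact (Submodule.mem_bot F).1 h3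
  have hne : minpoly F x ≠ 0 := minpoly.ne_zero hint
  have hnu : ¬ IsUnit (minpoly F x) := by
    intro hu
    have h1 := minpoly.aeval F x
    have h2 : (1 : V →ₗ[F] V) = 0 := by
      have h3 : IsUnit (aeval x (minpoly F x)) := hu.map (aeval x)
      rw [h1, isUnit_zero_iff] at h3
      exact h3.symm
    apply hx1
    rw [← mul_one x, h2, mul_zero]
  obtain ⟨g, hg, hgm⟩ := WfDvdMonoid.exists_irreducible_factor hnu hne
  have hcomm : ∀ w, x (aeval x g w) = aeval x g (x w) := by
    intro w
    have h1 : x * aeval x g = aeval x g * x := by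
      have h2 : Commute (aeval x (X : F[X]) : V →ₗ[F] V) (aeval x g) := by
        rw [commute_iff_eq, ← map_mul, ← map_mul, mul_comm]
      rw [aeval_X] at h2
      exact h2
    exact LinearMap.congr_fun h1 w
  rcases hsub (LinearMap.ker (aeval x g)) (fun w hw => by
      rw [LinearMap.mem_ker] at hw ⊢
      rw [← hcomm, hw, map_zero]) (fun v _ hv => hfix v hv) with h1 | h1
  · -- `g(x)` is injective
    exfalso
    obtain ⟨m, hm⟩ := hgm
    have h2 : aeval x m = 0 := by
      have h3 : aeval x g * aeval x m = 0 := by rw [← map_mul, ← hm, minpoly.aeval]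
      ext v
      have h4 := LinearMap.congr_fun h3 v
      have h5 : aeval x g (aeval x m v) = aeval x g 0 := by rw [map_zero]; exact h4
      exact (LinearMap.ker_eq_bot.1 h1) h5
    have h3 := minpoly.dvd F x h2
    have h4 : IsUnit g := by
      obtain ⟨c, hc⟩ := h3
      rw [hm] at hc
      have hm0 : m ≠ 0 := by
        rintro rfl
        rw [mul_zero] at hm
        exact hne hm
      have h5 : m * (g * c) = m * 1 := by
        rw [mul_one]
        conv_rhs => rw [hc]
        rw [mul_assoc, mul_left_comm]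
      exact IsUnit.of_mul_eq_one _ (mul_left_cancel₀ hm0 h5)
    exact hg.not_isUnit h4
  · have h2 : aeval x g = 0 := by rwa [LinearMap.ker_eq_top] at h1
    exact (associated_of_dvd_dvd hgm (minpoly.dvd F x h2)).irreducible hg

theorem gal_pow {r : ℕ} (hr : r.Prime) (hrF : (r : F) ≠ 0) {x : V →ₗ[F] V} (hx : x ^ r = 1) (hx1 : x ≠ 1)
    (ho : orderOf ((Nat.card F : ℕ) : ZMod r) = finrank F V) {y y' : V →ₗ[F] V} (h1 : y' * y = 1) {j : ℕ}
    (h : y * x * y' = x ^ j) : x ^ j ^ (finrank F V) = x := by
  have hint : IsIntegral F x := Algebra.IsIntegral.isIntegral x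
  have hirr := irreducible_minpoly hr hrF hx hx1 ho
  have : Fact (Irreducible (minpoly F x)) := ⟨hirr⟩
  have hmon := minpoly.monic hint
  -- the field
  let E := AdjoinRoot (minpoly F x)
  let α : E := AdjoinRoot.root (minpoly F x)
  have : Module.Finite F E := (AdjoinRoot.powerBasis' hmon).finite
  have : Finite E := Module.finite_of_finite F
  have hdim : finrank F E = (minpoly F x).natDegree := by
    rw [(AdjoinRoot.powerBasis' hmon).finrank, AdjoinRoot.powerBasis'_dim]
  have hα : ∀ g : F[X], aeval α g = 0 → aeval x g = 0 := by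
    intro g hg
    rw [AdjoinRoot.aeval_eq, AdjoinRoot.mk_eq_zero] at hg
    obtain ⟨c, rfl⟩ := hg
    rw [map_mul, minpoly.aeval, zero_mul]
  -- `y * x ^ k * y' = x ^ (j * k)`
  have hpow : ∀ g : F[X], y * aeval x g * y' * y = aeval (x ^ j) g * y := by
    intro g
    induction g using Polynomial.induction_on' with
    | add a b ha hb => rw [map_add, map_add, mul_add, add_mul, add_mul, add_mul, ha, hb]
    | monomial k a =>
      rw [aeval_monomial, aeval_monomial]
      have h2 : y * x ^ k * y' * y = (x ^ j) ^ k * y := by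
        rw [mul_assoc _ y' y, h1, mul_one]
        induction k with
        | zero => simp
        | succ k ih =>
          have h3 : y * x = x ^ j * y := by rw [← h, mul_assoc _ y' y, h1, mul_one]
          rw [pow_succ, ← mul_assoc, ih, mul_assoc, h3, ← mul_assoc, ← pow_succ]
      have h4 : y * (algebraMap F (V →ₗ[F] V) a * x ^ k) * y' * y = algebraMap F (V →ₗ[F] V) a * (y * x ^ k * y' * y) := by
        simp only [Algebra.algebraMap_eq_smul_one, smul_mul_assoc, one_mul, mul_smul_comm]
      rw [h4, h2, mul_assoc]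
  have hy : ∀ z : V →ₗ[F] V, z * y = 0 → z = 0 := by
    intro z hz
    -- `y` is surjective
    have hinj : Function.Injective y := by
      intro a b hab
      have := congrArg y' hab
      have h5 : ∀ v, y' (y v) = v := fun v => LinearMap.congr_fun h1 v
      rwa [h5, h5] at this
    have hsurj : Function.Surjective y := LinearMap.injective_iff_surjective.1 hinj
    ext v
    obtain ⟨w, rfl⟩ := hsurj v
    exact LinearMap.congr_fun hz w
  have hroot : aeval (α ^ j) (minpoly F x) = 0 := by
    have h2 := hpow (minpoly F x)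
    rw [minpoly.aeval, mul_zero, zero_mul, zero_mul] at h2
    have h3 : aeval (x ^ j) (minpoly F x) = 0 := hy _ h2.symm
    have h4 : minpoly F x ∣ (minpoly F x).comp (X ^ j) := by
      apply minpoly.dvd
      rw [aeval_comp, map_pow, aeval_X, h3]
    have h5 : aeval α ((minpoly F x).comp (X ^ j)) = 0 := by
      rw [AdjoinRoot.aeval_eq, AdjoinRoot.mk_eq_zero]
      exact h4
    rwa [aeval_comp, map_pow, aeval_X] at h5
  -- the degree
  have hdeg : finrank F E = finrank F V := by
    apply le_antisymm
    · rw [hdim]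
      have h2 := Polynomial.natDegree_le_of_dvd (LinearMap.minpoly_dvd_charpoly x) (LinearMap.charpoly_monic x).ne_zero
      rwa [LinearMap.charpoly_natDegree] at h2
    · apply Nat.le_of_dvd finrank_pos
      rw [← ho, orderOf_dvd_iff_pow_eq_one]
      have hαr : α ^ r = 1 := by
        have h2 : aeval α (X ^ r - 1 : F[X]) = 0 := by
          rw [AdjoinRoot.aeval_eq, AdjoinRoot.mk_eq_zero]
          apply minpoly.dvd
          simp [hx]
        simpa [sub_eq_zero] using h2
      have hα1 : α ≠ 1 := by
        intro h2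
        apply hx1
        have h3 : aeval α (X - 1 : F[X]) = 0 := by simp [h2]
        have h4 := hα _ h3
        simpa [sub_eq_zero] using h4
      have := Fact.mk hr
      have hord : orderOf α = r := orderOf_eq_prime hαr hα1
      have hα0 : α ≠ 0 := by
        intro h2
        rw [h2, zero_pow hr.ne_zero] at hαr
        exact zero_ne_one hαr
      have := Fintype.ofFinite E
      have h3 : α ^ (Fintype.card E - 1) = 1 := FiniteField.pow_card_sub_one_eq_one α hα0
      have h4 := orderOf_dvd_of_pow_eq_one h3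
      rw [hord] at h4
      have h5 : Fintype.card E = Nat.card F ^ finrank F E := by
        rw [← Nat.card_eq_fintype_card]
        exact Module.natCard_eq_pow_finrank
      rw [h5] at h4
      have h6 : 1 ≤ Nat.card F ^ finrank F E := Nat.one_le_pow _ _ Nat.card_pos
      have h7 : ((Nat.card F ^ finrank F E - 1 : ℕ) : ZMod r) = 0 := (ZMod.natCast_eq_zero_iff _ _).2 h4
      rw [Nat.cast_sub h6, sub_eq_zero] at h7
      simpa using h7
  -- the automorphism
  let σ : E →ₐ[F] E := AdjoinRoot.liftAlgHom (minpoly F x) (Algebra.ofId F E) (α ^ j) (by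
    rw [← hroot]; rfl)
  have hσ : σ α = α ^ j := AdjoinRoot.liftAlgHom_root _ _ _ _
  have hbij : Function.Bijective σ := Algebra.IsAlgebraic.algHom_bijective σ
  let τ : E ≃ₐ[F] E := AlgEquiv.ofBijective σ hbij
  have hτ : ∀ m : ℕ, (τ ^ m) α = α ^ j ^ m := by
    intro m
    induction m with
    | zero => simp
    | succ m ih =>
      rw [pow_succ', AlgEquiv.mul_apply, ih, map_pow]
      change (σ α) ^ j ^ m = _
      rw [hσ, ← pow_mul, pow_succ']
  have hcard : Nat.card (E ≃ₐ[F] E) = finrank F V := by
    rw [← hdeg]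
    exact IsGalois.card_aut_eq_finrank F E
  have h2 := hτ (finrank F V)
  rw [← hcard, pow_card_eq_one', AlgEquiv.one_apply, hcard] at h2
  have h3 : aeval α (X ^ j ^ (finrank F V) - X : F[X]) = 0 := by
    rw [map_sub, map_pow, aeval_X, ← h2, sub_self]
  have h4 := hα _ h3
  rw [map_sub, map_pow, aeval_X, sub_eq_zero] at h4
  exact h4

section group

open Matrix Subgroup

variable {F : Type*} [Field F] [Fintype F] {p q n r : ℕ} [hp : Fact p.Prime] [CharP F p]

/-- in a cyclic group two elements of order `r` generate the same subgroup -/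
theorem mem_zpowers_of_cyclic {C : Type*} [Group C] [Finite C] [IsCyclic C] {a b : C} (ha : orderOf a = orderOf b) :
    b ∈ zpowers a := by
  classical
  have := Fintype.ofFinite C
  have hpos : 0 < orderOf a := orderOf_pos a
  have h1 := IsCyclic.card_pow_eq_one_le (α := C) hpos
  have h2 : (zpowers a : Set C).toFinset ⊆ Finset.univ.filter (fun z : C => z ^ orderOf a = 1) := by
    intro z hz
    rw [Set.mem_toFinset] at hz
    obtain ⟨k, rfl⟩ := hz
    simp only [Finset.mem_filter, Finset.mem_univ, true_and]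
    rw [← zpow_natCast, ← _root_.zpow_mul, mul_comm, _root_.zpow_mul, zpow_natCast, pow_orderOf_eq_one, _root_.one_zpow]
  have h3 : (zpowers a : Set C).toFinset.card = orderOf a := by
    rw [Set.toFinset_card]
    have := Nat.card_zpowers a
    rw [Nat.card_eq_fintype_card] at this
    convert this
    rfl
  have h4 := Finset.eq_of_subset_of_card_le h2 (by rw [h3]; exact h1)
  have h5 : b ∈ Finset.univ.filter (fun z : C => z ^ orderOf a = 1) := by
    simp only [Finset.mem_filter, Finset.mem_univ, true_and]
    rw [ha, pow_orderOf_eq_one]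
  rw [← h4, Set.mem_toFinset] at h5
  exact h5

/-- the normaliser of a Sylow subgroup acting irreducibly in dimension `n` centralises it if its order is prime to `n` -/
theorem normalizer_le_centralizer (hF : Fintype.card F = q) (hn : 1 ≤ n) (hr : r.Prime) (hrp : r ≠ p)
    (ho : orderOf (q : ZMod r) = n) {G : Type*} [Group G] [Finite G] (ρ : G →* GL (Fin n) F)
    (hρ : Function.Injective ρ) (R : Sylow r G) (hd : r ∣ Nat.card G)
    (hcop : (Nat.card (normalizer ((R : Subgroup G) : Set G))).Coprime n) :
    normalizer ((R : Subgroup G) : Set G) ≤ centralizer ((R : Subgroup G) : Set G) := by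
  have hrf : Fact r.Prime := ⟨hr⟩
  have hrF : (r : F) ≠ 0 := by
    intro h
    have := (CharP.cast_eq_zero_iff F p r).1 h
    exact hrp ((Nat.prime_dvd_prime_iff_eq hp.out hr).1 this).symm
  -- a central element of order `r`
  have : Nontrivial (R : Subgroup G) := by
    rw [Subgroup.nontrivial_iff_ne_bot]
    exact R.ne_bot_of_dvd_card hd
  have : Nontrivial (center (R : Subgroup G)) := R.isPGroup'.center_nontrivial
  have hZ : r ∣ Nat.card (center (R : Subgroup G)) := by
    obtain ⟨n, hn, hn'⟩ := (IsPGroup.nontrivial_iff_card (R.isPGroup'.to_subgroup _)).1 this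
    rw [hn']; exact dvd_pow_self r (by omega)
  obtain ⟨x0, hx0⟩ := exists_prime_orderOf_dvd_card' r hZ
  set x : G := ((x0 : (R : Subgroup G)) : G) with hx
  have hxo : orderOf x = r := by rw [hx, Subgroup.orderOf_coe, Subgroup.orderOf_coe, hx0]
  have hxR : x ∈ (R : Subgroup G) := (x0 : (R : Subgroup G)).2
  have hxc : ∀ y ∈ (R : Subgroup G), x * y = y * x := by
    intro y hy
    exact congrArg Subtype.val ((mem_center_iff.1 x0.2 ⟨y, hy⟩).symm)
  have hXo : orderOf (ρ x) = r := by rw [orderOf_injective ρ hρ, hxo]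
  obtain ⟨hcyc, -⟩ := Cfsg.Agent.S2638.result hF hn hr hrp ho (ρ x) hXo
  have hC : ∀ y : G, x * y = y * x → ρ y ∈ centralizer ({ρ x} : Set (GL (Fin n) F)) := by
    intro y hy
    rw [mem_centralizer_singleton_iff, ← map_mul, ← map_mul, hy]
  have hCc : ∀ y z : G, x * y = y * x → x * z = z * x → y * z = z * y := by
    intro y z hy hz
    apply hρ
    rw [map_mul, map_mul]
    let _ : CommGroup ↥(centralizer ({ρ x} : Set (GL (Fin n) F))) := IsCyclic.commGroup
    exact congrArg Subtype.val (mul_comm (⟨ρ y, hC y hy⟩ : ↥(centralizer ({ρ x} : Set (GL (Fin n) F)))) ⟨ρ z, hC z hz⟩)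
  intro y hy
  have hyx : y * x * y⁻¹ ∈ (R : Subgroup G) := (mem_normalizer_iff.1 hy x).1 hxR
  -- `y x y⁻¹` is a power of `x`
  obtain ⟨j, hj⟩ : ∃ j : ℕ, x ^ j = y * x * y⁻¹ := by
    have h1 : (⟨ρ (y * x * y⁻¹), hC _ (hxc _ hyx)⟩ : ↥(centralizer ({ρ x} : Set (GL (Fin n) F)))) ∈
        zpowers (⟨ρ x, hC x rfl⟩ : ↥(centralizer ({ρ x} : Set (GL (Fin n) F)))) := by
      apply mem_zpowers_of_cyclic
      rw [← Subgroup.orderOf_coe, ← Subgroup.orderOf_coe]
      change orderOf (ρ x) = orderOf (ρ (y * x * y⁻¹))
      rw [orderOf_injective ρ hρ, orderOf_injective ρ hρ]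
      exact (MulAut.conj y).orderOf_eq x |>.symm
    rw [← mem_powers_iff_mem_zpowers] at h1
    obtain ⟨j, hj⟩ := h1
    refine ⟨j, hρ ?_⟩
    have h2 := congrArg Subtype.val hj
    rw [map_pow]
    exact h2
  -- linear algebra
  have hpow : x ^ j ^ n = x := by
    apply hρ
    rw [map_pow]
    apply Units.ext
    rw [Units.val_pow_eq_pow_val]
    have e1 : ∀ A : Matrix (Fin n) (Fin n) F, ∀ m : ℕ, Matrix.toLin' (A ^ m) = (Matrix.toLin' A) ^ m :=
      fun A m => Matrix.toLin'_pow A m
    have h1 := gal_pow (F := F) (V := Fin n → F) hr hrF (x := Matrix.toLin' (ρ x).1)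
      (y := Matrix.toLin' (ρ y).1) (y' := Matrix.toLin' (ρ y⁻¹).1) (j := j) ?_ ?_ ?_ ?_ ?_
    · rw [Module.finrank_fin_fun, ← e1] at h1
      exact Matrix.toLin'.injective h1
    · rw [← e1, ← Units.val_pow_eq_pow_val, ← map_pow, ← hxo, pow_orderOf_eq_one, map_one, Units.val_one,
        Matrix.toLin'_one]
      rfl
    · intro h2
      have h3 : ρ x = 1 := by
        apply Units.ext
        apply Matrix.toLin'.injective
        rw [h2, Units.val_one, Matrix.toLin'_one]
        rfl
      rw [h3, orderOf_one] at hXo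
      exact hr.one_lt.ne hXo
    · rw [Module.finrank_fin_fun, Nat.card_eq_fintype_card, hF, ho]
    · rw [Module.End.mul_eq_comp, ← Matrix.toLin'_mul, ← Units.val_mul, ← map_mul, inv_mul_cancel, map_one, Units.val_one,
        Matrix.toLin'_one]
      rfl
    · rw [Module.End.mul_eq_comp, Module.End.mul_eq_comp, ← Matrix.toLin'_mul, ← Matrix.toLin'_mul, ← Units.val_mul,
        ← Units.val_mul, ← map_mul, ← map_mul, ← hj, ← e1, ← Units.val_pow_eq_pow_val, ← map_pow]
  have hyn : ∀ m : ℕ, y ^ m * x * (y ^ m)⁻¹ = x ^ j ^ m := by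
    intro m
    induction m with
    | zero => simp
    | succ m ih =>
      have e : y ^ (m + 1) * x * (y ^ (m + 1))⁻¹ = y * (y ^ m * x * (y ^ m)⁻¹) * y⁻¹ := by
        rw [pow_succ']
        group
      rw [e, ih, ← conj_pow, ← hj, ← pow_mul, pow_succ']
  have h1 : x * y ^ n = y ^ n * x := by
    have h2 := hyn n
    rw [hpow, mul_inv_eq_iff_eq_mul] at h2
    exact h2.symm
  have h2 : x * y = y * x := by
    have h3 : n.Coprime (orderOf y) := by
      have h4 : orderOf y ∣ Nat.card (normalizer ((R : Subgroup G) : Set G)) := Subgroup.orderOf_dvd_natCard _ hy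
      exact (Nat.Coprime.coprime_dvd_left h4 hcop).symm
    obtain ⟨m, hm⟩ := exists_pow_eq_self_of_coprime h3
    have h4 : Commute x (y ^ n) := h1
    have h5 := h4.pow_right m
    rw [hm] at h5
    exact h5
  rw [mem_centralizer_iff]
  intro z hz
  exact hCc z y (hxc z hz) h2

/-- Burnside's transfer theorem in a simple group -/
theorem simple_false {L : Type*} [Group L] [Finite L] [IsSimpleGroup L] (hns : ¬ Group.IsSolvable L) {r : ℕ}
    [hr : Fact r.Prime] (R : Sylow r L) (hd : r ∣ Nat.card L)
    (h : normalizer ((R : Subgroup L) : Set L) ≤ centralizer ((R : Subgroup L) : Set L)) : False := by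
  have hc := MonoidHom.ker_transferSylow_isComplement' R h
  have hcard := hc.card_mul_card
  rcases (MonoidHom.normal_ker (MonoidHom.transferSylow R h)).eq_bot_or_eq_top with h1 | h1
  · rw [h1, Subgroup.card_bot, one_mul] at hcard
    apply hns
    have h2 : IsPGroup r L := by
      obtain ⟨m, hm⟩ := (IsPGroup.iff_card (p := r)).1 R.2
      exact IsPGroup.of_card (hcard.symm.trans hm)
    have h3 : Group.IsNilpotent L := h2.isNilpotent
    infer_instance
  · rw [h1, Subgroup.card_top] at hcard
    have h2 : Nat.card R = 1 := by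
      have h3 : Nat.card L * Nat.card (R : Subgroup L) = Nat.card L * 1 := by rw [hcard, mul_one]
      exact Nat.eq_of_mul_eq_mul_left Nat.card_pos h3
    have h4 := R.dvd_card_of_dvd_card hd
    rw [h2] at h4
    exact hr.out.one_lt.ne' (Nat.dvd_one.1 h4)

end group

end Cfsg.Agent.H288.Gal
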