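import Cfsg.Agent.H288.BnNum
import Cfsg.Agent.H288.Gal

/-!
# The index trick: `PSp 4 q`, `q ≥ 4` even (helper288, S5907)
-/

set_option autoImplicit false
set_option linter.unusedSectionVars false

namespace Cfsg.Agent.H288.BnSp

open Subgroup Cfsg.Agent.H339.MaxCl Cfsg.Agent.H288.BnHall Cfsg.Agent.H163.PG Cfsg.Agent.H288.BnNum

theorem exists_pow {F : Type*} [Field F] [Fintype F] {p : ℕ} [Fact p.Prime] [CharP F p] :
    ∃ f, 1 ≤ f ∧ Fintype.card F = p ^ f := by
  obtain ⟨n, -, hn⟩ := FiniteField.card F p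
  exact ⟨n, n.pos, hn⟩

section sp

variable {F : Type*} [Field F] [Fintype F]

/-- the embedding in `GL 4` -/
noncomputable def rho (F : Type*) [Field F] : Matrix.symplecticGroup (Fin 2) F →* Matrix.GeneralLinearGroup (Fin 4) F :=
  (Units.map (Matrix.reindexAlgEquiv F F (finSumFinEquiv (m := 2) (n := 2))).toMonoidHom).comp
    (MonoidHom.toHomUnits (Submonoid.subtype (Matrix.symplecticGroup (Fin 2) F)))

theorem rho_injective : Function.Injective (rho F) := by
  intro a b hab
  have h1 := congrArg Units.val hab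
  apply Subtype.ext
  exact (Matrix.reindexAlgEquiv F F (finSumFinEquiv (m := 2) (n := 2))).injective h1

theorem noHall_Sp4 [CharP F 2] (hF : 4 ≤ Fintype.card F) [IsSimpleGroup (Matrix.symplecticGroup (Fin 2) F)]
    (hns : ¬ Group.IsSolvable (Matrix.symplecticGroup (Fin 2) F)) : NoHall 2 (Matrix.symplecticGroup (Fin 2) F) := by
  intro H hH
  have hp2 : Fact (Nat.Prime 2) := ⟨Nat.prime_two⟩
  obtain ⟨k, hk0, hk⟩ := hH.1
  obtain ⟨f, hf, hqf⟩ := exists_pow (F := F) (p := 2)
  have hf2 : 2 ≤ f := by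
    by_contra h
    have : f = 1 := by omega
    subst this
    omega
  have hc := S0245.result (F := F) hqf 2
  simp only [Finset.prod_range_succ, Finset.prod_range_zero] at hc
  norm_num at hc
  obtain ⟨r, hr⟩ := Ppd.exists (p := 2) (n := f * 4) le_rfl (by omega) (by omega)
  have hrK : r ∣ Nat.card (Matrix.symplecticGroup (Fin 2) F) := by
    rw [hc]
    refine Dvd.dvd.mul_left (Dvd.dvd.mul_left ?_ _) _
    rw [← pow_mul]
    exact (hr.dvd_iff one_le_two _).2 dvd_rfl
  have h4 := Hall.dvd Nat.prime_two hH hk hr (by omega) hrK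
  have hle : k ≤ f * 4 := by
    refine Hall.le (m := ((2 ^ f) ^ 2 - 1) * ((2 ^ f) ^ 4 - 1)) Nat.prime_two hk (g := 1) ?_ ?_
    · rw [one_mul, hc]
      ring
    · rw [Nat.prime_two.dvd_mul, ← pow_mul, ← pow_mul]
      push Not
      exact ⟨not_dvd_sub Nat.prime_two (by omega), not_dvd_sub Nat.prime_two (by omega)⟩
  have hk4 : k = f * 4 := le_antisymm hle (Nat.le_of_dvd hk0 h4)
  -- `H` has odd order
  have hodd : ¬ 2 ∣ Nat.card H := by
    have h1 := H.card_mul_index
    rw [hk, hc, hk4] at h1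
    have h2 : Nat.card H * 2 ^ (f * 4) = (((2 ^ f) ^ 2 - 1) * ((2 ^ f) ^ 4 - 1)) * 2 ^ (f * 4) := by
      rw [h1]
      ring
    rw [Nat.eq_of_mul_eq_mul_right (by positivity) h2, Nat.prime_two.dvd_mul, ← pow_mul, ← pow_mul]
    push Not
    exact ⟨not_dvd_sub Nat.prime_two (by omega), not_dvd_sub Nat.prime_two (by omega)⟩
  have := Fact.mk hr.prime
  obtain ⟨R, hR⟩ := hH.2 r (hr.ne (by omega)) hrK
  have hcop : (Nat.card (normalizer ((R : Subgroup (Matrix.symplecticGroup (Fin 2) F)) : Set (Matrix.symplecticGroup (Fin 2) F)))).Coprime 4 := by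
    have h1 : ¬ 2 ∣ Nat.card (normalizer ((R : Subgroup (Matrix.symplecticGroup (Fin 2) F)) : Set (Matrix.symplecticGroup (Fin 2) F))) :=
      fun h => hodd (h.trans (Subgroup.card_dvd_of_le hR))
    have h2 := ((Nat.Prime.coprime_iff_not_dvd Nat.prime_two).2 h1).symm
    exact h2.pow_right 2
  refine Gal.simple_false hns R hrK ?_
  exact Gal.normalizer_le_centralizer (p := 2) hqf (by norm_num) hr.prime (hr.ne (by omega))
    (hr.orderOf_pow (by omega)) (rho F) rho_injective R hrK hcop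

universe u v

/-- the row `PSp 4 q`, `q` even -/
theorem supp_PSp4_even {F : Type v} [Field F] [Fintype F] [CharP F 2] (hF : 4 ≤ Fintype.card F)
    [IsSimpleGroup (Cfsg.PSp 2 F)] (hns : ¬ Group.IsSolvable (Cfsg.PSp 2 F)) : Supp.{u} 3 (Cfsg.PSp 2 F) := by
  have : Fact (Nat.Prime 2) := ⟨Nat.prime_two⟩
  have h := Cfsg.Agent.Omega.ML.Ex.Typ.typ_PSp (F := F) (m := 2) (by norm_num) (p := 2)
  have hc : Subgroup.center (Matrix.symplecticGroup (Fin 2) F) = ⊥ := by
    rw [← Subgroup.card_eq_one, S0246.result rfl 2 (by norm_num)]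
    obtain ⟨f, hf, hqf⟩ := exists_pow (F := F) (p := 2)
    rw [hqf, Nat.gcd_comm]
    exact (Nat.coprime_comm.1 ((Nat.Prime.coprime_iff_not_dvd Nat.prime_two).2 (not_dvd_sub Nat.prime_two hf)))
  let e : Cfsg.PSp 2 F ≃* Matrix.symplecticGroup (Fin 2) F :=
    (QuotientGroup.quotientMulEquivOfEq hc).trans QuotientGroup.quotientBot
  have : IsSimpleGroup (Matrix.symplecticGroup (Fin 2) F) := e.symm.isSimpleGroup
  refine supp_of_noHall hns h (by norm_num) (NoHall.of_equiv e (noHall_Sp4 hF ?_))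
  intro hs
  exact hns (Group.isSolvable_of_isSolvable_injective (f := e.toMonoidHom) e.injective)

end sp

end Cfsg.Agent.H288.BnSp
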