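import Cfsg.Agent.H288.BnTwo
import Cfsg.Agent.H288.BnHall
import Cfsg.Agent.H580.BN
import Cfsg.Agent.S0316

/-!
# Split (B,N)-pairs of rank one and two: supplements (helper288, S5907)
-/

set_option autoImplicit false
set_option linter.unusedSectionVars false

namespace Cfsg.Agent.H288.BnSplit

open Subgroup Cfsg.Agent.H339.MaxCl Cfsg.Agent.H288.BnAbs Cfsg.Agent.H288.BnHall Cfsg.Agent.Schreier.BNSch
  Cfsg.Agent.FixBN Cfsg.Agent.H288.BnTwo

universe u v

section transport

variable {S K : Type*} [Group S] [Group K]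

theorem map_conj_map (e : S ≃* K) (g : S) (Q : Subgroup S) :
    (Q.map (MulAut.conj g).toMonoidHom).map e.toMonoidHom = (Q.map e.toMonoidHom).map (MulAut.conj (e g)).toMonoidHom := by
  rw [Subgroup.map_map, Subgroup.map_map]
  congr 1
  ext x
  simp

theorem Spread.transport {p : ℕ} (e : S ≃* K) {U : Sylow p S} (h : Spread p U) {U' : Sylow p K}
    (hU' : (U' : Subgroup K) = (U : Subgroup S).map e.toMonoidHom) : Spread p U' := by
  intro r _ hrp R hR
  obtain ⟨R0, hR0⟩ := exists_sylow_map e.symm R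
  have hN : (normalizer ((U : Subgroup S) : Set S)).map e.toMonoidHom = normalizer ((U' : Subgroup K) : Set K) := by
    rw [hU', ← map_normalizer]
  have h1 : (R0 : Subgroup S) ≤ normalizer ((U : Subgroup S) : Set S) := by
    rw [← map_le_iff e, hR0, BnTwo.map_map_symm, hN]
    exact hR
  obtain ⟨g, hg, hRg⟩ := h r hrp R0 h1
  refine ⟨e g, ?_, ?_⟩
  · rw [hU', ← map_conj_map]
    intro h2
    exact hg (Subgroup.map_injective e.injective h2)
  · rw [← hN, ← map_conj_map]
    have h3 := Subgroup.map_mono (f := e.toMonoidHom) hRg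
    rwa [hR0, BnTwo.map_map_symm] at h3

end transport

section crit

variable {K : Type v} [Group K] [Finite K] [IsSimpleGroup K] {p : ℕ} [Fact p.Prime] {U : Sylow p K}
  {I : Type*} [Finite I] {P : Set I → Subgroup K}

/-- the index trick -/
theorem supp_of_noHall' [Nonempty I] (hns : ¬ Group.IsSolvable K) (hP : ParSys p U P) (hs : Spread p U)
    (hno : NoHall p K) : Supp.{u} 3 K := by
  rintro X _ _ S _ ⟨f⟩ - - - -
  have hS : IsSimpleGroup ↥S := f.isSimpleGroup
  have hns' : ¬ Group.IsSolvable ↥S := fun h =>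
    hns (Group.isSolvable_of_isSolvable_injective (f := f.symm.toMonoidHom) f.symm.injective)
  obtain ⟨U', hU'⟩ := exists_sylow_map f.symm U
  have hP' := ParSys.transport f.symm hP hU'
  have hs' := Spread.transport f.symm hs hU'
  by_contra hcl
  have hpS : p ∣ Nat.card ↥S := by
    by_contra hpS
    have h1 : (U' : Subgroup ↥S) = ⊥ := by
      rw [← Subgroup.card_eq_one]
      obtain ⟨m, hm⟩ := (IsPGroup.iff_card (p := p)).1 U'.2
      rcases Nat.eq_zero_or_pos m with rfl | hm0
      · rw [hm, pow_zero]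
      · exfalso
        apply hpS
        have h3 : p ∣ Nat.card (U' : Subgroup ↥S) := by rw [hm]; exact dvd_pow_self p hm0.ne'
        exact h3.trans (Subgroup.card_subgroup_dvd_card _)
    obtain ⟨V, hV, hVU, -⟩ := hP'.rad ∅ (Set.empty_ne_univ)
    apply hV
    rw [eq_bot_iff, ← h1]
    exact hVU
  obtain ⟨H, hH⟩ := exists_hall hS hns' hP' hs' hpS hcl
  exact hno.of_equiv f H hH

/-- an invariant node -/
theorem supp_of_node (hP : ParSys p U P) {i : I} (hi : ({i} : Set I) ≠ Set.univ)
    (h : ∀ j, j ≠ i → ∀ α : MulAut K, (U : Subgroup K).map α.toMonoidHom = U → (P {i}).map α.toMonoidHom ≠ P {j}) :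
    Supp.{u} 3 K := by
  rintro X _ _ S _ ⟨f⟩ - - - -
  have hS : IsSimpleGroup ↥S := f.isSimpleGroup
  obtain ⟨U', hU'⟩ := exists_sylow_map f.symm U
  have hP' := ParSys.transport f.symm hP hU'
  refine hP'.nCl_three (J := {i}) ⟨i, rfl⟩ hi ?_
  intro x hx
  obtain ⟨j, hj⟩ := hP'.exists_atom _ hx i
  rw [hj]
  by_cases hji : j = i
  · rw [hji]
  · exfalso
    let β : MulAut ↥S := MulAut.conjNormal x
    have hc : ∀ Q : Subgroup K, (Q.map ((f.symm.trans β).trans f : MulAut K).toMonoidHom) =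
        ((Q.map f.symm.toMonoidHom).map β.toMonoidHom).map f.toMonoidHom := by
      intro Q
      rw [map_map_equiv, map_map_equiv]
      rfl
    refine h j hji ((f.symm.trans β).trans f : MulAut K) ?_ ?_
    · rw [hc, ← hU']
      have h1 : (U' : Subgroup ↥S).map β.toMonoidHom = U' := hx
      rw [h1, hU', BnTwo.map_map_symm]
    · rw [hc]
      have h1 : ((P {i}).map f.symm.toMonoidHom).map β.toMonoidHom = (P {j}).map f.symm.toMonoidHom := hj
      rw [h1, BnTwo.map_map_symm]

end crit

section split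

variable {K : Type v} [Group K] [Finite K] {p : ℕ} [Fact p.Prime] {Q : Cfsg.BNPair K} {U : Subgroup K}

/-- the parabolic system of a split (B,N)-pair -/
theorem parSys_split (h : Split Q p U) {U' : Sylow p K} (hU' : (U' : Subgroup K) = U)
    (hrad : ∀ J : Set Q.S, J ≠ Set.univ → ∃ V : Subgroup K, V ≠ ⊥ ∧ V ≤ U ∧
      Q.parabolic (Subtype.val '' J) ≤ normalizer (V : Set K)) :
    ParSys p U' (fun J : Set Q.S => Q.parabolic (Subtype.val '' J)) where
  le_iff J L := by
    rw [parabolic_le_iff Q (Subtype.coe_image_subset _ _) (Subtype.coe_image_subset _ _)]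
    exact Set.image_subset_image_iff Subtype.val_injective
  norm_le J := by
    rw [hU', h.normalizer_eq]
    exact B_le_parabolic Q _
  surj M hM := by
    rw [hU', h.normalizer_eq] at hM
    obtain ⟨J, hJ, hMJ⟩ := Cfsg.Agent.S0311.result Q M hM
    refine ⟨Subtype.val ⁻¹' J, ?_⟩
    rw [Subtype.image_preimage_coe, Set.inter_eq_right.2 hJ]
    exact hMJ
  rad J hJ := by
    obtain ⟨V, h1, h2, h3⟩ := hrad J hJ
    exact ⟨V, h1, by rwa [hU'], h3⟩

theorem node_le_normalizer {s : K} {V : Subgroup K} (hN : Node Q U s V) :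
    Q.parabolic {s} ≤ normalizer (V : Set K) := by
  intro g hg
  rw [mem_normalizer_iff]
  intro v
  constructor
  · intro hv
    have := hN.conj_mem (inv_mem hg) hv
    rwa [inv_inv] at this
  · intro hv
    have := hN.conj_mem hg hv
    have e : g⁻¹ * (g * v * g⁻¹) * g = v := by group
    rwa [e] at this

/-- the radical of the panel is determined by the panel -/
theorem node_map {s t : K} (hUB : U ≤ Q.B) {V V' : Subgroup K} (hN : Node Q U s V) (hN' : Node Q U t V')
    {α : MulAut K} (hα : U.map α.toMonoidHom = U) (hst : (Q.parabolic {s}).map α.toMonoidHom = Q.parabolic {t}) :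
    V.map α.toMonoidHom ≤ V' := by
  rintro _ ⟨v, hv, rfl⟩
  have h1 : α v ∈ U := by rw [← hα]; exact ⟨v, hN.le hv, rfl⟩
  apply hN'.stab _ h1
  have h2 : t ∈ (Q.parabolic {s}).map α.toMonoidHom := by rw [hst]; exact mem_parabolic_self Q t
  obtain ⟨g, hg, hgt⟩ := h2
  have h3 : α g = t := hgt
  have h4 := hN.conj_mem hg hv
  have h5 : t⁻¹ * α v * t = α (g⁻¹ * v * g) := by rw [map_mul, map_mul, map_inv, h3]
  change t⁻¹ * α v * t ∈ Q.B
  rw [h5]
  apply hUB
  rw [← hα]
  exact ⟨_, hN.le h4, rfl⟩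

theorem card_B (h : Split Q p U) : Nat.card Q.B = Nat.card (Q.B ⊓ Q.N : Subgroup K) * Nat.card U := by
  have hle : Nat.card Q.B ≤ Nat.card (Q.B ⊓ Q.N : Subgroup K) * Nat.card U := by
    rw [← Nat.card_prod]
    refine Nat.card_le_card_of_surjective
      (fun x : ↥(Q.B ⊓ Q.N : Subgroup K) × ↥U =>
        (⟨x.2 * x.1, mul_mem (h.le x.2.2) (mem_inf.1 x.1.2).1⟩ : ↥Q.B)) ?_
    rintro ⟨b, hb⟩
    obtain ⟨u, hu, t, ht, e⟩ := h.cover' hb
    exact ⟨(⟨t, ht⟩, ⟨u, hu⟩), Subtype.ext e.symm⟩
  refine le_antisymm hle (Nat.le_of_dvd Nat.card_pos ?_)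
  refine Nat.Coprime.mul_dvd_of_dvd_of_dvd ?_ (Subgroup.card_dvd_of_le inf_le_left) (Subgroup.card_dvd_of_le h.le)
  obtain ⟨n, hn⟩ := (IsPGroup.iff_card (p := p)).1 h.isP
  rw [hn]
  apply Nat.Coprime.pow_right
  rw [Nat.coprime_comm, Nat.Prime.coprime_iff_not_dvd Fact.out]
  intro hd
  obtain ⟨m, hm, hH⟩ := h.tor
  obtain ⟨x, hx⟩ := exists_prime_orderOf_dvd_card' p hd
  apply hm
  rw [← hx]
  apply orderOf_dvd_of_pow_eq_one
  apply Subtype.ext
  exact hH x (mem_inf.1 x.2).1 (mem_inf.1 x.2).2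

/-- Sylow subgroups of `B` normalise another Sylow `p`-subgroup -/
theorem spread_split (h : Split Q p U) {U' : Sylow p K} (hU' : (U' : Subgroup K) = U) (hS : Q.S.Nonempty) :
    Spread p U' := by
  intro r hr hrp R hR
  rw [hU', h.normalizer_eq] at hR
  have hcard := card_B h
  set T : Subgroup K := Q.B ⊓ Q.N with hT
  have hTB : T ≤ Q.B := inf_le_left
  let Q0 : Sylow r ↥T := default
  have h1 : ¬ r ∣ ((Q0 : Subgroup ↥T).map T.subtype).index := by
    intro hdvd
    have e1 : Nat.card ((Q0 : Subgroup ↥T).map T.subtype) = Nat.card (Q0 : Subgroup ↥T) :=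
      Subgroup.card_map_of_injective T.subtype_injective
    have e2 : Nat.card ((Q0 : Subgroup ↥T).map T.subtype) * ((Q0 : Subgroup ↥T).map T.subtype).index = Nat.card K :=
      Subgroup.card_mul_index _
    have e3 : Nat.card Q.B * Q.B.index = Nat.card K := Subgroup.card_mul_index _
    have e4 : Nat.card (Q0 : Subgroup ↥T) * (Q0 : Subgroup ↥T).index = Nat.card T := Subgroup.card_mul_index _
    have e5 : Nat.card (Q0 : Subgroup ↥T) * ((Q0 : Subgroup ↥T).map T.subtype).index =
        Nat.card (Q0 : Subgroup ↥T) * ((Q0 : Subgroup ↥T).index * Nat.card U * Q.B.index) := by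
      rw [← e1, e2, ← e3, hcard, ← e4, e1]
      ring
    rw [Nat.eq_of_mul_eq_mul_left Nat.card_pos e5] at hdvd
    rcases hr.out.dvd_mul.1 hdvd with h2 | h2
    · rcases hr.out.dvd_mul.1 h2 with h3 | h3
      · exact Q0.not_dvd_index h3
      · obtain ⟨m, hm⟩ := (IsPGroup.iff_card (p := p)).1 h.isP
        rw [hm] at h3
        exact hrp ((Nat.prime_dvd_prime_iff_eq hr.out Fact.out).1 (hr.out.dvd_of_dvd_pow h3))
    · exact R.not_dvd_index (h2.trans (Subgroup.index_dvd_of_le hR))
  have hQ1 : IsPGroup r ((Q0 : Subgroup ↥T).map T.subtype) := Q0.2.map _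
  let Q1 : Sylow r K := hQ1.toSylow h1
  have hQ1T : (Q1 : Subgroup K) ≤ T := by
    rintro _ ⟨a, -, rfl⟩
    exact a.2
  obtain ⟨c, hc, hcQ⟩ := exists_conj_le Q1 R (hQ1T.trans hTB) hR
  obtain ⟨s, hs⟩ := hS
  have hsB : s ∉ Q.B := not_mem_B Q hs
  have hTs : T ≤ Q.B.map (MulAut.conj s).toMonoidHom := by
    intro t ht
    rw [mem_map_conj]
    have := Q.conj_mem s⁻¹ (Q.N.inv_mem (Q.subset hs)) t ht
    rwa [inv_inv] at this
  refine ⟨c⁻¹ * s, ?_, ?_⟩
  · intro e
    have h3 : c⁻¹ * s ∈ normalizer ((U' : Subgroup K) : Set K) := mem_normalizer_iff_conj.2 e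
    rw [hU', h.normalizer_eq] at h3
    apply hsB
    have h4 := mul_mem hc h3
    rwa [mul_inv_cancel_left] at h4
  · rw [hU', h.normalizer_eq, ← map_conj_mul]
    have h4 : (R : Subgroup K) = (Q1 : Subgroup K).map (MulAut.conj c⁻¹).toMonoidHom := by
      rw [← hcQ, map_conj_mul, inv_mul_cancel, map_conj_one]
    rw [h4]
    exact Subgroup.map_mono (hQ1T.trans hTs)

/-- rank one -/
theorem supp_rank_one [IsSimpleGroup K] (hns : ¬ Group.IsSolvable K) (h : Split Q p U) {s : K} (hS : Q.S = {s})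
    (hno : NoHall p K) : Supp.{u} 3 K := by
  obtain ⟨U', hU'⟩ := Cfsg.Agent.H580.BN.exists_sylow_of_split h
  have hs : s ∈ Q.S := by rw [hS]; rfl
  have : Nonempty Q.S := ⟨⟨s, hs⟩⟩
  have hsub : ∀ a : Q.S, a = ⟨s, hs⟩ := by
    rintro ⟨a, ha⟩
    apply Subtype.ext
    rw [hS] at ha
    exact ha
  have hss : Subsingleton Q.S := ⟨fun a b => (hsub a).trans (hsub b).symm⟩
  have hfin : Finite Q.S := inferInstance
  have hP := parSys_split h hU' (by
    intro J hJ
    have hJ0 : J = ∅ := by
      rw [Set.eq_empty_iff_forall_notMem]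
      intro a ha
      apply hJ
      rw [Set.eq_univ_iff_forall]
      intro b
      rw [hsub b, ← hsub a]
      exact ha
    subst hJ0
    refine ⟨U, ?_, le_rfl, ?_⟩
    · rintro rfl
      obtain ⟨V, hV⟩ := h.node s hs
      obtain ⟨u, hu, huV⟩ := hV.ne
      rw [Subgroup.mem_bot] at hu
      subst hu
      exact huV (one_mem V)
    · rw [Set.image_empty, parabolic_empty, h.normalizer_eq])
  exact supp_of_noHall' hns hP (spread_split h hU' ⟨s, hs⟩) hno

/-- rank two, different panels -/
theorem supp_rank_two [IsSimpleGroup K] (h : Split Q p U) {s t : K} (hS : Q.S = {s, t}) (hst : s ≠ t)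
    {V V' : Subgroup K} (hN : Node Q U s V) (hN' : Node Q U t V') (hV : V ≠ ⊥) (hV' : V' ≠ ⊥)
    (hc : Nat.card V' < Nat.card V) : Supp.{u} 3 K := by
  obtain ⟨U', hU'⟩ := Cfsg.Agent.H580.BN.exists_sylow_of_split h
  have hs : s ∈ Q.S := by rw [hS]; exact Or.inl rfl
  have ht : t ∈ Q.S := by rw [hS]; exact Or.inr rfl
  have hall : ∀ a : Q.S, a = ⟨s, hs⟩ ∨ a = ⟨t, ht⟩ := by
    rintro ⟨a, ha⟩
    rw [hS] at ha
    rcases ha with rfl | ha
    · exact Or.inl rfl
    · rw [Set.mem_singleton_iff] at ha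
      subst ha
      exact Or.inr rfl
  have hfin : Finite Q.S := by
    have : Q.S.Finite := by rw [hS]; exact Set.toFinite _
    exact this
  have hP := parSys_split h hU' (by
    intro J hJ
    by_cases h1 : (⟨s, hs⟩ : Q.S) ∈ J
    · have h2 : (⟨t, ht⟩ : Q.S) ∉ J := fun h2 => hJ (Set.eq_univ_iff_forall.2 fun a => by
        rcases hall a with rfl | rfl
        · exact h1
        · exact h2)
      have h3 : J = {⟨s, hs⟩} := by
        ext a
        rcases hall a with rfl | rfl
        · simp [h1]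
        · simp only [Set.mem_singleton_iff, Subtype.mk.injEq]
          exact ⟨fun h4 => absurd h4 h2, fun h4 => absurd h4.symm hst⟩
      subst h3
      refine ⟨V, hV, hN.le, ?_⟩
      rw [Set.image_singleton]
      exact node_le_normalizer hN
    · by_cases h2 : (⟨t, ht⟩ : Q.S) ∈ J
      · have h3 : J = {⟨t, ht⟩} := by
          ext a
          rcases hall a with rfl | rfl
          · simp only [Set.mem_singleton_iff, Subtype.mk.injEq]
            exact ⟨fun h4 => absurd h4 h1, fun h4 => absurd h4 hst⟩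
          · simp [h2]
        subst h3
        refine ⟨V', hV', hN'.le, ?_⟩
        rw [Set.image_singleton]
        exact node_le_normalizer hN'
      · have h3 : J = ∅ := by
          rw [Set.eq_empty_iff_forall_notMem]
          intro a ha
          rcases hall a with rfl | rfl
          · exact h1 ha
          · exact h2 ha
        subst h3
        refine ⟨U, fun e => hV (by rw [eq_bot_iff, ← e]; exact hN.le), le_rfl, ?_⟩
        rw [Set.image_empty, parabolic_empty, h.normalizer_eq])
  refine supp_of_node hP (i := ⟨s, hs⟩) ?_ ?_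
  · intro e
    have h1 : (⟨t, ht⟩ : Q.S) ∈ ({⟨s, hs⟩} : Set Q.S) := e ▸ Set.mem_univ _
    rw [Set.mem_singleton_iff, Subtype.mk.injEq] at h1
    exact hst h1.symm
  · intro j hj α hα hα2
    rcases hall j with rfl | rfl
    · exact hj rfl
    · rw [Set.image_singleton, Set.image_singleton] at hα2
      rw [hU'] at hα
      have h1 := node_map h.le hN hN' hα hα2
      have h2 := Nat.card_le_card_of_injective _ (Subgroup.inclusion_injective h1)
      rw [Subgroup.card_map_of_injective (f := α.toMonoidHom) (MulEquiv.injective α)] at h2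
      omega

end split

end Cfsg.Agent.H288.BnSplit
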