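import Cfsg.Agent.H288.BnTwo
import Cfsg.Agent.Mrg.ParSys.Fam.D4

/-!
# `³D₄(q)`: three classes of supplements (helper288, S5907)
-/

set_option autoImplicit false

namespace Cfsg.Agent.H288.BnTwD

open Cfsg Cfsg.Agent.H339.MaxCl Cfsg.Agent.H288.BnTwo

universe u v

/-- the row `³D₄(q)` -/
theorem supp_twD4 {K : Type v} [Field K] [Fintype K] {q : ℕ} (hq : IsPrimePow q) (hK : Fintype.card K = q ^ 3)
    [IsSimpleGroup ↥(Lie.twistedD4 K q)] : Supp.{u} 3 ↥(Lie.twistedD4 K q) := by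
  obtain ⟨p, hp⟩ := CharP.exists K
  have : Fact p.Prime := ⟨CharP.char_is_prime K p⟩
  obtain ⟨φ, hφ⟩ := ChevalleyStructure.D4Fixed.exists_frob hq hK
  have : Finite CoxeterMatrix.G₂.Group :=
    Nodes.RGDFold.finite_W (hp := Nodes.RGDTwD4.hp) CoxeterMatrix.G₂.toCoxeterSystem Nodes.RGDTwD4.isCartan
      Nodes.RGDTwD4.foldData
  refine NoSwap.supp (p := p) (noSwap_of_card (Nodes.RGDTwD4.rgd _ hK hφ p) (Nodes.RGDTwD4.G1_eq_top _ hK hφ) ?_)
  exact (Cfsg.Agent.KFacts.TwDFour.Out.card_ne hφ hK hq.one_lt).symm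

end Cfsg.Agent.H288.BnTwD
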