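import Cfsg.Agent.H288.BnSplit
import Cfsg.Agent.H69.OctTwF

/-!
# `²F₄(q)`: three classes of supplements (helper288, S5907)
-/

set_option autoImplicit false

namespace Cfsg.Agent.H288.BnTwF

open Cfsg Subgroup Cfsg.Agent.H339.MaxCl Cfsg.Agent.H288.BnSplit

universe u v

/-- the row `²F₄(q)` -/
theorem supp_twF4 {K : Type v} [Field K] [Fintype K] {m : ℕ} (hm : 1 ≤ m) (hK : Fintype.card K = 2 ^ (2 * m + 1))
    [IsSimpleGroup ↥(Lie.twistedF4 K (2 ^ m))] : Supp.{u} 3 ↥(Lie.twistedF4 K (2 ^ m)) := by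
  have : Fact (Nat.Prime 2) := ⟨Nat.prime_two⟩
  obtain ⟨Q, UE, s, t, V, V', hsp, hS, -, nV, nV', iV, iV', cU, -⟩ := H69.OctTwF.exists_pair (K := K) hm hK
  set q : ℕ := 2 ^ (2 * m + 1) with hq
  have hq1 : 1 < q := Nat.one_lt_two_pow (by omega)
  have h1 : Nat.card V * q = q ^ 12 := by
    have := Subgroup.relIndex_mul_relIndex ⊥ V UE bot_le nV.le
    rwa [relIndex_bot_left, relIndex_bot_left, iV, cU] at this
  have h2 : Nat.card V' * q ^ 2 = q ^ 12 := by
    have := Subgroup.relIndex_mul_relIndex ⊥ V' UE bot_le nV'.le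
    rwa [relIndex_bot_left, relIndex_bot_left, iV', cU] at this
  have h3 : Nat.card V = q ^ 11 := Nat.eq_of_mul_eq_mul_right (by omega : 0 < q) (by rw [h1]; ring)
  have h4 : Nat.card V' = q ^ 10 := Nat.eq_of_mul_eq_mul_right (by positivity : 0 < q ^ 2) (by rw [h2]; ring)
  have h5 : Nat.card V' < Nat.card V := by
    rw [h3, h4]
    exact Nat.pow_lt_pow_right hq1 (by norm_num)
  refine supp_rank_two hsp hS ?_ nV nV' ?_ ?_ h5
  · rintro rfl
    have h6 : V ≤ V' := fun v hv => nV'.stab v (nV.le hv) (hsp.le (nV.le (nV.conj_s v hv)))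
    have h7 := Nat.card_le_card_of_injective _ (Subgroup.inclusion_injective h6)
    omega
  · rintro rfl
    rw [Subgroup.card_bot] at h3
    have := Nat.one_lt_pow (by norm_num : (11 : ℕ) ≠ 0) hq1
    omega
  · rintro rfl
    rw [Subgroup.card_bot] at h4
    have := Nat.one_lt_pow (by norm_num : (10 : ℕ) ≠ 0) hq1
    omega

end Cfsg.Agent.H288.BnTwF
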