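import Cfsg.Agent.H288.BnRgd
import Cfsg.Agent.KFacts.RgdDiag

/-!
# Rank two (helper288, S5907)

* `rad_map` : automorphisms fixing `U` with `P_i ↦ P_j` map the radical `V_i` to `V_j`;
* `NoSwap K p` : a parabolic system with two nodes on `K` and no automorphism exchanging the two minimal parabolics;
* `NoSwap.supp` : `Supp 3 K`;
* `noSwap_of_card` : `|X (α_0)| ≠ |X (α_1)|`; `noSwap_of_comm` : `V_0` is abelian and `V_1` is not.
-/

set_option autoImplicit false
set_option linter.unusedSectionVars false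
set_option linter.style.haveILetI false

namespace Cfsg.Agent.H288.BnTwo

open CoxeterSystem Cfsg.Agent.ChevalleyStructure.CoxeterGeom Cfsg.Agent.Tits.Roots Cfsg.Agent.Tits.Core
  Cfsg.Agent.Tits.RootComb Cfsg.Agent.Tits.Exchange Cfsg.Agent.Nodes.Reps Cfsg.Agent.Nodes.BNOf
  Cfsg.Agent.Nodes.StabComb Cfsg.Agent.Nodes.Bruhat Cfsg.Agent.Nodes.OppDec Cfsg.Agent.Nodes.LeviDec
  Cfsg.Agent.KFacts.RgdCharP Cfsg.Agent.KFacts.RgdVJ
open Cfsg.Agent.H288.BnAbs Cfsg.Agent.H288.BnRgd Cfsg.Agent.H339.MaxCl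

section rgd

variable {I W Y : Type*} [Fintype I] [DecidableEq I] [Group W] [Group Y] {M : CoxeterMatrix I}
  {cs : CoxeterSystem M W} {A : I → I → ℤ} {h : IsCartan M A} {p : ℕ} {T : Subgroup Y} {n : I → Y}
  {X : (I → ℤ) → Subgroup Y}

/-- `U ∩ U^(n i) ≤ V_i` -/
theorem U_inf_cj [Finite W] (R : RGD cs h p T n X) (i : I) :
    RGD.Sup X (RGD.Pos cs h) ⊓ cj (n i) (RGD.Sup X (RGD.Pos cs h)) ≤ VJ cs h X {i} := by
  rintro x ⟨hx, hx0⟩
  obtain ⟨a, ha, v, hv, e⟩ := (mem_U_iff R (J := {i})).1 hx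
  have hx' : x ∈ cj (n i) (RGD.Sup X (RGD.Pos cs h)) := hx0
  rw [mem_cj] at hx'
  obtain ⟨a', ha', v', hv', e'⟩ := (mem_U_iff R (J := {i})).1 hx'
  have hn : n i ∈ PJ cs h T X {i} := LJ_le_PJ (n_mem_LJ R (Set.mem_singleton i))
  have hUJ : UJ cs h X {i} ≤ X (sr i) := RGD.Sup_le fun x hx => by
    have h1 : x = sr i := by
      obtain ⟨w, hw, k, hk, e⟩ := exists_of_mem_RootsJ (PosJ_subset _ hx)
      rw [Set.mem_singleton_iff] at hk
      subst hk
      rcases Cfsg.Agent.KFacts.RgdDiag.mem_WJ_singleton hw with rfl | rfl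
      · rw [e, map_one, Module.End.one_apply]
      · rw [rep_simple_sr] at e
        exfalso
        have h2 := hx.2.1 k
        rw [e, Pi.neg_apply, sr_self] at h2
        exact absurd h2 (by simp)
    rw [h1]
  -- `n a' n⁻¹ ∈ X_{-i}`
  have h1 : n i * a' * (n i)⁻¹ ∈ X (-sr i) := by
    have h2 : X (-sr i) = cj (n i) (X (sr i)) := by
      rw [R.conj i _ (isRoot_sr cs h i), rep_simple_sr]
    rw [h2]
    exact conj_mem_cj.2 (hUJ ha')
  have h2 : n i * v' * (n i)⁻¹ ∈ VJ cs h X {i} :=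
    (Subgroup.mem_normalizer_iff.1 (PJ_le_normalizer_VJ R _ hn) v').1 hv'
  have h3 : n i * a' * (n i)⁻¹ = a * v * (n i * v' * (n i)⁻¹)⁻¹ := by
    have h4 : x = n i * a' * (n i)⁻¹ * (n i * v' * (n i)⁻¹) := by
      have h5 : x = n i * ((n i)⁻¹ * x * n i) * (n i)⁻¹ := by group
      rw [h5, e']; group
    rw [← e, h4]; group
  have h4 : n i * a' * (n i)⁻¹ = 1 := by
    refine eq_one_of_mem_UN_of_mem_B R ?_ ?_
    · exact X_le_UN (isRoot_sr cs h i).neg (neg_nonpos.2 (sr_nonneg i)) h1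
    · rw [h3]
      refine RGD.U_le_B (mul_mem (mul_mem (UJ_le_U _ ha) (VJ_le_U _ hv)) (inv_mem (VJ_le_U _ h2)))
  have h5 : x = n i * v' * (n i)⁻¹ := by
    have h6 : x = n i * a' * (n i)⁻¹ * (n i * v' * (n i)⁻¹) := by
      have h7 : x = n i * ((n i)⁻¹ * x * n i) * (n i)⁻¹ := by group
      rw [h7, e']; group
    rw [h6, h4, one_mul]
  rw [h5]
  exact h2

theorem U_inf_cj_eq [Finite W] (R : RGD cs h p T n X) {i : I} {g : Y} (hg : g ∈ PJ cs h T X {i})
    (hgB : g ∉ RGD.B cs h T X) :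
    RGD.Sup X (RGD.Pos cs h) ⊓ cj g (RGD.Sup X (RGD.Pos cs h)) = VJ cs h X {i} := by
  apply le_antisymm
  · obtain ⟨w, hw, b, hb, k, hk, b', hb', e⟩ := (mem_PJ_iff_cell R).1 hg
    rcases Cfsg.Agent.KFacts.RgdDiag.mem_WJ_singleton hw with rfl | rfl
    · exact absurd (e ▸ mul_mem (mul_mem hb (RGD.T_le_B hk.mem_of_one)) hb') hgB
    · -- `k = n i t`
      have ht : (n i)⁻¹ * k ∈ T := (rp_simple cs R.nsys i).unique hk
      have hb1 : (n i)⁻¹ * k * b' ∈ RGD.B cs h T X := mul_mem (RGD.T_le_B ht) hb'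
      have hU : ∀ c ∈ RGD.B cs h T X, cj c (RGD.Sup X (RGD.Pos cs h)) = RGD.Sup X (RGD.Pos cs h) := fun c hc =>
        mem_normalizer_iff_cj.1 (R.B_le_normalizer_U hc)
      have h1 : cj g (RGD.Sup X (RGD.Pos cs h)) = cj b (cj (n i) (RGD.Sup X (RGD.Pos cs h))) := by
        have h2 : g = b * (n i * ((n i)⁻¹ * k * b')) := by rw [e]; group
        rw [h2, cj_mul, cj_mul, hU _ hb1]
      have h2 : RGD.Sup X (RGD.Pos cs h) ⊓ cj g (RGD.Sup X (RGD.Pos cs h)) =
          cj b (RGD.Sup X (RGD.Pos cs h) ⊓ cj (n i) (RGD.Sup X (RGD.Pos cs h))) := by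
        have h3 : cj b (RGD.Sup X (RGD.Pos cs h) ⊓ cj (n i) (RGD.Sup X (RGD.Pos cs h))) =
            cj b (RGD.Sup X (RGD.Pos cs h)) ⊓ cj b (cj (n i) (RGD.Sup X (RGD.Pos cs h))) :=
          Subgroup.map_inf _ _ (MulAut.conj b).toMonoidHom (MulEquiv.injective (MulAut.conj b))
        rw [h3, hU b hb, h1]
      rw [h2]
      have h3 : cj b (VJ cs h X {i}) = VJ cs h X {i} :=
        mem_normalizer_iff_cj.1 (PJ_le_normalizer_VJ R _ (B_le_PJ hb))
      rw [← h3]
      exact cj_mono b (U_inf_cj R i)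
  · refine le_inf (VJ_le_U _) ?_
    have h3 : cj g (VJ cs h X {i}) = VJ cs h X {i} :=
      mem_normalizer_iff_cj.1 (PJ_le_normalizer_VJ R _ hg)
    rw [← h3]
    exact cj_mono g (VJ_le_U _)

theorem map_cj (α : MulAut Y) (g : Y) (Q : Subgroup Y) :
    (cj g Q).map α.toMonoidHom = cj (α g) (Q.map α.toMonoidHom) := by
  unfold cj
  rw [Subgroup.map_map, Subgroup.map_map]
  congr 1
  ext x
  simp

/-- radicals go to radicals -/
theorem rad_map [Finite W] [Finite Y] [Fact p.Prime] (R : RGD cs h p T n X) (hG : GG cs h T X = ⊤) {U : Sylow p Y}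
    (hU : (U : Subgroup Y) = RGD.Sup X (RGD.Pos cs h)) (α : MulAut Y) (hα : (U : Subgroup Y).map α.toMonoidHom = U)
    {i j : I} (hij : (PJ cs h T X {i}).map α.toMonoidHom = PJ cs h T X {j}) :
    (VJ cs h X {i}).map α.toMonoidHom = VJ cs h X {j} := by
  have hp := parSys R hG hU
  have hn : n i ∈ PJ cs h T X {i} := (H339.RgdQuot.n_mem_PJ_iff R).2 rfl
  have hnB : n i ∉ RGD.B cs h T X := by
    rw [← PJ_empty R]
    intro h1
    exact (H339.RgdQuot.n_mem_PJ_iff R).1 h1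
  have hB : (RGD.B cs h T X).map α.toMonoidHom = RGD.B cs h T X := by
    have h1 := ParSys.norm_map α hα
    rwa [hU, normalizer_U R hG] at h1
  have hαn : α (n i) ∈ PJ cs h T X {j} := by
    rw [← hij]
    exact ⟨n i, hn, rfl⟩
  have hαnB : α (n i) ∉ RGD.B cs h T X := by
    intro h1
    rw [← hB] at h1
    obtain ⟨b, hb, e⟩ := h1
    have e' : α b = α (n i) := e
    rw [α.injective e'] at hb
    exact hnB hb
  rw [← U_inf_cj_eq R hn hnB, ← U_inf_cj_eq R hαn hαnB, ← hU, Subgroup.map_inf _ _ _ (MulEquiv.injective α),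
    map_cj, hα]

/-- `|U| = |X_i| |V_i|` -/
theorem card_U [Finite W] [Finite Y] (R : RGD cs h p T n X) (i : I) :
    Nat.card (RGD.Sup X (RGD.Pos cs h)) = Nat.card (X (sr i)) * Nat.card (VJ cs h X {i}) := by
  have hUJ : UJ cs h X {i} = X (sr i) := by
    apply le_antisymm
    · exact RGD.Sup_le fun x hx => by
        have h1 : x = sr i := by
          obtain ⟨w, hw, k, hk, e⟩ := exists_of_mem_RootsJ (PosJ_subset _ hx)
          rw [Set.mem_singleton_iff] at hk
          subst hk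
          rcases Cfsg.Agent.KFacts.RgdDiag.mem_WJ_singleton hw with rfl | rfl
          · rw [e, map_one, Module.End.one_apply]
          · rw [rep_simple_sr] at e
            exfalso
            have h2 := hx.2.1 k
            rw [e, Pi.neg_apply, sr_self] at h2
            exact absurd h2 (by simp)
        rw [h1]
    · exact RGD.le_Sup (sr_mem_PosJ (Set.mem_singleton i))
  have h1 : X (sr i) ⊓ VJ cs h X {i} = ⊥ := by rw [← hUJ]; exact UJ_inf_VJ R {i}
  have hXU : X (sr i) ≤ RGD.Sup X (RGD.Pos cs h) := RGD.le_Sup (S := RGD.Pos cs h) ⟨isRoot_sr cs h i, sr_nonneg i⟩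
  let f : X (sr i) × VJ cs h X {i} → (RGD.Sup X (RGD.Pos cs h) : Subgroup Y) := fun q =>
    ⟨q.1 * q.2, mul_mem (hXU q.1.2) (VJ_le_U _ q.2.2)⟩
  have hf : Function.Bijective f := by
    constructor
    · rintro ⟨a, v⟩ ⟨a', v'⟩ e
      have e1 : (a : Y) * v = a' * v' := congrArg Subtype.val e
      have e2 : (a' : Y)⁻¹ * a = v' * (v : Y)⁻¹ := by
        calc (a' : Y)⁻¹ * a = (a' : Y)⁻¹ * (a * v) * (v : Y)⁻¹ := by group
          _ = v' * (v : Y)⁻¹ := by rw [e1]; group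
      have e3 : (a' : Y)⁻¹ * a ∈ X (sr i) ⊓ VJ cs h X {i} :=
        ⟨(X (sr i)).mul_mem ((X (sr i)).inv_mem a'.2) a.2, by
          show (a' : Y)⁻¹ * a ∈ VJ cs h X {i}
          rw [e2]; exact mul_mem v'.2 (inv_mem v.2)⟩
      rw [h1, Subgroup.mem_bot] at e3
      have e4 : (a : Y) = a' := (inv_mul_eq_one.1 e3).symm
      rw [e4] at e1
      have e5 : (v : Y) = v' := mul_left_cancel e1
      exact Prod.ext (Subtype.ext e4) (Subtype.ext e5)
    · rintro ⟨u, hu⟩
      obtain ⟨a, ha, v, hv, e⟩ := (mem_U_iff R (J := {i})).1 hu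
      exact ⟨(⟨a, hUJ ▸ ha⟩, ⟨v, hv⟩), Subtype.ext e.symm⟩
  rw [← Nat.card_congr (Equiv.ofBijective f hf), Nat.card_prod]

end rgd

universe u v

section transport

variable {S K : Type*} [Group S] [Group K]

theorem map_map_equiv {A B C : Type*} [Group A] [Group B] [Group C] (e : A ≃* B) (f : B ≃* C) (Q : Subgroup A) :
    (Q.map e.toMonoidHom).map f.toMonoidHom = Q.map (e.trans f).toMonoidHom := by
  rw [Subgroup.map_map]
  rfl

theorem map_symm_map (e : S ≃* K) (Q : Subgroup S) : (Q.map e.toMonoidHom).map e.symm.toMonoidHom = Q := by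
  rw [map_map_equiv, MulEquiv.self_trans_symm]
  exact Subgroup.map_id Q

theorem map_map_symm (e : S ≃* K) (Q : Subgroup K) : (Q.map e.symm.toMonoidHom).map e.toMonoidHom = Q := by
  rw [map_map_equiv, MulEquiv.symm_trans_self]
  exact Subgroup.map_id Q

theorem map_le_iff (e : S ≃* K) {Q Q' : Subgroup S} :
    Q.map e.toMonoidHom ≤ Q'.map e.toMonoidHom ↔ Q ≤ Q' :=
  Subgroup.map_le_map_iff_of_injective e.injective

theorem map_normalizer (e : S ≃* K) (Q : Subgroup S) :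
    (Subgroup.normalizer (Q : Set S)).map e.toMonoidHom = Subgroup.normalizer ((Q.map e.toMonoidHom : Subgroup K) : Set K) :=
  Subgroup.map_equiv_normalizer_eq Q e

/-- transport of Sylow subgroups -/
theorem exists_sylow_map {p : ℕ} (e : S ≃* K) (U : Sylow p S) :
    ∃ U' : Sylow p K, (U' : Subgroup K) = (U : Subgroup S).map e.toMonoidHom := by
  refine ⟨{ (U : Subgroup S).map e.toMonoidHom with
      isPGroup' := U.2.map _
      is_maximal' := ?_ }, rfl⟩
  intro Q hQ hle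
  have h1 : (U : Subgroup S) ≤ Q.map e.symm.toMonoidHom := by
    rw [← map_symm_map e (U : Subgroup S)]
    exact Subgroup.map_mono hle
  have h2 := U.3 (hQ.map e.symm.toMonoidHom) h1
  rw [← map_map_symm e Q, h2]

theorem ParSys.transport {p : ℕ} (e : S ≃* K) {U : Sylow p S} {I : Type*} {P : Set I → Subgroup S}
    (h : ParSys p U P) {U' : Sylow p K} (hU' : (U' : Subgroup K) = (U : Subgroup S).map e.toMonoidHom) :
    ParSys p U' (fun J => (P J).map e.toMonoidHom) where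
  le_iff J K := by rw [map_le_iff, h.le_iff]
  norm_le J := by
    rw [hU', ← map_normalizer]
    exact Subgroup.map_mono (h.norm_le J)
  surj Q hQ := by
    rw [hU', ← map_normalizer] at hQ
    have h1 : Subgroup.normalizer ((U : Subgroup S) : Set S) ≤ Q.map e.symm.toMonoidHom := by
      have := Subgroup.map_mono (f := e.symm.toMonoidHom) hQ
      rwa [map_symm_map] at this
    obtain ⟨J, hJ⟩ := h.surj _ h1
    exact ⟨J, by rw [← hJ, map_map_symm]⟩
  rad J hJ := by
    obtain ⟨V, hV, hVU, hP⟩ := h.rad J hJ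
    refine ⟨V.map e.toMonoidHom, ?_, ?_, ?_⟩
    · intro h1
      apply hV
      rw [← map_symm_map e V, h1, Subgroup.map_bot]
    · rw [hU']
      exact Subgroup.map_mono hVU
    · rw [← map_normalizer]
      exact Subgroup.map_mono hP

end transport

/-- a parabolic system with two nodes and no exchange of the minimal parabolics -/
def NoSwap (p : ℕ) (K : Type*) [Group K] : Prop :=
  ∃ (U : Sylow p K) (P : Set (Fin 2) → Subgroup K), ParSys p U P ∧
    ∀ α : MulAut K, (U : Subgroup K).map α.toMonoidHom = U → (P {0}).map α.toMonoidHom ≠ P {1}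

theorem NoSwap.of_equiv {p : ℕ} {S K : Type*} [Group S] [Group K] (e : S ≃* K) (h : NoSwap p S) : NoSwap p K := by
  obtain ⟨U, P, hP, hs⟩ := h
  obtain ⟨U', hU'⟩ := exists_sylow_map e U
  refine ⟨U', _, ParSys.transport e hP hU', ?_⟩
  intro α hα h1
  have hc : ∀ Q : Subgroup S, (Q.map ((e.trans α).trans e.symm : MulAut S).toMonoidHom).map e.toMonoidHom =
      (Q.map e.toMonoidHom).map α.toMonoidHom := by
    intro Q
    rw [map_map_equiv, map_map_equiv]
    congr 1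
    ext x
    simp
  refine hs ((e.trans α).trans e.symm) ?_ ?_
  · apply Subgroup.map_injective (f := e.toMonoidHom) e.injective
    rw [hc, ← hU', hα]
  · apply Subgroup.map_injective (f := e.toMonoidHom) e.injective
    rw [hc]
    exact h1

theorem inv_singleton {p : ℕ} {X : Type*} [Group X] [Finite X] [Fact p.Prime] {S : Subgroup X} [S.Normal] {U : Sylow p ↥S}
    {P : Set (Fin 2) → Subgroup ↥S} (h : ParSys p U P)
    (hs : ∀ α : MulAut ↥S, (U : Subgroup ↥S).map α.toMonoidHom = U → (P {0}).map α.toMonoidHom ≠ P {1}) :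
    Inv U P {0} := by
  intro x hx
  obtain ⟨j, hj⟩ := h.exists_atom _ hx 0
  have h1 : j ≠ 1 := by
    rintro rfl
    exact hs _ hx hj
  have h2 : j = 0 := by omega
  rw [hj, h2]

/-- **the row without exchange** -/
theorem NoSwap.supp {p : ℕ} [Fact p.Prime] {K : Type v} [Group K] [IsSimpleGroup K] (hK : NoSwap p K) :
    Supp.{u} 3 K := by
  rintro X _ _ S _ ⟨f⟩ - - - -
  have hS : IsSimpleGroup ↥S := f.isSimpleGroup
  obtain ⟨U, P, hP, hs⟩ := hK.of_equiv f.symm
  exact hP.nCl_three (J := {0}) ⟨0, rfl⟩ (fun e => by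
    have : (1 : Fin 2) ∈ ({0} : Set (Fin 2)) := e ▸ Set.mem_univ 1
    exact absurd this (by simp)) (inv_singleton hP hs)

section rgd2

variable {Y : Type*} [Group Y] [Finite Y] {M : CoxeterMatrix (Fin 2)} {A : Fin 2 → Fin 2 → ℤ} {h : IsCartan M A} {p : ℕ}
  [Fact p.Prime] {T : Subgroup Y} {n : Fin 2 → Y} {X : (Fin 2 → ℤ) → Subgroup Y} [Finite M.Group]

theorem noSwap_of_card (R : RGD M.toCoxeterSystem h p T n X) (hX : Nodes.RGDLib.G1 M.toCoxeterSystem h X = ⊤)
    (hc : Nat.card (X (sr 0)) ≠ Nat.card (X (sr 1))) : NoSwap p Y := by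
  have hG : GG M.toCoxeterSystem h T X = ⊤ := Cfsg.Agent.KFacts.RgdFilt.GG_eq_top hX
  obtain ⟨U, hU⟩ := exists_U R hG
  refine ⟨U, _, parSys R hG hU, ?_⟩
  intro α hα h1
  have h2 := rad_map R hG hU α hα h1
  have h3 : Nat.card (VJ M.toCoxeterSystem h X {0}) = Nat.card (VJ M.toCoxeterSystem h X {1}) := by
    rw [← h2]
    exact (Subgroup.card_map_of_injective (MulEquiv.injective α)).symm
  have h4 := card_U R 0
  have h5 := card_U R 1
  rw [h4, h3] at h5
  exact hc (Nat.eq_of_mul_eq_mul_right Nat.card_pos h5)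

theorem noSwap_of_comm (R : RGD M.toCoxeterSystem h p T n X) (hX : Nodes.RGDLib.G1 M.toCoxeterSystem h X = ⊤)
    (hc : ∀ a ∈ VJ M.toCoxeterSystem h X {0}, ∀ b ∈ VJ M.toCoxeterSystem h X {0}, a * b = b * a)
    (hn : ∃ a ∈ VJ M.toCoxeterSystem h X {1}, ∃ b ∈ VJ M.toCoxeterSystem h X {1}, a * b ≠ b * a) : NoSwap p Y := by
  have hG : GG M.toCoxeterSystem h T X = ⊤ := Cfsg.Agent.KFacts.RgdFilt.GG_eq_top hX
  obtain ⟨U, hU⟩ := exists_U R hG
  refine ⟨U, _, parSys R hG hU, ?_⟩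
  intro α hα h1
  have h2 := rad_map R hG hU α hα h1
  obtain ⟨a, ha, b, hb, hab⟩ := hn
  rw [← h2] at ha hb
  obtain ⟨a', ha', rfl⟩ := ha
  obtain ⟨b', hb', rfl⟩ := hb
  apply hab
  rw [← map_mul, hc a' ha' b' hb', map_mul]

end rgd2

end Cfsg.Agent.H288.BnTwo
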