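import Cfsg.Agent.H288.BnTwo

/-!
# Rank two classical groups: no exchange of the parabolics (helper288, S5907)

`PSp_4(q)`, `q` odd, `PSU_4(q)`, `PSU_5(q)`.
-/

set_option autoImplicit false
set_option linter.unusedSectionVars false
set_option linter.style.haveILetI false

namespace Cfsg.Agent.H288.BnWitt

open Cfsg
open CoxeterSystem Cfsg.Agent.ChevalleyStructure.CoxeterGeom Cfsg.Agent.Tits.Roots
  Cfsg.Agent.Nodes.Comb Cfsg.Agent.Nodes.Reps Cfsg.Agent.Nodes.BNOf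
  Cfsg.Agent.Nodes.RGDLib Cfsg.Agent.Nodes.TypeC Cfsg.Agent.Nodes.StabComb Cfsg.Agent.Nodes.LeviDec
open Cfsg.Agent.Nodes Cfsg.Agent.Nodes.WittAll Cfsg.Agent.Nodes.WittU Cfsg.Agent.Nodes.WittInst
  Cfsg.Agent.Nodes.WittRoot Cfsg.Agent.Nodes.WittRGD
  Cfsg.Agent.TitsThree Cfsg.Agent.TitsThree.Siegel Cfsg.Agent.TitsThree.SiegelGen
  Cfsg.Agent.TitsThree.WittFrame Cfsg.Agent.TitsThree.WBridge Cfsg.Agent.TitsThree.WittWeyl
  Cfsg.Agent.TitsThree.FrameCN Cfsg.Agent.Omega.ML.Ex.Lie2.SemiDat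
open Cfsg.Agent.H288.BnTwo Cfsg.Agent.H339.MaxCl

universe u v

section general

variable {F : Type*} [Field F] {V : Type*} [AddCommGroup V] [Module F V] {H : HForm F V}
  {Fr : Frame H (Fin 2)} {K : Type*} [Group K] (M : Model Fr K) {p : ℕ}

theorem ee_zero (z : Fin 2 → ℤ) : ee z 0 = z 0 := by
  unfold ee
  rw [Finset.sum_apply, Fin.sum_univ_two]
  simp [bt_apply]

theorem ee_one (z : Fin 2 → ℤ) : ee z 1 = 2 * z 1 - z 0 := by
  unfold ee
  rw [Finset.sum_apply, Fin.sum_univ_two]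
  simp [bt_apply]
  ring

theorem exists_true {W : Type*} [Group W] {cs : CoxeterSystem (CoxeterMatrix.B 2) W} {z : Fin 2 → ℤ}
    (hz : z ∈ NotJ cs (isCartan 2) {0}) : ∃ i j : Fin 2, Ok (i, true) (j, true) ∧ ee z = wt (i, true) + wt (j, true) := by
  obtain ⟨hr, h0, k, hk, hk0⟩ := hz
  have hk1 : k = 1 := by
    rw [Set.mem_singleton_iff] at hk
    omega
  subst hk1
  obtain ⟨a, b, hab, e⟩ := exists_of_isRoot cs hr
  have e0 := congrFun e 0
  have e1 := congrFun e 1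
  rw [ee_zero, Pi.add_apply, wt_apply, wt_apply] at e0
  rw [ee_one, Pi.add_apply, wt_apply, wt_apply] at e1
  have h00 := h0 0
  have h01 : (0 : ℤ) ≤ z 0 := h00
  obtain ⟨i, s⟩ := a
  obtain ⟨j, t⟩ := b
  have key : s = true ∧ t = true := by
    unfold Ok at hab
    fin_cases i <;> fin_cases j <;> cases s <;> cases t <;> simp at e0 e1 hab ⊢ <;> omega
  obtain ⟨rfl, rfl⟩ := key
  exact ⟨i, j, hab, e⟩

theorem commute_PG (hV : ∀ w ∈ Fr.V0, w = 0) {i j k l : Fin 2} (h1 : Ok (i, true) (j, true)) (h2 : Ok (k, true) (l, true))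
    {g g' : V ≃ₗ[F] V} (hg : g ∈ PG Fr (i, true) (j, true)) (hg' : g' ∈ PG Fr (k, true) (l, true)) : g * g' = g' * g := by
  have hne : ∀ a b : Fin 2, ((a, true) : Fin 2 × Bool) ≠ WittFrame.neg (b, true) := by
    intro a b e
    have := congrArg Prod.snd e
    simp at this
  have hw : ∀ q : Fr.Adm, q.w = 0 := fun q => hV _ (Fr.ok_mem q.ok)
  have hZZ : ∀ (a b : Fin 2) (q r : Fr.Adm), Fr.Z (a, true) q * Fr.Z (b, true) r = Fr.Z (b, true) r * Fr.Z (a, true) q := by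
    intro a b q r
    by_cases hab : a = b
    · subst hab
      rw [← Fr.Z_mul, ← Fr.Z_mul]
      congr 1
      ext
      · rw [Frame.Adm.mul_w, Frame.Adm.mul_w, hw, hw]
      · rw [Frame.Adm.mul_c, Frame.Adm.mul_c, hw, hw]; ring
    · rw [Fr.Z_mul_Z (x := (a, true)) (y := (b, true)) hab]
      rw [hw, hw, H.zero_right, map_zero, mul_zero, neg_zero, Fr.X_zero, one_mul]
  have hZX : ∀ (a b c : Fin 2) (q : Fr.Adm) (t : F), Fr.Z (a, true) q * Fr.X (b, true) (c, true) t =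
      Fr.X (b, true) (c, true) t * Fr.Z (a, true) q := fun a b c q t =>
    Fr.commute_ZX (hne b a) (hne c a) q t
  have hXX : ∀ (a b c d : Fin 2) (s t : F), Fr.X (a, true) (b, true) s * Fr.X (c, true) (d, true) t =
      Fr.X (c, true) (d, true) t * Fr.X (a, true) (b, true) s := fun a b c d s t =>
    Fr.commute_XX (hne c a) (hne c b) (hne d a) (hne d b) s t
  have hform : ∀ {a b : Fin 2}, Ok (a, true) (b, true) → ∀ {g : V ≃ₗ[F] V}, g ∈ PG Fr (a, true) (b, true) →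
      (∃ q, g = Fr.Z (a, true) q) ∨ ∃ t, g = Fr.X (a, true) (b, true) t := by
    intro a b hab g hg
    rcases hab with h | h
    · rw [PG_ne Fr h] at hg
      exact Or.inr hg
    · rw [← h, PG_self] at hg
      exact Or.inl hg
  rcases hform h1 hg with ⟨q, rfl⟩ | ⟨s, rfl⟩ <;> rcases hform h2 hg' with ⟨r, rfl⟩ | ⟨t, rfl⟩
  · exact hZZ _ _ _ _
  · exact hZX _ _ _ _ _
  · exact (hZX _ _ _ _ _).symm
  · exact hXX _ _ _ _ _ _

theorem mem_NotJ_one {W : Type*} [Group W] {cs : CoxeterSystem (CoxeterMatrix.B 2) W} {z : Fin 2 → ℤ}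
    {a b : Fin 2 × Bool} (hab : Ok a b) (e : ee z = wt a + wt b) (h0 : 0 < z 0) (h1 : 0 ≤ z 1) :
    z ∈ NotJ cs (isCartan 2) {1} := by
  refine ⟨isRoot_iff.2 ⟨a, b, hab, e⟩, ?_, 0, by simp, h0⟩
  intro k
  fin_cases k
  · exact h0.le
  · exact h1

/-- `V_0` is abelian if `V0 = 0` and `V_1` is not if `H.σ` or `H.ε` is non-trivial -/
theorem noSwap_model (hA : AmbT Fr p M.I) [Finite V] [Fact p.Prime] [CharP F p] {p0 : Fr.Adm} (hp0 : p0.c ≠ 0)
    [Finite K] (hV : ∀ w ∈ Fr.V0, w = 0) (hm : ∃ m : F, m - H.ε⁻¹ * H.σ m ≠ 0) : NoSwap p K := by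
  have : Finite (CoxeterMatrix.B 2).Group := Nodes.TypeC.finite_W (CoxeterMatrix.B 2).toCoxeterSystem
  refine noSwap_of_comm (rgdC_model M hA hp0 _) (WittModel.G1_eq_top _ (by norm_num) _) ?_ ?_
  · -- `V_0` is abelian
    have key : ∀ z ∈ NotJ (CoxeterMatrix.B 2).toCoxeterSystem (isCartan 2) {0},
        ∀ z' ∈ NotJ (CoxeterMatrix.B 2).toCoxeterSystem (isCartan 2) {0}, ∀ a ∈ WittModel.X M z, ∀ b ∈ WittModel.X M z',
        a * b = b * a := by
      intro z hz z' hz' a ha b hb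
      obtain ⟨i, j, hij, e⟩ := exists_true hz
      obtain ⟨k, l, hkl, e'⟩ := exists_true hz'
      obtain ⟨g, hg, hgr, rfl⟩ := (WittModel.mem_X M).1 ha
      obtain ⟨g', hg', hgr', rfl⟩ := (WittModel.mem_X M).1 hb
      rw [rg_eq Fr hij e] at hgr
      rw [rg_eq Fr hkl e'] at hgr'
      rw [← map_mul, ← map_mul]
      congr 1
      exact Subtype.ext (commute_PG hV hij hkl hgr hgr')
    have h1 : ∀ z ∈ NotJ (CoxeterMatrix.B 2).toCoxeterSystem (isCartan 2) {0}, ∀ a ∈ WittModel.X M z,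
        ∀ b ∈ VJ (CoxeterMatrix.B 2).toCoxeterSystem (isCartan 2) (WittModel.X M) {0}, a * b = b * a := by
      intro z hz a ha b hb
      have h2 : VJ (CoxeterMatrix.B 2).toCoxeterSystem (isCartan 2) (WittModel.X M) {0} ≤ Subgroup.centralizer {a} :=
        RGD.Sup_le fun z' hz' b hb => Subgroup.mem_centralizer_singleton_iff.2 (key z hz z' hz' a ha b hb).symm
      exact (Subgroup.mem_centralizer_singleton_iff.1 (h2 hb)).symm
    intro a ha b hb
    have h2 : VJ (CoxeterMatrix.B 2).toCoxeterSystem (isCartan 2) (WittModel.X M) {0} ≤ Subgroup.centralizer {b} :=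
      RGD.Sup_le fun z hz a ha => Subgroup.mem_centralizer_singleton_iff.2 (h1 z hz a ha b hb)
    exact Subgroup.mem_centralizer_singleton_iff.1 (h2 ha)
  · -- `V_1` is not
    obtain ⟨m, hm⟩ := hm
    have h01 : ((0, true) : Fin 2 × Bool).1 ≠ ((1, false) : Fin 2 × Bool).1 := by simp
    have h01' : ((0, true) : Fin 2 × Bool).1 ≠ ((1, true) : Fin 2 × Bool).1 := by simp
    -- roots
    have e1 : ee (![1, 0] : Fin 2 → ℤ) = wt ((0, true) : Fin 2 × Bool) + wt ((1, false) : Fin 2 × Bool) := by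
      funext k
      fin_cases k
      · rw [show (⟨0, by norm_num⟩ : Fin 2) = 0 from rfl, ee_zero]; simp [wt_apply]
      · rw [show (⟨1, by norm_num⟩ : Fin 2) = 1 from rfl, ee_one]; simp [wt_apply]
    have e2 : ee (![1, 1] : Fin 2 → ℤ) = wt ((0, true) : Fin 2 × Bool) + wt ((1, true) : Fin 2 × Bool) := by
      funext k
      fin_cases k
      · rw [show (⟨0, by norm_num⟩ : Fin 2) = 0 from rfl, ee_zero]; simp [wt_apply]
      · rw [show (⟨1, by norm_num⟩ : Fin 2) = 1 from rfl, ee_one]; simp [wt_apply]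
    have hz1 : (![1, 0] : Fin 2 → ℤ) ∈ NotJ (CoxeterMatrix.B 2).toCoxeterSystem (isCartan 2) {1} :=
      mem_NotJ_one (Or.inl h01) e1 (by simp) (by simp)
    have hz2 : (![1, 1] : Fin 2 → ℤ) ∈ NotJ (CoxeterMatrix.B 2).toCoxeterSystem (isCartan 2) {1} :=
      mem_NotJ_one (Or.inl h01') e2 (by simp) (by simp)
    have hX1 : ∀ t, Fr.X ((0, true) : Fin 2 × Bool) (1, false) t ∈ M.I := fun t =>
      hA.rg_le (![1, 0] : Fin 2 → ℤ) (by rw [rg_eq Fr (Or.inl h01) e1, PG_ne Fr h01]; exact ⟨t, rfl⟩)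
    have hX2 : ∀ t, Fr.X ((0, true) : Fin 2 × Bool) (1, true) t ∈ M.I := fun t =>
      hA.rg_le (![1, 1] : Fin 2 → ℤ) (by rw [rg_eq Fr (Or.inl h01') e2, PG_ne Fr h01']; exact ⟨t, rfl⟩)
    refine ⟨M.φ ⟨_, hX1 1⟩, ?_, M.φ ⟨_, hX2 (m * Fr.η (1, true))⟩, ?_, ?_⟩
    · refine RGD.le_Sup hz1 (WittModel.mem_X_of M _ ?_)
      rw [rg_eq Fr (Or.inl h01) e1, PG_ne Fr h01]
      exact ⟨1, rfl⟩
    · refine RGD.le_Sup hz2 (WittModel.mem_X_of M _ ?_)
      rw [rg_eq Fr (Or.inl h01') e2, PG_ne Fr h01']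
      exact ⟨_, rfl⟩
    · intro hcom
      apply hm
      have h3 := Fr.X_mul_X_same (x := ((0, true) : Fin 2 × Bool)) (y := (1, false)) h01 1 (m * Fr.η (1, true))
      have hnn : WittFrame.neg ((1, false) : Fin 2 × Bool) = (1, true) := rfl
      rw [hnn, map_one, one_mul, mul_assoc, mul_inv_cancel₀ (Fr.η_ne _), mul_one] at h3
      have h4 : M.φ ⟨Fr.Z (0, true) (Frame.Adm.tr m), M.hZ _ _⟩ = 1 := by
        have h5 : (⟨_, hX1 1⟩ : ↥M.I) * ⟨_, hX2 (m * Fr.η (1, true))⟩ =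
            ⟨Fr.Z (0, true) (Frame.Adm.tr m), M.hZ _ _⟩ * (⟨_, hX2 (m * Fr.η (1, true))⟩ * ⟨_, hX1 1⟩) :=
          Subtype.ext h3
        have h6 := congrArg M.φ h5
        rw [map_mul, map_mul, map_mul, hcom] at h6
        exact mul_eq_right.1 h6.symm
      have h5 := congrArg Frame.Adm.c (eq_one_of_Z M h4)
      rwa [Frame.Adm.tr_c, Frame.Adm.one_c] at h5

theorem card_zero_le [Finite F] : Nat.card (WittModel.X M (sr 0)) ≤ Nat.card F := by
  have h01 : ((0, true) : Fin 2 × Bool).1 ≠ ((1, false) : Fin 2 × Bool).1 := by simp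
  have hnx : nx (0 : Fin 2) = (1, false) := by
    unfold nx
    rw [dif_pos (by norm_num)]
    rfl
  have hmem : ∀ x ∈ WittModel.X M (sr 0), ∃ (t : F) (ht : Fr.X ((0, true) : Fin 2 × Bool) (1, false) t ∈ M.I),
      M.φ ⟨_, ht⟩ = x := by
    rintro _ ⟨g, hg, rfl⟩
    obtain ⟨g, hgI⟩ := g
    have h1 : g ∈ rg Fr (sr 0) := hg
    rw [rg_sr, hnx, PG_ne Fr h01] at h1
    obtain ⟨a, rfl⟩ := h1
    exact ⟨a, hgI, rfl⟩
  choose! f hf using hmem
  refine Nat.card_le_card_of_injective (fun x : WittModel.X M (sr 0) => f x.1) ?_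
  intro x y hxy
  obtain ⟨h1, h2⟩ := hf x.1 x.2
  obtain ⟨h3, h4⟩ := hf y.1 y.2
  apply Subtype.ext
  rw [← h2, ← h4]
  congr 2
  exact congrArg _ hxy

theorem card_adm_le_one [Finite K] : Nat.card Fr.Adm ≤ Nat.card (WittModel.X M (sr 1)) := by
  have hnx : nx (1 : Fin 2) = (1, true) := by
    unfold nx
    rw [dif_neg (by norm_num)]
  have hmem : ∀ q : Fr.Adm, M.φ ⟨Fr.Z (1, true) q, M.hZ _ _⟩ ∈ WittModel.X M (sr 1) := by
    intro q
    refine WittModel.mem_X_of M _ ?_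
    rw [rg_sr, hnx, PG_self]
    exact ⟨q, rfl⟩
  refine Nat.card_le_card_of_injective (fun q : Fr.Adm => (⟨_, hmem q⟩ : WittModel.X M (sr 1))) ?_
  intro q r e
  have e1 : M.φ ⟨Fr.Z (1, true) q, M.hZ _ _⟩ = M.φ ⟨Fr.Z (1, true) r, M.hZ _ _⟩ := congrArg Subtype.val e
  have e2 : M.φ ⟨Fr.Z (1, true) (q * r⁻¹), M.hZ _ _⟩ = 1 := by
    have h1 : (⟨Fr.Z (1, true) (q * r⁻¹), M.hZ _ _⟩ : ↥M.I) =
        ⟨Fr.Z (1, true) q, M.hZ _ _⟩ * (⟨Fr.Z (1, true) r, M.hZ _ _⟩)⁻¹ :=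
      Subtype.ext (by
        change Fr.Z (1, true) (q * r⁻¹) = Fr.Z (1, true) q * (Fr.Z (1, true) r)⁻¹
        rw [Fr.Z_mul, Fr.Z_inv])
    rw [h1, map_mul, map_inv, e1, mul_inv_cancel]
  exact mul_inv_eq_one.1 (eq_one_of_Z M e2)

end general

/-- **`PSp_4(F)`, odd characteristic** -/
theorem noSwap_PSp {F : Type*} [Field F] [Finite F] (h2 : (2 : F) ≠ 0) {p : ℕ} [Fact p.Prime] [CharP F p] :
    NoSwap p (PSp 2 F) := by
  have : Finite (PSp 2 F) := inferInstance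
  refine noSwap_model (KInstSp.model 2 F) (AmbT.of_amb amb_Sp p) (p0 := SpIdent.adm 1) one_ne_zero
    (fun w hw => (Submodule.mem_bot F).1 hw) ⟨1, ?_⟩
  change (1 : F) - (-1 : F)⁻¹ * 1 ≠ 0
  have : (1 : F) - (-1 : F)⁻¹ * 1 = 2 := by
    rw [inv_neg, inv_one]; norm_num
  rw [this]
  exact h2

section Unitary

open Cfsg.Agent.LieClassical.HermBasic Cfsg.Agent.TitsThree.KSideU

variable {F : Type*} [Field F] [Fintype F] {q : ℕ} (hF : Fintype.card F = q ^ 2)

include hF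

theorem exists_tr : ∃ m : F, m - m ^ q ≠ 0 := by
  by_contra hcon
  push Not at hcon
  have hq : 2 ≤ q := Omega.ML.Ex.Typ.two_le_q hF
  -- every element is a root of `X ^ q - X`
  have h1 : Fintype.card F ≤ q := by
    classical
    have h2 : (Polynomial.X ^ q - Polynomial.X : Polynomial F) ≠ 0 := by
      intro h
      have := congrArg Polynomial.natDegree h
      rw [Polynomial.natDegree_sub_eq_left_of_natDegree_lt (by
        rw [Polynomial.natDegree_X, Polynomial.natDegree_X_pow]; omega), Polynomial.natDegree_X_pow,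
        Polynomial.natDegree_zero] at this
      omega
    have h3 : (Finset.univ : Finset F).val ≤ (Polynomial.X ^ q - Polynomial.X : Polynomial F).roots := by
      rw [Finset.val_le_iff_val_subset]
      intro m _
      rw [Polynomial.mem_roots h2, Polynomial.IsRoot.def, Polynomial.eval_sub, Polynomial.eval_pow,
        Polynomial.eval_X]
      have := hcon m
      rw [sub_eq_zero] at this ⊢
      exact this.symm
    have h4 := Multiset.card_le_card h3
    refine h4.trans ((Polynomial.card_roots' _).trans ?_)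
    rw [Polynomial.natDegree_sub_eq_left_of_natDegree_lt (by
        rw [Polynomial.natDegree_X, Polynomial.natDegree_X_pow]; omega), Polynomial.natDegree_X_pow]
  rw [hF] at h1
  nlinarith

/-- **`PSU_4(q)`** -/
theorem noSwap_PSU4 {p : ℕ} [Fact p.Prime] [CharP F p] : NoSwap p (PSU 4 F q) := by
  obtain ⟨W, hW⟩ := exists_wframe_even hF (show 4 = 2 * 2 by norm_num)
  obtain ⟨p0, hp0, -⟩ := exists_adm hF W
  obtain ⟨m, hm⟩ := exists_tr hF
  refine noSwap_model (KInstU.model hF (by norm_num) W) (AmbT.of_amb (amb_U hF W) p) hp0 ?_ ⟨m, ?_⟩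
  · intro w hw
    have h1 : w ∈ W.V0 := hw
    rw [hW] at h1
    exact (Submodule.mem_bot F).1 h1
  · change m - (1 : F)⁻¹ * m ^ q ≠ 0
    rwa [inv_one, one_mul]

/-- **`PSU_5(q)`** -/
theorem noSwap_PSU5 {p : ℕ} [Fact p.Prime] [CharP F p] : NoSwap p (PSU 5 F q) := by
  obtain ⟨W, d, hd, hW⟩ := exists_wframe_odd hF (show 5 = 2 * 2 + 1 by norm_num)
  obtain ⟨p0, hp0, -⟩ := exists_adm hF W
  obtain ⟨m, hm⟩ := exists_tr hF
  have : Finite (CoxeterMatrix.B 2).Group := Nodes.TypeC.finite_W (CoxeterMatrix.B 2).toCoxeterSystem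
  have : Finite (toFrame W).Adm := Omega.ML.Ex.Typ.finite_adm _
  refine noSwap_of_card (rgdC_model (KInstU.model hF (by norm_num) W) (AmbT.of_amb (amb_U hF W) p) hp0 _)
    (WittModel.G1_eq_top _ (by norm_num) _) ?_
  have h1 := card_zero_le (KInstU.model hF (by norm_num) W : Model (toFrame W) (PSU 5 F q))
  have h2 := card_adm_le_one (KInstU.model hF (by norm_num) W : Model (toFrame W) (PSU 5 F q))
  refine ne_of_lt (lt_of_le_of_lt h1 (lt_of_lt_of_le ?_ h2))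
  -- `Adm → V0` is surjective and not injective
  have hd0 : d ≠ 0 := by
    rintro rfl
    rw [herm_zero_left] at hd
    exact zero_ne_one hd
  have hex : ∀ c : F, ∃ a : (toFrame W).Adm, a.w = c • d := by
    intro c
    obtain ⟨x, hx⟩ := (PU hF 5).ex (c • d)
    refine ⟨⟨c • d, x, ?_, hx⟩, rfl⟩
    rw [hW]
    exact Submodule.smul_mem _ _ (Submodule.mem_span_singleton_self d)
  choose f hf using hex
  have hinj : Function.Injective f := by
    intro a b e
    have h3 : a • d = b • d := by rw [← hf a, ← hf b, e]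
    exact smul_left_injective F hd0 h3
  refine lt_of_le_of_ne (Nat.card_le_card_of_injective f hinj) ?_
  intro e
  have hbij : Function.Bijective f := (Nat.bijective_iff_injective_and_card f).2 ⟨hinj, e⟩
  -- the elements `1` and `tr m` have the same `w`
  obtain ⟨a, ha⟩ := hbij.2 (1 : (toFrame W).Adm)
  obtain ⟨b, hb⟩ := hbij.2 (Frame.Adm.tr m : (toFrame W).Adm)
  have h3 : a • d = 0 := by rw [← hf a, ha]; rfl
  have h4 : b • d = 0 := by rw [← hf b, hb]; rfl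
  have h5 : a = b := smul_left_injective F hd0 (h3.trans h4.symm)
  rw [← h5, ha] at hb
  have h6 := congrArg Frame.Adm.c hb
  rw [Frame.Adm.one_c, Frame.Adm.tr_c] at h6
  apply hm
  have h7 : (0 : F) = m - (1 : F)⁻¹ * m ^ q := h6
  rw [inv_one, one_mul] at h7
  exact h7.symm

end Unitary

/-! ### the rows -/

theorem supp_PSp4 {F : Type v} [Field F] [Finite F] (h2 : (2 : F) ≠ 0) (hs : IsSimpleGroup (PSp 2 F)) :
    Supp.{u} 3 (PSp 2 F) := by
  obtain ⟨p, hp⟩ := CharP.exists F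
  have : Fact p.Prime := ⟨CharP.char_is_prime F p⟩
  exact (noSwap_PSp h2 (p := p)).supp

theorem supp_PSU4 {F : Type v} [Field F] [Fintype F] {q : ℕ} (hF : Fintype.card F = q ^ 2)
    (hs : IsSimpleGroup (PSU 4 F q)) : Supp.{u} 3 (PSU 4 F q) := by
  obtain ⟨p, hp⟩ := CharP.exists F
  have : Fact p.Prime := ⟨CharP.char_is_prime F p⟩
  exact (noSwap_PSU4 hF (p := p)).supp

theorem supp_PSU5 {F : Type v} [Field F] [Fintype F] {q : ℕ} (hF : Fintype.card F = q ^ 2)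
    (hs : IsSimpleGroup (PSU 5 F q)) : Supp.{u} 3 (PSU 5 F q) := by
  obtain ⟨p, hp⟩ := CharP.exists F
  have : Fact p.Prime := ⟨CharP.char_is_prime F p⟩
  exact (noSwap_PSU5 hF (p := p)).supp

end Cfsg.Agent.H288.BnWitt
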