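import Mathlib
import Cfsg.Agent.SignalizersComponents.SLQuasisimple
import Cfsg.Agent.SignalizersComponents.Components

/-!
# Involutions of `SL_n(F)`, `n ≥ 5`, `F` of odd characteristic (helper288)

`exists_normal` : for `T ∈ SL_n(F)`, `T² = 1`, `n ≥ 5`: a quasisimple subgroup `J ≤ C(T)` (`≅ SL_k(F)`, `k ≥ 3`) normalized by
`C(T)`.
-/

set_option autoImplicit false

namespace Cfsg.Agent.H288.SLInv

open Cfsg Matrix
open Cfsg.Agent.SignalizersComponents.Components

variable {F : Type*} [Field F]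

/-- A matrix with square one has a basis of eigenvectors. -/
theorem exists_eigen {n : Type*} [Fintype n] [DecidableEq n] (h2 : (2 : F) ≠ 0) {T : Matrix n n F} (hT : T * T = 1) :
    ∃ (b : Module.Basis n F (n → F)) (d : n → F), (∀ i, d i = 1 ∨ d i = -1) ∧ ∀ i, T *ᵥ b i = d i • b i := by
  set S : Set (n → F) := {v | T *ᵥ v = v ∨ T *ᵥ v = -v} with hS
  have hspan : ⊤ ≤ Submodule.span F S := by
    intro v _
    have h1 : v + T *ᵥ v ∈ S := by
      left
      rw [Matrix.mulVec_add, Matrix.mulVec_mulVec, hT, Matrix.one_mulVec, add_comm]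
    have h3 : v - T *ᵥ v ∈ S := by
      right
      rw [Matrix.mulVec_sub, Matrix.mulVec_mulVec, hT, Matrix.one_mulVec, neg_sub]
    have h4 : v = (2 : F)⁻¹ • ((v + T *ᵥ v) + (v - T *ᵥ v)) := by
      have : (v + T *ᵥ v) + (v - T *ᵥ v) = (2 : F) • v := by
        rw [two_smul]; abel
      rw [this, smul_smul, inv_mul_cancel₀ h2, one_smul]
    rw [h4]
    exact Submodule.smul_mem _ _ (Submodule.add_mem _ (Submodule.subset_span h1)
      (Submodule.subset_span h3))
  let b₀ := Module.Basis.ofSpan hspan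
  have hsub := Module.Basis.ofSpan_subset hspan
  have hfin : Finite ((linearIndepOn_empty F id).extend (Set.empty_subset S)) :=
    Module.Finite.finite_basis b₀
  have := Fintype.ofFinite ((linearIndepOn_empty F id).extend (Set.empty_subset S))
  have hcard : Fintype.card ((linearIndepOn_empty F id).extend (Set.empty_subset S)) = Fintype.card n := by
    rw [← Module.finrank_eq_card_basis b₀, Module.finrank_fintype_fun_eq_card]
  let e := Fintype.equivOfCardEq hcard
  have hb : ∀ i, T *ᵥ (b₀.reindex e) i = (b₀.reindex e) i ∨ T *ᵥ (b₀.reindex e) i = - (b₀.reindex e) i := by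
    intro i
    rw [Module.Basis.reindex_apply]
    exact hsub (Set.mem_range_self _)
  have h1 : ∀ i, ∃ d : F, (d = 1 ∨ d = -1) ∧ T *ᵥ (b₀.reindex e) i = d • (b₀.reindex e) i := by
    intro i
    rcases hb i with h | h
    · exact ⟨1, Or.inl rfl, by rw [h, one_smul]⟩
    · exact ⟨-1, Or.inr rfl, by rw [h, neg_smul, one_smul]⟩
  choose d hd hdb using h1
  exact ⟨_, d, hd, hdb⟩

/-- transport of `SL` along an isomorphism of the matrix algebras preserving the determinant -/
def slEquiv {m n : Type*} [Fintype m] [DecidableEq m] [Fintype n] [DecidableEq n] (Ψ : Matrix m m F ≃* Matrix n n F)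
    (hdet : ∀ M, (Ψ M).det = M.det) : SpecialLinearGroup m F ≃* SpecialLinearGroup n F where
  toFun A := ⟨Ψ A.1, by rw [hdet]; exact A.2⟩
  invFun A := ⟨Ψ.symm A.1, by rw [← hdet, MulEquiv.apply_symm_apply]; exact A.2⟩
  left_inv A := Subtype.ext (Ψ.symm_apply_apply A.1)
  right_inv A := Subtype.ext (Ψ.apply_symm_apply A.1)
  map_mul' A B := Subtype.ext (map_mul Ψ A.1 B.1)

/-- `T² = 1`: `T` is diagonal with respect to a basis -/
theorem exists_diag {n : Type*} [Fintype n] [DecidableEq n] (h2 : (2 : F) ≠ 0) {T : SpecialLinearGroup n F}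
    (hT : T * T = 1) : ∃ (Θ : SpecialLinearGroup n F ≃* SpecialLinearGroup n F) (d : n → F),
      (∀ i, d i = 1 ∨ d i = -1) ∧ (Θ T : Matrix n n F) = diagonal d := by
  obtain ⟨b, d, hd, hb⟩ := exists_eigen h2 (T := (T : Matrix n n F)) (congrArg Subtype.val hT)
  let Ψ : Matrix n n F ≃ₐ[F] Matrix n n F := (Matrix.toLinAlgEquiv').trans (LinearMap.toMatrixAlgEquiv b)
  have hdet : ∀ M, (Ψ M).det = M.det := by
    intro M
    change (LinearMap.toMatrix b b (Matrix.toLin' M)).det = M.det
    rw [LinearMap.det_toMatrix, LinearMap.det_toLin']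
  refine ⟨slEquiv (Ψ : Matrix n n F ≃* Matrix n n F) hdet, d, hd, ?_⟩
  change LinearMap.toMatrix b b (Matrix.toLin' (T : Matrix n n F)) = diagonal d
  ext i j
  rw [LinearMap.toMatrix_apply, Matrix.toLin'_apply, hb j, map_smul, Finsupp.smul_apply, b.repr_self, smul_eq_mul,
    diagonal_apply, Finsupp.single_apply]
  by_cases h : i = j
  · subst h; simp
  · rw [if_neg h, if_neg (Ne.symm h), mul_zero]

/-- The left block. -/
def left (ι κ : Type*) [Fintype ι] [DecidableEq ι] [Fintype κ] [DecidableEq κ] (F : Type*) [Field F] :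
    SpecialLinearGroup ι F →* SpecialLinearGroup (ι ⊕ κ) F where
  toFun A := ⟨fromBlocks A.1 0 0 1, by rw [det_fromBlocks_zero₂₁, A.2, det_one, mul_one]⟩
  map_one' := Subtype.ext (by change fromBlocks (1 : Matrix ι ι F) 0 0 1 = 1; exact fromBlocks_one)
  map_mul' A B := Subtype.ext (by
    change fromBlocks (A.1 * B.1) 0 0 1 = fromBlocks A.1 0 0 1 * fromBlocks B.1 0 0 1
    rw [fromBlocks_multiply]
    simp)

section blocks

variable {ι κ : Type*} [Fintype ι] [DecidableEq ι] [Fintype κ] [DecidableEq κ]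

theorem left_injective : Function.Injective (left ι κ F) := by
  intro A B h
  have h1 : fromBlocks A.1 (0 : Matrix ι κ F) 0 (1 : Matrix κ κ F) = fromBlocks B.1 0 0 1 := congrArg Subtype.val h
  exact Subtype.ext (fromBlocks_inj.1 h1).1

/-- matrices commuting with `diag(ε, -ε)` are block diagonal -/
theorem block_of_comm (h2 : (2 : F) ≠ 0) {ε : F} (hε : ε = 1 ∨ ε = -1) {g : Matrix (ι ⊕ κ) (ι ⊕ κ) F}
    (hg : g * fromBlocks (ε • (1 : Matrix ι ι F)) 0 0 (-ε • (1 : Matrix κ κ F)) =
      fromBlocks (ε • (1 : Matrix ι ι F)) 0 0 (-ε • (1 : Matrix κ κ F)) * g) :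
    g = fromBlocks g.toBlocks₁₁ 0 0 g.toBlocks₂₂ := by
  have h1 := fromBlocks_toBlocks g
  rw [← h1, fromBlocks_multiply, fromBlocks_multiply, fromBlocks_inj] at hg
  obtain ⟨-, h12, h21, -⟩ := hg
  have e12 : g.toBlocks₁₂ = 0 := by
    simp only [Matrix.mul_zero, Matrix.zero_mul, add_zero, zero_add, Matrix.smul_mul, Matrix.mul_smul,
      Matrix.mul_one, Matrix.one_mul] at h12
    ext i j
    have := congrFun (congrFun h12 i) j
    simp only [Matrix.smul_apply, smul_eq_mul, neg_mul] at this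
    have h3 : (2 : F) * (ε * g.toBlocks₁₂ i j) = 0 := by linear_combination -this
    rcases mul_eq_zero.1 h3 with h | h
    · exact (h2 h).elim
    · rcases mul_eq_zero.1 h with h | h
      · rcases hε with rfl | rfl
        · exact (one_ne_zero h).elim
        · exact (one_ne_zero (neg_eq_zero.1 h)).elim
      · exact h
  have e21 : g.toBlocks₂₁ = 0 := by
    simp only [Matrix.mul_zero, Matrix.zero_mul, add_zero, zero_add, Matrix.smul_mul, Matrix.mul_smul,
      Matrix.mul_one, Matrix.one_mul] at h21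
    ext i j
    have := congrFun (congrFun h21 i) j
    simp only [Matrix.smul_apply, smul_eq_mul, neg_mul] at this
    have h3 : (2 : F) * (ε * g.toBlocks₂₁ i j) = 0 := by linear_combination this
    rcases mul_eq_zero.1 h3 with h | h
    · exact (h2 h).elim
    · rcases mul_eq_zero.1 h with h | h
      · rcases hε with rfl | rfl
        · exact (one_ne_zero h).elim
        · exact (one_ne_zero (neg_eq_zero.1 h)).elim
      · exact h
  rw [e12, e21] at h1
  exact h1.symm

/-- the left block is centralized by `diag(ε, -ε)` and normalized by its centralizer -/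
theorem left_normal (h2 : (2 : F) ≠ 0) {ε : F} (hε : ε = 1 ∨ ε = -1) {D : SpecialLinearGroup (ι ⊕ κ) F}
    (hD : D.1 = fromBlocks (ε • (1 : Matrix ι ι F)) 0 0 (-ε • (1 : Matrix κ κ F))) :
    (left ι κ F).range ≤ Subgroup.centralizer ({D} : Set (SpecialLinearGroup (ι ⊕ κ) F)) ∧
      ∀ g : SpecialLinearGroup (ι ⊕ κ) F, g * D = D * g → ∀ x ∈ (left ι κ F).range, g * x * g⁻¹ ∈ (left ι κ F).range := by
  constructor
  · rintro _ ⟨A, rfl⟩
    refine Subgroup.mem_centralizer_singleton_iff.2 (Subtype.ext ?_)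
    change fromBlocks A.1 0 0 1 * D.1 = D.1 * fromBlocks A.1 0 0 1
    rw [hD, fromBlocks_multiply, fromBlocks_multiply]
    simp
  · rintro g hg _ ⟨A, rfl⟩
    have hg' : g⁻¹ * D = D * g⁻¹ := by
      calc g⁻¹ * D = g⁻¹ * (D * g) * g⁻¹ := by group
        _ = g⁻¹ * (g * D) * g⁻¹ := by rw [hg]
        _ = D * g⁻¹ := by group
    have e1 := block_of_comm h2 hε (g := g.1) (by rw [← hD]; exact congrArg Subtype.val hg)
    have e2 := block_of_comm h2 hε (g := (g⁻¹).1) (by rw [← hD]; exact congrArg Subtype.val hg')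
    have e3 : g.1 * (g⁻¹).1 = 1 := congrArg Subtype.val (mul_inv_cancel g)
    rw [e1, e2, fromBlocks_multiply, ← fromBlocks_one, fromBlocks_inj] at e3
    obtain ⟨f1, -, -, f2⟩ := e3
    simp only [Matrix.mul_zero, add_zero, zero_add] at f1 f2
    have e4 : (toBlocks₁₁ g.1 * A.1 * toBlocks₁₁ (g⁻¹).1).det = 1 := by
      rw [det_mul, det_mul, A.2, mul_one, ← det_mul, f1, det_one]
    refine ⟨⟨_, e4⟩, Subtype.ext ?_⟩
    change fromBlocks (toBlocks₁₁ g.1 * A.1 * toBlocks₁₁ (g⁻¹).1) 0 0 1 = g.1 * fromBlocks A.1 0 0 1 * (g⁻¹).1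
    rw [e1, e2, fromBlocks_multiply, fromBlocks_multiply]
    simp only [Matrix.mul_zero, Matrix.zero_mul, add_zero, zero_add, Matrix.mul_one, toBlocks_fromBlocks₁₁, f2]

end blocks

/-- **Involutions of `SL_n(F)`, `n ≥ 5`.** -/
theorem exists_normal {n : Type*} [Fintype n] [DecidableEq n] [Finite F] (h2 : (2 : F) ≠ 0) (hn : 5 ≤ Fintype.card n)
    {T : SpecialLinearGroup n F} (hT : T * T = 1) :
    ∃ J : Subgroup (SpecialLinearGroup n F), J ≤ Subgroup.centralizer ({T} : Set (SpecialLinearGroup n F)) ∧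
      (∀ g : SpecialLinearGroup n F, g * T = T * g → ∀ x ∈ J, g * x * g⁻¹ ∈ J) ∧ IsQuasisimple ↥J ∧
      Even (Nat.card ↥J) := by
  classical
  obtain ⟨Θ, d, hd, hΘ⟩ := exists_diag h2 hT
  -- the large eigenspace
  obtain ⟨ε, hε, h3⟩ : ∃ ε : F, (ε = 1 ∨ ε = -1) ∧ 3 ≤ Fintype.card {i // d i = ε} := by
    by_contra hcon
    push Not at hcon
    have a1 := hcon 1 (Or.inl rfl)
    have a2 := hcon (-1) (Or.inr rfl)
    have a3 : Fintype.card n ≤ Fintype.card {i // d i = 1} + Fintype.card {i // d i = -1} := by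
      rw [← Fintype.card_sum]
      refine Fintype.card_le_of_injective (fun i => if h : d i = 1 then Sum.inl ⟨i, h⟩ else
        Sum.inr ⟨i, (hd i).resolve_left h⟩) ?_
      intro i j hij
      by_cases hi : d i = 1 <;> by_cases hj : d j = 1 <;> simp [hi, hj] at hij <;> exact hij
    omega
  let e : {i // d i = ε} ⊕ {i // ¬ d i = ε} ≃ n := Equiv.sumCompl _
  let R : Matrix n n F ≃* Matrix ({i // d i = ε} ⊕ {i // ¬ d i = ε}) ({i // d i = ε} ⊕ {i // ¬ d i = ε}) F :=
    (Matrix.reindexAlgEquiv F F e.symm).toMulEquiv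
  have hR : ∀ M, (R M).det = M.det := fun M => Matrix.det_reindex_self e.symm M
  let Θ' := slEquiv R hR
  let Φ : SpecialLinearGroup n F ≃* SpecialLinearGroup ({i // d i = ε} ⊕ {i // ¬ d i = ε}) F := Θ.trans Θ'
  have hD : (Φ T).1 = fromBlocks (ε • (1 : Matrix {i // d i = ε} {i // d i = ε} F)) 0 0
      (-ε • (1 : Matrix {i // ¬ d i = ε} {i // ¬ d i = ε} F)) := by
    change Matrix.reindex e.symm e.symm (Θ T : Matrix n n F) = _
    rw [hΘ]
    ext i j
    have he : ∀ i j, (Matrix.reindex e.symm e.symm (diagonal d)) i j = if i = j then d (e i) else 0 := by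
      intro i j
      rw [Matrix.reindex_apply, Matrix.submatrix_apply, Equiv.symm_symm, diagonal_apply]
      simp only [e.apply_eq_iff_eq]
    rw [he]
    rcases i with i | i <;> rcases j with j | j
    · rw [fromBlocks_apply₁₁, Matrix.smul_apply, Matrix.one_apply, smul_eq_mul]
      by_cases h : i = j
      · rw [if_pos (by rw [h]), if_pos h, mul_one]
        exact i.2
      · rw [if_neg (fun h' => h (Sum.inl_injective h')), if_neg h, mul_zero]
    · rw [fromBlocks_apply₁₂, if_neg Sum.inl_ne_inr]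
      rfl
    · rw [fromBlocks_apply₂₁, if_neg Sum.inr_ne_inl]
      rfl
    · rw [fromBlocks_apply₂₂, Matrix.smul_apply, Matrix.one_apply, smul_eq_mul]
      by_cases h : i = j
      · rw [if_pos (by rw [h]), if_pos h, mul_one]
        change d i.1 = -ε
        have h5 := i.2
        rcases hε with rfl | rfl
        · exact (hd i.1).resolve_left h5
        · rw [neg_neg]
          exact (hd i.1).resolve_right h5
      · rw [if_neg (fun h' => h (Sum.inr_injective h')), if_neg h, mul_zero]
  obtain ⟨g1, g2⟩ := left_normal h2 hε hD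
  let J := (left {i // d i = ε} {i // ¬ d i = ε} F).range.comap Φ.toMonoidHom
  have eJ : SpecialLinearGroup {i // d i = ε} F ≃* ↥J :=
    (MonoidHom.ofInjective (left_injective (ι := {i // d i = ε}) (κ := {i // ¬ d i = ε}) (F := F))).trans
      ((Φ.symm.subgroupMap _).trans (MulEquiv.subgroupCongr (by
        ext x
        constructor
        · rintro ⟨y, hy, rfl⟩
          change Φ (Φ.symm y) ∈ (left {i // d i = ε} {i // ¬ d i = ε} F).range
          rw [MulEquiv.apply_symm_apply]
          exact hy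
        · intro hx
          exact ⟨Φ x, hx, Φ.symm_apply_apply x⟩)))
  refine ⟨J, ?_, ?_, ?_, ?_⟩
  · intro x hx
    have h4 := Subgroup.mem_centralizer_singleton_iff.1 (g1 hx)
    refine Subgroup.mem_centralizer_singleton_iff.2 (Φ.injective ?_)
    rw [map_mul, map_mul]
    exact h4
  · intro g hg x hx
    have h4 := g2 (Φ g) (by rw [← map_mul, hg, map_mul]) _ hx
    change Φ (g * x * g⁻¹) ∈ (left {i // d i = ε} {i // ¬ d i = ε} F).range
    rw [map_mul, map_mul, map_inv]
    exact h4
  · exact isQuasisimple_of_mulEquiv eJ (Cfsg.Agent.SignalizersComponents.SLQuasisimple.isQuasisimple_of_three_le h3)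
  · have hnt : Nontrivial {i // d i = ε} := Fintype.one_lt_card_iff_nontrivial.1 (by omega)
    rw [← Nat.card_congr eJ.toEquiv]
    exact Cfsg.Agent.SignalizersComponents.SLQuasisimple.even_card h2

end Cfsg.Agent.H288.SLInv
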