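import Mathlib
import Cfsg.Agent.H288.Rest
import Cfsg.Agent.H288.SLInv
import Cfsg.Agent.SevenLow.DoubleCover
import Cfsg.Agent.TypeM.FactsMcL
import Cfsg.Agent.GH.AltOut

/-!
# Involutions whose centralizer has a normal quasisimple subgroup: `PSL₅(3)`, `McL`, `Ly` (helper288)

* `NComp t` : `C(t)` has a normal quasisimple subgroup of even order; `NComp.not_solvable`, `NComp.not_constrained`;
* `psl5` : every involution of `PSL₅(3)`;
* `alt` : every involution of a simple group with `HasAltCover`.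
-/

set_option autoImplicit false

namespace Cfsg.Agent.H288.CompRows

open Cfsg Subgroup
open Cfsg.Agent.SignalizersComponents.Components
open Cfsg.Agent.H288.Rest
open Cfsg.Agent.GH.Defs

universe u

/-- `C(t)` has a normal quasisimple subgroup of even order -/
def NComp {X : Type*} [Group X] (t : X) : Prop :=
  ∃ J : Subgroup X, J ≤ centralizer ({t} : Set X) ∧ (∀ g, g * t = t * g → ∀ x ∈ J, g * x * g⁻¹ ∈ J) ∧
    IsQuasisimple ↥J ∧ Even (Nat.card ↥J)

theorem NComp.not_solvable {X : Type*} [Group X] [Finite X] {t : X} (h : NComp t) :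
    ¬ Group.IsSolvable ↥(centralizer ({t} : Set X)) := by
  intro hs
  obtain ⟨J, hJ, -, hq, -⟩ := h
  have h2 : Group.IsSolvable ↥J := Group.isSolvable_of_isSolvable_injective (f := inclusion hJ) (inclusion_injective hJ)
  exact Cfsg.Agent.Lib.ComponentSolvable.quasisimple_not_solvable hq h2

theorem NComp.not_constrained {X : Type*} [Group X] [Finite X] {t : X} (h : NComp t) :
    ¬ IsPConstrained 2 ↥(centralizer ({t} : Set X)) := by
  intro hc
  have : Fact (Nat.Prime 2) := ⟨Nat.prime_two⟩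
  obtain ⟨J, hJ, hn, hq, he⟩ := h
  let D := centralizer ({t} : Set X)
  have h3 : layer (↥D ⧸ pPrimeCore 2 ↥D) = ⊥ := by
    rw [← Cfsg.Agent.SignalizersComponents.PConstrained.pLayer_eq_bot_iff,
      ← Cfsg.Agent.SignalizersComponents.PConstrained.isPConstrained_iff_pLayer_eq_bot]
    exact hc
  have hN : (J.subgroupOf D).Normal := by
    constructor
    intro x hx g
    exact hn g (mem_centralizer_singleton_iff.1 g.2) x (mem_subgroupOf.1 hx)
  have h4 : IsComponent (J.subgroupOf D) := ⟨hN.isSubnormal, isQuasisimple_of_mulEquiv (subgroupOfEquivOfLe hJ).symm hq⟩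
  have h5 : ¬ J.subgroupOf D ≤ pPrimeCore 2 ↥D := by
    intro h
    have h7 : (Nat.card ↥(pPrimeCore 2 ↥D)).Coprime 2 := Cfsg.Agent.Lib.Cores.pPrimeCore_coprime 2
    have h8 : Nat.card ↥(J.subgroupOf D) ∣ Nat.card ↥(pPrimeCore 2 ↥D) := card_dvd_of_le h
    rw [Nat.card_congr (subgroupOfEquivOfLe hJ).toEquiv] at h8
    exact absurd (Nat.Coprime.eq_one_of_dvd h7.symm (he.two_dvd.trans h8)) (by norm_num)
  have h6 := Cfsg.Agent.SignalizersComponents.QuasisimpleQuotient.isComponent_map_mk' h4 h5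
  have h7 : (J.subgroupOf D).map (QuotientGroup.mk' (pPrimeCore 2 ↥D)) ≤ layer (↥D ⧸ pPrimeCore 2 ↥D) := le_sSup h6
  rw [h3, le_bot_iff] at h7
  have h8 := h6.2
  rw [h7] at h8
  exact Cfsg.Agent.Lib.ComponentSolvable.quasisimple_not_solvable h8 inferInstance

/-- transport -/
theorem NComp.map {X Y : Type*} [Group X] [Group Y] (e : X ≃* Y) {t : X} (h : NComp t) : NComp (e t) := by
  obtain ⟨J, hJ, hn, hq, he⟩ := h
  refine ⟨J.map e.toMonoidHom, ?_, ?_, isQuasisimple_of_mulEquiv (e.subgroupMap J) hq, ?_⟩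
  · rintro _ ⟨x, hx, rfl⟩
    refine mem_centralizer_singleton_iff.2 ?_
    change e x * e t = e t * e x
    rw [← map_mul, ← map_mul, mem_centralizer_singleton_iff.1 (hJ hx)]
  · rintro g hg _ ⟨x, hx, rfl⟩
    refine ⟨e.symm g * x * (e.symm g)⁻¹, hn _ (e.injective ?_) x hx, ?_⟩
    · rw [map_mul, map_mul, e.apply_symm_apply, hg]
    · change e (e.symm g * x * (e.symm g)⁻¹) = g * e x * g⁻¹
      rw [map_mul, map_mul, map_inv, e.apply_symm_apply]
  · rw [Nat.card_congr (e.subgroupMap J).toEquiv] at he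
    exact he

/-- the center of `SL₅(3)` is trivial -/
theorem center_sl5 {F : Type*} [Field F] [Fintype F] (hF : Fintype.card F = 3) :
    center (Matrix.SpecialLinearGroup (Fin 5) F) = ⊥ := by
  rw [eq_bot_iff]
  intro z hz
  obtain ⟨r, hr, hrz⟩ := Matrix.SpecialLinearGroup.mem_center_iff.1 hz
  rw [Fintype.card_fin] at hr
  have h3 : r ^ 3 = r := by
    have := FiniteField.pow_card r
    rwa [hF] at this
  have h1 : r = 1 := by
    calc r = r ^ 3 := h3.symm
      _ = r ^ 2 * r := by ring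
      _ = r ^ 2 * r ^ 3 := by rw [h3]
      _ = r ^ 5 := by ring
      _ = 1 := hr
  rw [mem_bot]
  apply Subtype.ext
  rw [← hrz, h1]
  simp

/-- **`PSL₅(3)`.** -/
theorem psl5 {X : Type*} [Group X] (h : IsPSLq 5 3 X) {t : X} (ht : orderOf t = 2) : NComp t := by
  obtain ⟨F, _, _, hF, ⟨e⟩⟩ := h
  have hc := center_sl5 hF
  let p : Matrix.SpecialLinearGroup (Fin 5) F ≃* Matrix.ProjectiveSpecialLinearGroup (Fin 5) F :=
    MulEquiv.ofBijective (QuotientGroup.mk' (center (Matrix.SpecialLinearGroup (Fin 5) F)))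
      ⟨(MonoidHom.ker_eq_bot_iff _).1 (by rw [QuotientGroup.ker_mk', hc]), QuotientGroup.mk'_surjective _⟩
  have hc : CharP F 3 := by
    obtain ⟨p, hp⟩ := CharP.exists F
    have hpp : p.Prime := (CharP.char_is_prime_or_zero F p).resolve_right (CharP.char_ne_zero_of_finite F p)
    obtain ⟨n, -, hn⟩ := FiniteField.card F p
    rw [hF] at hn
    have : p ∣ 3 := hn ▸ dvd_pow_self p n.pos.ne'
    rwa [(Nat.prime_dvd_prime_iff_eq hpp Nat.prime_three).1 this] at hp
  have h2 : (2 : F) ≠ 0 := by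
    intro h
    have h3 : (3 : F) = 0 := by exact_mod_cast CharP.cast_eq_zero F 3
    have : (1 : F) = 0 := by linear_combination h3 - h
    exact one_ne_zero this
  let e' := e.trans p.symm
  have hT : e' t * e' t = 1 := by
    rw [← map_mul, ← pow_two, ← ht, pow_orderOf_eq_one, map_one]
  have h5 := NComp.map e'.symm (Cfsg.Agent.H288.SLInv.exists_normal h2 (by simp) hT)
  rwa [e'.symm_apply_apply] at h5

theorem of_mt {X : Type*} [Group X] [Finite X] {n : ℕ} (hn : 5 ≤ n) (L : Cfsg.Agent.TypeM.Two.MT n X) {t : X}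
    (ht : orderOf t = 2) : NComp t := by
  obtain ⟨h1, h2⟩ := Cfsg.Agent.TypeM.Two.MT.sq_of_orderOf ht
  obtain ⟨g, hg⟩ := L.one t h1 h2
  have h3 : NComp L.t := by
    refine ⟨centralizer ({L.t} : Set X), le_rfl, ?_, Cfsg.Agent.SevenLow.DoubleCover.quasisimple_of_cover hn L.K, ?_⟩
    · intro g hg x hx
      exact mul_mem (mul_mem (mem_centralizer_singleton_iff.2 hg) hx) (inv_mem (mem_centralizer_singleton_iff.2 hg))
    · have h4 : orderOf L.K.z = 2 := L.K.orderOf_z
      exact even_iff_two_dvd.2 (h4 ▸ orderOf_dvd_natCard _)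
  have h4 := h3.map (MulAut.conj g)
  rwa [MulAut.conj_apply, hg] at h4

theorem oddCore_eq_bot {X : Type*} [Group X] [Finite X] [IsSimpleGroup X] {t : X} (ht : orderOf t = 2) :
    oddCore X = ⊥ := by
  have hn : (pPrimeCore 2 X).Normal := Cfsg.Agent.Lib.Cores.pPrimeCore_normal 2
  rcases hn.eq_bot_or_eq_top with h | h
  · exact h
  · exfalso
    have h7 : (Nat.card ↥(pPrimeCore 2 X)).Coprime 2 := Cfsg.Agent.Lib.Cores.pPrimeCore_coprime 2
    rw [h, Nat.card_congr topEquiv.toEquiv] at h7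
    exact absurd (Nat.Coprime.eq_one_of_dvd h7.symm (ht ▸ orderOf_dvd_natCard t)) (by norm_num)

/-- **`McL` and `Ly`.** -/
theorem alt {X : Type*} [Group X] [Finite X] [IsSimpleGroup X] (hna : ¬ IsMulCommutative X)
    (h1738 : Cfsg.Agent.GH.AltOut.St1738 X) (h : HasAltCover X) {t : X} (ht : orderOf t = 2) : NComp t := by
  rcases Cfsg.Agent.GH.AltOut.mcl_or_ly hna (oddCore_eq_bot ht) h1738 h with h | h
  · obtain ⟨-, -, -, ⟨L⟩⟩ := Cfsg.Agent.TypeM.FactsMcL.facts h
    exact of_mt (by norm_num) L ht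
  · obtain ⟨-, -, -, ⟨L⟩⟩ := Cfsg.Agent.TypeM.FactsLy.facts h
    exact of_mt (by norm_num) L ht

end Cfsg.Agent.H288.CompRows
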