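import Mathlib
import Cfsg.Agent.GH.C2FiveGlue
import Cfsg.Agent.GH.C2SevenP5
import Cfsg.Agent.GH.C2SevenMain
import Cfsg.Agent.SignalizersComponents.PConstrained
import Cfsg.Agent.S0205
import Cfsg.Agent.SylowL5.TypeAGen

/-!
# Nonsolvable 2-constrained subgroups in sectional 2-rank at most 4: orders (helper288)

`light` : `N ≤ G` nonsolvable and 2-constrained, `G` of sectional 2-rank at most 4: either `2⁶·5 ∣ |G|` and (`G` has an elementary
abelian subgroup of order 16 or `2⁷ ∣ |G|`), or `2⁶·21 ∣ |G|`.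
-/

set_option autoImplicit false

namespace Cfsg.Agent.H288.Light

open Cfsg Subgroup
open Cfsg.Agent.GH.C2Five

universe u

/-- lifting of elementary abelian 2-groups through a kernel of odd order -/
theorem rank_lift {N R : Type*} [Group N] [Finite N] [Group R] (f : N →* R) (hf : Function.Surjective f)
    (hk : (Nat.card f.ker).Coprime 2) {k : ℕ} (h : PRankLE 2 k N) : PRankLE 2 k R := by
  have : Fact (Nat.Prime 2) := ⟨Nat.prime_two⟩
  have : Finite R := Finite.of_surjective f hf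
  intro Q hQc hQ2
  have hQp : IsPGroup 2 Q := fun q => ⟨1, Subtype.ext (by simpa using hQ2 q q.2)⟩
  obtain ⟨P, hP⟩ := hQp.exists_le_sylow
  obtain ⟨S₀⟩ : Nonempty (Sylow 2 N) := inferInstance
  obtain ⟨r, hr⟩ := MulAction.exists_smul_eq R (S₀.mapSurjective hf) P
  obtain ⟨g, rfl⟩ := hf r
  have hSP : ((g • S₀ : Sylow 2 N) : Subgroup N).map f = P := by
    rw [← hr]
    ext x
    constructor
    · rintro ⟨_, ⟨s, hs, rfl⟩, rfl⟩
      refine ⟨f s, ⟨s, hs, rfl⟩, ?_⟩
      change f g * f s * (f g)⁻¹ = f (g * s * g⁻¹)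
      rw [map_mul, map_mul, map_inv]
    · rintro ⟨_, ⟨s, hs, rfl⟩, rfl⟩
      refine ⟨g * s * g⁻¹, ⟨s, hs, rfl⟩, ?_⟩
      rw [map_mul, map_mul, map_inv]
      rfl
  set S := g • S₀ with hS
  have hinj : ∀ s ∈ S, f s = 1 → s = 1 := by
    intro s hs h1
    have h2 : IsPGroup 2 (zpowers s) := S.isPGroup'.to_le (by rw [zpowers_le]; exact hs)
    obtain ⟨n, hn⟩ := IsPGroup.iff_card.1 h2
    have h3 : Nat.card (zpowers s) ∣ Nat.card f.ker := card_dvd_of_le (by rw [zpowers_le]; exact h1)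
    rw [hn] at h3
    have h4 : (2 ^ n).Coprime (Nat.card f.ker) := (hk.symm.pow_left n)
    have h5 := Nat.Coprime.eq_one_of_dvd h4 h3
    rw [h5, Subgroup.card_eq_one, zpowers_eq_bot] at hn
    exact hn
  let A : Subgroup N := (S : Subgroup N) ⊓ Q.comap f
  have hA : A.map f = Q := by
    apply le_antisymm
    · rintro _ ⟨a, ha, rfl⟩
      exact ha.2
    · intro q hq
      have h1 : q ∈ (S : Subgroup N).map f := by rw [hSP]; exact hP hq
      obtain ⟨s, hs, rfl⟩ := h1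
      exact ⟨s, ⟨hs, hq⟩, rfl⟩
  have hAinj : Set.InjOn f (A : Set N) := by
    intro a ha b hb hab
    have h1 : a * b⁻¹ = 1 := hinj _ (mul_mem ha.1 (inv_mem hb.1)) (by rw [map_mul, map_inv, hab, mul_inv_cancel])
    exact mul_inv_eq_one.1 h1
  have hcard : Nat.card Q = Nat.card A := by
    rw [← hA]
    exact Nat.card_image_of_injOn hAinj
  rw [hcard]
  refine h A ⟨⟨?_⟩⟩ ?_
  · rintro ⟨a, ha⟩ ⟨b, hb⟩
    apply Subtype.ext
    apply hAinj (mul_mem ha hb) (mul_mem hb ha)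
    have := hQc.is_comm.comm ⟨f a, ha.2⟩ ⟨f b, hb.2⟩
    rw [map_mul, map_mul]
    exact congrArg Subtype.val this
  · intro a ha
    apply hAinj (pow_mem ha 2) (one_mem _)
    rw [map_pow, map_one]
    exact hQ2 _ ha.2

/-- `R` nonsolvable, `Q` a normal 2-subgroup: `4 |Q| ∣ |R|` -/
theorem four_mul_dvd {R : Type*} [Group R] [Finite R] (hs : ¬ Group.IsSolvable R) (Q : Subgroup R) [Q.Normal]
    (hQ : IsPGroup 2 Q) : 4 * Nat.card Q ∣ Nat.card R := by
  have : Fact (Nat.Prime 2) := ⟨Nat.prime_two⟩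
  rw [Subgroup.card_eq_card_quotient_mul_card_subgroup Q]
  refine Nat.mul_dvd_mul_right ?_ _
  by_contra h4
  apply hs
  have h1 := Cfsg.Agent.SylowL5.TypeAGen.isSolvable_of_not_four_dvd h4
  have h2 : Group.IsSolvable Q := by
    have : Group.IsNilpotent Q := hQ.isNilpotent
    infer_instance
  refine Group.isSolvable_of_ker_le_range Q.subtype (QuotientGroup.mk' Q) ?_
  rw [range_subtype, QuotientGroup.ker_mk']

/-- `|Q| ≥ 8` when an element of order 7 acts nontrivially -/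
theorem eight_dvd {R : Type*} [Group R] [Finite R] {Q : Subgroup R} [hQn : Q.Normal] (hQ : IsPGroup 2 Q) {y : R}
    (hy : y ^ 7 = 1) (hne : ∃ v ∈ Q, y * v ≠ v * y) : 8 ∣ Nat.card Q := by
  have : Fact (Nat.Prime 2) := ⟨Nat.prime_two⟩
  have h7 : Fact (Nat.Prime 7) := ⟨by norm_num⟩
  obtain ⟨v, hv, hne⟩ := hne
  let φ : zpowers y →* MulAut Q := (MulAut.conjNormal (H := Q)).comp (zpowers y).subtype
  let : MulAction (zpowers y) Q := MulAction.compHom Q φ
  have hp : IsPGroup 7 (zpowers y) := by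
    rintro ⟨g, hg⟩
    obtain ⟨k, rfl⟩ := mem_zpowers_iff.1 hg
    refine ⟨1, Subtype.ext ?_⟩
    change (y ^ k) ^ (7 ^ 1) = 1
    rw [pow_one, ← zpow_natCast, ← zpow_mul, mul_comm, zpow_mul, zpow_natCast, hy, one_zpow]
  have h1 := hp.card_modEq_card_fixedPoints Q
  have hsm : ∀ (g : zpowers y) (q : Q), ((g • q : Q) : R) = (g : R) * q * (g : R)⁻¹ := fun g q => rfl
  have h2 : (⟨v, hv⟩ : Q) ∉ MulAction.fixedPoints (zpowers y) Q := by
    intro h
    have h3 := congrArg Subtype.val (h ⟨y, mem_zpowers y⟩)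
    rw [hsm] at h3
    exact hne (mul_inv_eq_iff_eq_mul.1 h3)
  have h3 : (1 : Q) ∈ MulAction.fixedPoints (zpowers y) Q := by
    intro g
    apply Subtype.ext
    rw [hsm, Subgroup.coe_one, mul_one, mul_inv_cancel]
  have h4 : 0 < Nat.card (MulAction.fixedPoints (zpowers y) Q) := by
    have : Nonempty (MulAction.fixedPoints (zpowers y) Q) := ⟨⟨1, h3⟩⟩
    exact Nat.card_pos
  have h5 : Nat.card (MulAction.fixedPoints (zpowers y) Q) < Nat.card Q := by
    have := Set.ncard_lt_card (s := MulAction.fixedPoints (zpowers y) Q) (fun h => h2 (h ▸ Set.mem_univ _))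
    rwa [← Nat.card_coe_set_eq] at this
  have h6 : 8 ≤ Nat.card Q := by
    have h7 : 7 ∣ Nat.card Q - Nat.card (MulAction.fixedPoints (zpowers y) Q) := (Nat.modEq_iff_dvd' h5.le).1 h1.symm
    have h8 := Nat.le_of_dvd (by omega) h7
    omega
  obtain ⟨n, hn⟩ := IsPGroup.iff_card.1 hQ
  rw [hn] at h6 ⊢
  have h9 : 3 ≤ n := by
    by_contra h
    have h10 : 2 ^ n ≤ 2 ^ 2 := Nat.pow_le_pow_right (by norm_num) (by omega)
    omega
  exact (pow_dvd_pow 2 h9 : 2 ^ 3 ∣ 2 ^ n)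

theorem light {G : Type u} [Group G] [Finite G] (hr : SectionalPRankLE 2 4 G) (N : Subgroup G)
    (hs : ¬ Group.IsSolvable N) (hc : IsPConstrained 2 N) :
    (64 * 5 ∣ Nat.card G ∧ (¬ PRankLE 2 3 G ∨ 128 ∣ Nat.card G)) ∨ 64 * 21 ∣ Nat.card G := by
  have : Fact (Nat.Prime 2) := ⟨Nat.prime_two⟩
  have hKn : (pPrimeCore 2 N).Normal := Cfsg.Agent.Lib.Cores.pPrimeCore_normal 2
  have hKc : (Nat.card ↥(pPrimeCore 2 N)).Coprime 2 := Cfsg.Agent.Lib.Cores.pPrimeCore_coprime 2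
  have hcR := (Cfsg.Agent.SignalizersComponents.PConstrained.isPConstrained_iff_quotient (G := N) 2).1 hc
  let R := N ⧸ pPrimeCore 2 N
  have hrR : R4 R := r4_quotient (r4_subgroup (r4_iff.2 hr) N) _
  have hsR : ¬ Group.IsSolvable R := by
    intro h
    apply hs
    have h1 : Group.IsSolvable ↥(pPrimeCore 2 N) := Cfsg.Agent.S0205.result (Nat.coprime_two_right.1 hKc)
    refine Group.isSolvable_of_ker_le_range (pPrimeCore 2 N).subtype (QuotientGroup.mk' (pPrimeCore 2 N)) ?_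
    rw [range_subtype, QuotientGroup.ker_mk']
  have hQn : (pCore 2 R).Normal := Cfsg.Agent.Lib.Cores.pCore_normal 2
  have hQp : IsPGroup 2 (pCore 2 R) := Cfsg.Agent.Lib.Cores.pCore_isPGroup 2
  have hdvd : Nat.card R ∣ Nat.card G := (Subgroup.card_quotient_dvd_card _).trans (Subgroup.card_subgroup_dvd_card N)
  have h4 := four_mul_dvd hsR (pCore 2 R) hQp
  by_cases h5 : 5 ∣ Nat.card R
  · left
    have h5' : Fact (Nat.Prime 5) := ⟨Nat.prime_five⟩
    obtain ⟨x, hx⟩ := exists_prime_orderOf_dvd_card' 5 h5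
    have hx1 : x ≠ 1 := by
      rintro rfl
      rw [orderOf_one] at hx
      omega
    rcases Cfsg.Agent.GH.C2FiveGlue.five_main hrR hcR hsR (hx ▸ pow_orderOf_eq_one x) hx1 with ⟨h1, h2, -⟩ | ⟨-, h2, -⟩
    · rw [h2] at h4
      refine ⟨(Nat.Coprime.mul_dvd_of_dvd_of_dvd (by norm_num) h4 h5).trans hdvd, Or.inl fun hr3 => ?_⟩
      have h6 : PRankLE 2 3 N := by
        intro A hA hA2
        have h7 : IsMulCommutative (A.map N.subtype) := by
          refine ⟨⟨?_⟩⟩
          rintro ⟨_, a, ha, rfl⟩ ⟨_, b, hb, rfl⟩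
          exact Subtype.ext (congrArg (fun z : A => ((z : N) : G)) (hA.is_comm.comm ⟨a, ha⟩ ⟨b, hb⟩))
        have h8 := hr3 (A.map N.subtype) h7 (by
          rintro _ ⟨a, ha, rfl⟩
          rw [← map_pow, hA2 a ha, map_one])
        rwa [Subgroup.card_map_of_injective N.subtype_injective] at h8
      have h7 := rank_lift (QuotientGroup.mk' (pPrimeCore 2 N)) (QuotientGroup.mk'_surjective _)
        (by rw [QuotientGroup.ker_mk']; exact hKc) h6
      have h8 := h7 (pCore 2 R) ?_ h1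
      · rw [h2] at h8
        norm_num at h8
      · refine ⟨⟨fun a b => ?_⟩⟩
        have e : ∀ v : pCore 2 R, v⁻¹ = v := fun v => inv_eq_of_mul_eq_one_left (Subtype.ext (by
          have := h1 v v.2
          rwa [pow_two] at this))
        rw [← e (a * b), mul_inv_rev, e a, e b]
    · rw [h2] at h4
      have h6 : 128 ∣ Nat.card R := h4
      refine ⟨(Nat.Coprime.mul_dvd_of_dvd_of_dvd (by norm_num) (Dvd.dvd.trans (by norm_num) h6) h5).trans hdvd,
        Or.inr (h6.trans hdvd)⟩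
  · right
    have hL := Cfsg.Agent.GH.C2SevenP5.l32 hrR hcR hsR h5
    obtain ⟨y, hy, -, hne⟩ := Cfsg.Agent.GH.C2SevenMain.exists_y hL hcR
    have h8 := eight_dvd hQp hy hne
    refine Dvd.dvd.trans ?_ hdvd
    have h9 : Nat.card R = Nat.card (pCore 2 R) * 168 := by
      rw [← hL.index, Subgroup.card_mul_index]
    rw [h9]
    exact Dvd.dvd.trans (by norm_num) (Nat.mul_dvd_mul_right h8 168)

end Cfsg.Agent.H288.Light
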