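import Cfsg.Agent.H596.FldFacts
import Cfsg.Agent.H568.FldExc
import Cfsg.Agent.H967.CopTw
import Cfsg.Agent.CpAut.RgdTwD4
import Cfsg.Agent.Schreier.TwESix
import Cfsg.Agent.S1066
import Cfsg.Agent.S1067

/-!
# S4761: coprime automorphisms of `³D₄(q)` and `²E₆(q)` (helper288, task 3016)

* `order_dvd` : an element of prime order of `D.group K` with entries in a subfield `E` has order dividing `|D.group E|`;
* `row_tw` : the row `TwoMoved`.
-/

set_option autoImplicit false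
set_option linter.unusedSectionVars false

namespace Cfsg.Agent.H288.MvTw

open CoxeterSystem Cfsg Cfsg.Lie Cfsg.Lie.ChevalleyDatum
open Cfsg.Agent.ChevalleyStructure Cfsg.Agent.ChevalleyStructure.Elts Cfsg.Agent.ChevalleyStructure.CoxeterGeom
  Cfsg.Agent.ChevalleyStructure.CoxeterGeomTypes Cfsg.Agent.ChevalleyStructure.NPerm
open Cfsg.Agent.Tits.Roots Cfsg.Agent.Tits.Core Cfsg.Agent.Nodes Cfsg.Agent.Nodes.Reps Cfsg.Agent.Nodes.BNOf
  Cfsg.Agent.Nodes.RGDChev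
open Cfsg.Agent.KFacts.RgdChevCoord Cfsg.Agent.GpExc.Field Cfsg.Agent.BpExc.Fr Cfsg.Agent.BpExc.LangFr
  Cfsg.Agent.BpExc.TowChev Cfsg.Agent.BpExc
open Cfsg.Agent.H129.TorusChar Cfsg.Agent.H129.TorusMain Cfsg.Agent.H129.TorusUntw
open Cfsg.Agent.H967.CopMat Cfsg.Agent.H596.Fld

universe u

/-- **Elements of prime order with entries in a subfield.** -/
theorem order_dvd {D : ChevalleyDatum} {l : ℕ} {M : CoxeterMatrix (Fin l)} (hp : IsType D l M) {r : ℕ} [Fact r.Prime]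
    {K : Type} [Field K] [Fintype K] [CharP K r] {d : ℕ} {B : Fin l → Fin l → ℤ} (hB : InvC D l d B) (hd : d ≠ 0)
    (E : Subfield K) {x : GL D.Idx K} (hx : x ∈ D.group K)
    (hent : ∀ i j, (x : Matrix D.Idx D.Idx K) i j ∈ E) {s : ℕ} (hxs : orderOf x = s) (hsd : s.Coprime d) :
    s ∣ Nat.card ↥(D.group ↥E) := by
  classical
  obtain ⟨f⟩ := RowsUntw.exists_emb r K
  have hE : Fintype ↥E := Fintype.ofFinite _
  have hcE : CharP ↥E r := inferInstance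
  obtain ⟨m, hm0, hm⟩ := FamField.exists_card (F := ↥E) r
  have hq : Fintype.card ↥E = r ^ m := by rw [← hm, Nat.card_eq_fintype_card]
  set X := emb hp.inList f ⟨x, hx⟩ with hX
  have hfix : phi D (AlgebraicClosure (ZMod r)) r m X = X := by
    apply Subtype.ext
    rw [coe_phi, hX, coe_emb]
    apply Units.ext
    ext i j
    rw [coe_glMap, coe_glMap]
    show iterateFrobenius (AlgebraicClosure (ZMod r)) r m (f ((x : Matrix D.Idx D.Idx K) i j)) = f _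
    rw [iterateFrobenius_def, ← map_pow]
    congr 1
    have h1 := FiniteField.pow_card (⟨_, hent i j⟩ : ↥E)
    rw [hq] at h1
    exact congrArg Subtype.val h1
  have hXs : X ^ s = 1 := by
    rw [hX, ← map_pow]
    have h1 : (⟨x, hx⟩ : ↥(D.group K)) ^ s = 1 := Subtype.ext (by
      show x ^ s = 1
      rw [← hxs, pow_orderOf_eq_one])
    rw [h1, map_one]
  obtain ⟨y, hy⟩ := H568.FldExc.mem_range_of_fix hp (f.comp E.subtype) hq hB hd hfix hXs hsd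
  have h1 : orderOf y = s := by
    rw [← orderOf_injective _ (emb_injective hp.inList (f.comp E.subtype)) y, hy, hX,
      orderOf_injective _ (emb_injective hp.inList f), ← hxs]
    exact Subgroup.orderOf_mk x hx
  rw [← h1]
  exact orderOf_dvd_natCard y

/-! ### the criterion -/

theorem fld_exp {r f m π c : ℕ} (hr : r.Prime) (h : r ^ (c * f) = (r ^ m) ^ π) (hπ : π.Prime) (hc : ¬ π ∣ c) :
    ∃ f₀, f = π * f₀ ∧ m = c * f₀ := by
  rw [← pow_mul] at h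
  have h1 : c * f = m * π := Nat.pow_right_injective hr.two_le h
  have h2 : π ∣ c * f := h1 ▸ dvd_mul_left π m
  obtain ⟨f₀, rfl⟩ := (hπ.dvd_mul.1 h2).resolve_left hc
  refine ⟨f₀, rfl, ?_⟩
  have h3 : π * (c * f₀) = π * m := by
    calc π * (c * f₀) = c * (π * f₀) := by ring
      _ = m * π := h1
      _ = π * m := mul_comm _ _
  exact (Nat.eq_of_mul_eq_mul_left hπ.pos h3).symm

theorem dvd_prod_sub {s a N : ℕ} {degs : List ℕ} (hs : s.Prime) (h : s ∣ a ^ N * (degs.map fun m => a ^ m - 1).prod) :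
    s ∣ a ∨ ∃ m ∈ degs, s ∣ a ^ m - 1 := by
  rcases hs.dvd_mul.1 h with h1 | h1
  · exact Or.inl (hs.dvd_of_dvd_pow h1)
  · obtain ⟨x, hx, hsx⟩ := (Prime.dvd_prod_iff hs.prime).1 h1
    rw [List.mem_map] at hx
    obtain ⟨m, hm, rfl⟩ := hx
    exact Or.inr ⟨m, hm, hsx⟩

/-- **The criterion.** -/
theorem core {D : ChevalleyDatum} {l : ℕ} {M : CoxeterMatrix (Fin l)} (hp : IsType D l M) {r : ℕ} [Fact r.Prime]
    {K : Type} [Field K] [Fintype K] [CharP K r] {d : ℕ} {B : Fin l → Fin l → ℤ} (hB : InvC D l d B) (hd : d ≠ 0)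
    (hd5 : ∀ s : ℕ, s.Prime → s ≠ 2 → s ≠ 3 → s.Coprime d)
    {G : Subgroup (GL D.Idx K)} (R : H967.CopRow.Row G) (hle : G ≤ D.group K) {c f : ℕ} (hf : 0 < f)
    (hK : Fintype.card K = r ^ (c * f)) {degs : List ℕ}
    (hO : ∀ E : Subfield K, ∃ N, Nat.card ↥(D.group ↥E) ∣ Nat.card ↥E ^ N * (degs.map fun m => Nat.card ↥E ^ m - 1).prod)
    (h2 : 2 ∈ degs) (hpc : ∀ p : ℕ, p.Prime → ¬ p ∣ Nat.card ↥G → ¬ p ∣ c ∧ ∀ m ∈ degs, ¬ p ∣ m)
    (hdiv : ∀ s : ℕ, s.Prime → s ∣ (r ^ f) ^ 2 - 1 → s ∣ Nat.card ↥G) : TwoMoved ↥G := by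
  intro α hα hdα
  have hr : r.Prime := Fact.out
  obtain ⟨e, σ, he, ho⟩ := R.exists_equiv_one (MulEquiv.refl _) α (hα.coprime_iff_not_dvd.2 hdα)
  refine Moved.of_equiv e (β := fieldAut R.stab σ) he ?_
  have hβ : orderOf (fieldAut R.stab σ) = orderOf α := by rw [orderOf_injective _ R.inj, ho]
  rw [← hβ] at hα hdα
  obtain ⟨hπc, hπm⟩ := hpc _ hα hdα
  rw [← ho] at hβ
  rw [hβ] at hπc hπm
  have hα' : (orderOf σ).Prime := hβ ▸ hα
  have hdα' : ¬ orderOf σ ∣ Nat.card ↥G := hβ ▸ hdα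
  -- the fixed field
  have hcE : CharP ↥(Fx σ) r := inferInstance
  have hfE : Fintype ↥(Fx σ) := Fintype.ofFinite _
  obtain ⟨m, hm0, hm⟩ := BpExc.FamField.exists_card (F := ↥(Fx σ)) r
  have hcard := card_Fx σ
  rw [hm, Nat.card_eq_fintype_card, hK] at hcard
  obtain ⟨f₀, rfl, rfl⟩ := fld_exp hr hcard hα' hπc
  have hf₀ : 0 < f₀ := Nat.pos_of_mul_pos_left hf |> fun _ => by
    rcases Nat.eq_zero_or_pos f₀ with h0 | h0
    · rw [h0, mul_zero] at hf; exact absurd hf (lt_irrefl _)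
    · exact h0
  have hπ2 : orderOf σ ≠ 2 := fun h => hπm 2 h2 (by rw [h])
  have hq₀ : 2 ≤ r ^ f₀ := (Nat.one_lt_pow hf₀.ne' hr.one_lt)
  have hq : r ^ (orderOf σ * f₀) = (r ^ f₀) ^ orderOf σ := by rw [← pow_mul, mul_comm]
  rw [hq] at hdiv
  have hsq : ((r ^ f₀) ^ orderOf σ) ^ 2 - 1 = ((r ^ f₀) ^ orderOf σ + 1) * ((r ^ f₀) ^ orderOf σ - 1) := by
    have := Nat.sq_sub_sq ((r ^ f₀) ^ orderOf σ) 1
    rwa [one_pow] at this
  have hA : ∀ s : ℕ, s ∣ (r ^ f₀) ^ orderOf σ - 1 → s ∣ ((r ^ f₀) ^ orderOf σ) ^ 2 - 1 := fun s h => by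
    rw [hsq]; exact h.mul_left _
  have hB' : ∀ s : ℕ, s ∣ (r ^ f₀) ^ orderOf σ + 1 → s ∣ ((r ^ f₀) ^ orderOf σ) ^ 2 - 1 := fun s h => by
    rw [hsq]; exact h.mul_right _
  obtain ⟨s₁, s₂, hs₁, hs₂, hne, hd₁, hd₂, ho₁, ho₂, hn₁, hn₂⟩ := exists_primes hα' hπ2 hq₀
    (fun h => hdα' (hdiv _ hα' (hA _ h))) (fun h => hdα' (hdiv _ hα' (hB' _ h)))
  -- the fixed points
  have key : ∀ s : ℕ, s.Prime → (∀ i, s ∣ (r ^ f₀) ^ i - 1 → orderOf σ ∣ i) → ¬ s ∣ r ^ f₀ →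
      ¬ s ∣ Nat.card (fx (fieldAut R.stab σ)) := by
    intro s hs hos hns hcon
    have hF : Fact s.Prime := ⟨hs⟩
    have hs2 : s ≠ 2 := by
      rintro rfl
      have h3 : Odd (r ^ f₀) := by
        rw [← Nat.not_even_iff_odd, even_iff_two_dvd]
        exact hns
      have h4 : 2 ∣ (r ^ f₀) ^ 1 - 1 := by
        obtain ⟨j, hj⟩ := h3
        rw [pow_one]
        omega
      exact hα'.one_lt.ne' (Nat.dvd_one.1 (hos 1 h4))
    have hs3 : s ≠ 3 := by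
      rintro rfl
      have h4 : 3 ∣ (r ^ f₀) ^ 2 - 1 := by
        rw [dvd_pow_sub_one_iff (by omega)]
        have h5 : ((r ^ f₀ : ℕ) : ZMod 3) ≠ 0 := fun h => hns ((ZMod.natCast_eq_zero_iff _ _).1 h)
        exact ZMod.pow_card_sub_one_eq_one h5
      have h5 := (Nat.prime_dvd_prime_iff_eq hα' Nat.prime_two).1 (hos 2 h4)
      exact hπ2 h5
    obtain ⟨y, hy⟩ := exists_prime_orderOf_dvd_card' s hcon
    have hyf : fieldAut R.stab σ (y : ↥G) = y := y.2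
    have hyo : orderOf (((y : ↥G) : GL D.Idx K)) = s := by
      rw [Subgroup.orderOf_coe, Subgroup.orderOf_coe, hy]
    have h5 := order_dvd hp hB hd (Fx σ) (x := ((y : ↥G) : GL D.Idx K)) (hle (y : ↥G).2) (fun i j => by
      rw [mem_Fx, ← fieldAut_apply R.stab, hyf]) hyo (hd5 s hs hs2 hs3)
    obtain ⟨N, hN⟩ := hO (Fx σ)
    rcases dvd_prod_sub hs (h5.trans hN) with h6 | ⟨j, hj, h6⟩
    · rw [hm, mul_comm, pow_mul] at h6
      exact hns (hs.dvd_of_dvd_pow h6)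
    · rw [hm, mul_comm, pow_mul, ← pow_mul] at h6
      rcases hα'.dvd_mul.1 (hos _ h6) with h7 | h7
      · exact hπc h7
      · exact hπm j hj h7
  exact moved_of_primes hα hdα hs₁ hs₂ hne (hdiv _ hs₁ (hA _ hd₁)) (hdiv _ hs₂ (hB' _ hd₂)) (key _ hs₁ ho₁ hn₁)
    (key _ hs₂ (fun i h => (dvd_mul_left _ _).trans (ho₂ i h)) hn₂)

/-! ### the rows -/

theorem dvd_or {ℓ q : ℕ} (hℓ : ℓ.Prime) (h : ¬ ℓ ∣ q) (hq : 0 < q) {j : ℕ} (hj : ℓ - 1 ∣ j) : ℓ ∣ q ^ j - 1 := by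
  have : Fact ℓ.Prime := ⟨hℓ⟩
  rw [dvd_pow_sub_one_iff hq]
  obtain ⟨c, rfl⟩ := hj
  rw [pow_mul, ZMod.pow_card_sub_one_eq_one (fun h1 => h ((ZMod.natCast_eq_zero_iff _ _).1 h1)), one_pow]

theorem ordF_D4 (F₀ : Type u) [Field F₀] [Fintype F₀] : ∃ N : ℕ,
    Nat.card ↥(chevD4.group F₀) ∣ Fintype.card F₀ ^ N * (([2, 4, 4, 6] : List ℕ).map fun m => Fintype.card F₀ ^ m - 1).prod :=
  ⟨_, Dvd.intro_left _ (OrderFinal.order_formula (F := F₀) rfl chevD4 (Nat.gcd 2 (Fintype.card F₀ - 1) ^ 2)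
    [2, 4, 4, 6] (by simp) (by simp [InList]) (CardCombAll.comb_of_mem (by simp)) (by simp) rfl)⟩

/-- **`³D₄(q)`.** -/
theorem row_d4 {K : Type} [Field K] [Fintype K] {q : ℕ} (hq : IsPrimePow q) (hK : Fintype.card K = q ^ 3) :
    TwoMoved ↥(twistedD4 K q) := by
  have R := H967.CopTw.row_d4 hq hK
  have hc := S1067.result hq hK
  have hq0 : 0 < q := hq.pos
  have hsmall : ∀ ℓ : ℕ, ℓ = 2 ∨ ℓ = 3 → ℓ ∣ Nat.card ↥(twistedD4 K q) := by
    intro ℓ hℓ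
    have hp : ℓ.Prime := by rcases hℓ with rfl | rfl <;> norm_num
    rw [hc]
    by_cases h : ℓ ∣ q
    · exact Dvd.dvd.mul_right (Dvd.dvd.mul_right (Dvd.dvd.mul_right (h.trans (dvd_pow_self q (by norm_num))) _) _) _
    · refine Dvd.dvd.mul_right (Dvd.dvd.mul_right (Dvd.dvd.mul_left (dvd_or hp h hq0 ?_) _) _) _
      rcases hℓ with rfl | rfl <;> norm_num
  have hdiv : ∀ s : ℕ, s ∣ q ^ 2 - 1 → s ∣ Nat.card ↥(twistedD4 K q) := by
    intro s hs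
    rw [hc]
    exact Dvd.dvd.mul_right (Dvd.dvd.mul_right (Dvd.dvd.mul_left hs _) _) _
  obtain ⟨r, f, hr, hcK, hf, rfl, hK'⟩ := H565.CopTw.exists_params hq hK (by norm_num)
  have : Fact r.Prime := ⟨hr⟩
  refine core Nodes.RGDTwD4.hp invC_D4 two_ne_zero (fun s hs h2 _ => (Nat.coprime_primes hs Nat.prime_two).2 h2) R ?_ hf
    hK' (degs := [2, 4, 4, 6]) (fun E => ?_) (by simp) (fun p hp hpd => ?_) (fun s _ hs => hdiv s hs)
  · rw [Cfsg.Agent.CpAut.RgdTwD4.tw_le_iff]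
    exact ⟨fun t _ r _ => xG_mem_group _ r t,
      fun t rs _ => mul_mem (xG_mem_group _ _ _) (mul_mem (xG_mem_group _ _ _) (xG_mem_group _ _ _))⟩
  · have : Fintype ↥E := Fintype.ofFinite _
    rw [show Nat.card ↥E = Fintype.card ↥E from Nat.card_eq_fintype_card]
    exact ordF_D4 ↥E
  · have h2 : ¬ p ∣ 2 := fun h => hpd (hsmall p (Or.inl ((Nat.prime_dvd_prime_iff_eq hp Nat.prime_two).1 h)))
    have h3 : ¬ p ∣ 3 := fun h => hpd (hsmall p (Or.inr ((Nat.prime_dvd_prime_iff_eq hp Nat.prime_three).1 h)))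
    refine ⟨h3, fun m hm h => ?_⟩
    simp only [List.mem_cons, List.not_mem_nil, or_false] at hm
    rcases hm with rfl | rfl | rfl | rfl
    · exact h2 h
    · exact h2 (hp.dvd_of_dvd_pow (n := 2) h)
    · exact h2 (hp.dvd_of_dvd_pow (n := 2) h)
    · exact (hp.dvd_mul.1 (show p ∣ 2 * 3 from h)).elim h2 h3

theorem twistedE6_le_group (K : Type u) [Field K] (q : ℕ) : twistedE6 K q ≤ chevE6.group K := by
  rw [TwE6Basic.twisted_le_iff]
  refine ⟨fun t _ r _ => xG_mem_group TwE6Basic.hE6 r t, fun t rs _ => Subgroup.mul_mem _ (xG_mem_group _ _ _)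
    (xG_mem_group _ _ _)⟩

/-- **`²E₆(q)`.** -/
theorem row_2e6 {K : Type} [Field K] [Fintype K] {q : ℕ} (hq : IsPrimePow q) (hK : Fintype.card K = q ^ 2) :
    TwoMoved ↥(twistedE6 K q) := by
  have R := H967.CopTw.row_2e6 hq hK (Schreier.TwESix.sch hq hK)
  have hc := S1066.result hq hK
  have hq0 : 0 < q := hq.pos
  have hcan : ∀ s : ℕ, s.Prime → s ≠ 3 → s ∣ Nat.gcd 3 (q + 1) * Nat.card ↥(twistedE6 K q) →
      s ∣ Nat.card ↥(twistedE6 K q) := by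
    intro s hs h3 h
    refine (hs.dvd_mul.1 h).resolve_left fun h1 => h3 ?_
    exact (Nat.prime_dvd_prime_iff_eq hs Nat.prime_three).1 (h1.trans (Nat.gcd_dvd_left _ _))
  have h6 : ∀ {s : ℕ}, s ∣ q ^ 2 - 1 → s ∣ q ^ 6 - 1 := by
    intro s h
    have h1 : q ^ 2 - 1 ∣ (q ^ 2) ^ 3 - 1 ^ 3 := Nat.sub_dvd_pow_sub_pow (q ^ 2) 1 3
    rw [one_pow, ← pow_mul] at h1
    exact h.trans h1
  -- `3` divides the order
  have hthree : 3 ∣ Nat.card ↥(twistedE6 K q) := by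
    by_cases h : 3 ∣ q
    · have h1 : Nat.gcd 3 (q + 1) = 1 := by
        have h2 := Nat.gcd_dvd_left 3 (q + 1)
        rcases (Nat.dvd_prime Nat.prime_three).1 h2 with h3 | h3
        · exact h3
        · exfalso
          have h4 := Nat.gcd_dvd_right 3 (q + 1)
          rw [h3] at h4
          omega
      rw [h1, one_mul] at hc
      rw [hc]
      exact Dvd.dvd.mul_right (Dvd.dvd.mul_right (Dvd.dvd.mul_right (Dvd.dvd.mul_right (Dvd.dvd.mul_right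
        (Dvd.dvd.mul_right (h.trans (dvd_pow_self q (by norm_num))) _) _) _) _) _) _
    · have h1 : 3 ∣ q ^ 2 - 1 := dvd_or Nat.prime_three h hq0 (by norm_num)
      have h2 : 3 * 3 ∣ Nat.gcd 3 (q + 1) * Nat.card ↥(twistedE6 K q) := by
        rw [hc]
        have h3 : 3 * 3 ∣ (q ^ 2 - 1) * (q ^ 6 - 1) := Nat.mul_dvd_mul h1 (h6 h1)
        refine h3.trans ⟨q ^ 36 * (q ^ 5 + 1) * (q ^ 8 - 1) * (q ^ 9 + 1) * (q ^ 12 - 1), by ring⟩
      rcases (Nat.dvd_prime Nat.prime_three).1 (Nat.gcd_dvd_left 3 (q + 1)) with h3 | h3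
      · rw [h3, one_mul] at h2
        exact (Dvd.intro 3 rfl).trans h2
      · rw [h3] at h2
        exact Nat.dvd_of_mul_dvd_mul_left (by norm_num) h2
  have hdiv : ∀ s : ℕ, s.Prime → s ∣ q ^ 2 - 1 → s ∣ Nat.card ↥(twistedE6 K q) := by
    intro s hs h
    by_cases h3 : s = 3
    · rw [h3]; exact hthree
    · refine hcan s hs h3 ?_
      rw [hc]
      exact h.trans ⟨q ^ 36 * (q ^ 5 + 1) * (q ^ 6 - 1) * (q ^ 8 - 1) * (q ^ 9 + 1) * (q ^ 12 - 1), by ring⟩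
  have htwo : 2 ∣ Nat.card ↥(twistedE6 K q) := by
    by_cases h : 2 ∣ q
    · refine hcan 2 Nat.prime_two (by norm_num) ?_
      rw [hc]
      exact (h.trans (dvd_pow_self q (by norm_num : 36 ≠ 0))).trans
        ⟨(q ^ 2 - 1) * (q ^ 5 + 1) * (q ^ 6 - 1) * (q ^ 8 - 1) * (q ^ 9 + 1) * (q ^ 12 - 1), by ring⟩
    · exact hdiv 2 Nat.prime_two (dvd_or Nat.prime_two h hq0 (by norm_num))
  have hfive : 5 ∣ Nat.card ↥(twistedE6 K q) := by
    refine hcan 5 (by norm_num) (by norm_num) ?_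
    rw [hc]
    by_cases h : 5 ∣ q
    · exact (h.trans (dvd_pow_self q (by norm_num : 36 ≠ 0))).trans
        ⟨(q ^ 2 - 1) * (q ^ 5 + 1) * (q ^ 6 - 1) * (q ^ 8 - 1) * (q ^ 9 + 1) * (q ^ 12 - 1), by ring⟩
    · exact (dvd_or (by norm_num) h hq0 (by norm_num : 5 - 1 ∣ 8)).trans
        ⟨q ^ 36 * (q ^ 2 - 1) * (q ^ 5 + 1) * (q ^ 6 - 1) * (q ^ 9 + 1) * (q ^ 12 - 1), by ring⟩
  obtain ⟨r, f, hr, hcK, hf, rfl, hK'⟩ := H565.CopTw.exists_params hq hK (by norm_num)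
  have : Fact r.Prime := ⟨hr⟩
  refine core Nodes.RGDTwE6.hp invC_E6 three_ne_zero (fun s hs _ h3 => (Nat.coprime_primes hs Nat.prime_three).2 h3) R
    (twistedE6_le_group K _) hf
    hK' (degs := [2, 5, 6, 8, 9, 12]) (fun E => ?_) (by simp) (fun p hp hpd => ?_) (fun s hs h => hdiv s hs h)
  · have : Fintype ↥E := Fintype.ofFinite _
    rw [show Nat.card ↥E = Fintype.card ↥E from Nat.card_eq_fintype_card]
    exact H568.FldExc.ordF_E6 ↥E
  · have h2 : ¬ p ∣ 2 := fun h => hpd (by rw [(Nat.prime_dvd_prime_iff_eq hp Nat.prime_two).1 h]; exact htwo)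
    have h3 : ¬ p ∣ 3 := fun h => hpd (by rw [(Nat.prime_dvd_prime_iff_eq hp Nat.prime_three).1 h]; exact hthree)
    have h5 : ¬ p ∣ 5 := fun h => hpd (by
      rw [(Nat.prime_dvd_prime_iff_eq hp (by norm_num : Nat.Prime 5)).1 h]; exact hfive)
    refine ⟨h2, fun m hm h => ?_⟩
    simp only [List.mem_cons, List.not_mem_nil, or_false] at hm
    rcases hm with rfl | rfl | rfl | rfl | rfl | rfl
    · exact h2 h
    · exact h5 h
    · exact (hp.dvd_mul.1 (show p ∣ 2 * 3 from h)).elim h2 h3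
    · exact h2 (hp.dvd_of_dvd_pow (n := 3) h)
    · exact h3 (hp.dvd_of_dvd_pow (n := 2) h)
    · exact (hp.dvd_mul.1 (show p ∣ 2 ^ 2 * 3 from h)).elim (fun h => h2 (hp.dvd_of_dvd_pow h)) h3

/-- The rows `³D₄(q)`, `²E₆(q)`. -/
theorem row_tw' {r : ℕ} {G : Type u} [Group G] (hG : IsTwistedE6D4Char r G) : TwoMoved G := by
  obtain ⟨K, _, _, _, q, hq, ⟨hK, ⟨e⟩⟩ | ⟨hK, ⟨e⟩⟩⟩ := hG
  · exact TwoMoved.congr e (row_2e6 hq hK)
  · exact TwoMoved.congr e (row_d4 hq hK)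

/-- **The rows `³D₄(q)`, `²E₆(q)` of `FactMoved`.** -/
theorem row_tw {r : ℕ} {G : Type*} [Group G] [Finite G] [IsSimpleGroup G] (_hc : ∃ a b : G, a * b ≠ b * a)
    (hG : IsTwistedE6D4Char r G) : TwoMoved G := row_tw' hG

end Cfsg.Agent.H288.MvTw
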