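import Mathlib
import Cfsg.Prelude.Def_Local
import Cfsg.Agent.S0144

/-!
# Normalizers of 2-subgroups: an orbit of central involutions (helper288)

* `exists_omega` : `W = Ω₁(Z(T))`;
* `index_lt` : `|N : C_N(z)| < |W|`, `z ∈ W`, `z ≠ 1`, `N` normalizing `W`;
* `solvable_of_index` : a group with a solvable subgroup of index at most 4 is solvable.
-/

set_option autoImplicit false

namespace Cfsg.Agent.H288.Orbit

open Cfsg Subgroup

variable {G : Type*} [Group G]

/-- `Ω₁(Z(T))` -/
def om (T : Subgroup G) : Subgroup G where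
  carrier := {x | x ∈ T ∧ (∀ y ∈ T, x * y = y * x) ∧ x * x = 1}
  one_mem' := ⟨one_mem _, fun y _ => by rw [one_mul, mul_one], mul_one 1⟩
  mul_mem' := by
    rintro a b ⟨ha, hac, ha2⟩ ⟨hb, hbc, hb2⟩
    refine ⟨mul_mem ha hb, fun y hy => ?_, ?_⟩
    · rw [mul_assoc, hbc y hy, ← mul_assoc, hac y hy, mul_assoc]
    · rw [mul_assoc, ← mul_assoc b a b, hbc a ha, mul_assoc a b b, hb2, mul_one, ha2]
  inv_mem' := by
    rintro a ⟨ha, hac, ha2⟩
    rw [show a⁻¹ = a from inv_eq_of_mul_eq_one_left ha2]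
    exact ⟨ha, hac, ha2⟩

theorem mem_om {T : Subgroup G} {x : G} : x ∈ om T ↔ x ∈ T ∧ (∀ y ∈ T, x * y = y * x) ∧ x * x = 1 := Iff.rfl

theorem om_conj {T : Subgroup G} {n : G} (hn : n ∈ normalizer (T : Set G)) {w : G} (hw : w ∈ om T) :
    n * w * n⁻¹ ∈ om T := by
  obtain ⟨h1, h2, h3⟩ := hw
  have hn' := mem_normalizer_iff.1 hn
  have hni := mem_normalizer_iff.1 (inv_mem hn)
  refine ⟨(hn' w).1 h1, fun y hy => ?_, ?_⟩
  · have h4 : n⁻¹ * y * n ∈ T := by
      have := (hni y).1 hy
      rwa [inv_inv] at this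
    have h5 := h2 _ h4
    calc n * w * n⁻¹ * y = n * (w * (n⁻¹ * y * n)) * n⁻¹ := by group
      _ = n * (n⁻¹ * y * n * w) * n⁻¹ := by rw [h5]
      _ = _ := by group
  · calc n * w * n⁻¹ * (n * w * n⁻¹) = n * (w * w) * n⁻¹ := by group
      _ = 1 := by rw [h3]; group

theorem exists_inv [Finite G] {T : Subgroup G} (hT : IsPGroup 2 T) (hne : T ≠ ⊥) : ∃ z ∈ om T, z ≠ 1 := by
  have : Fact (Nat.Prime 2) := ⟨Nat.prime_two⟩
  have hnt : Nontrivial T := (Subgroup.nontrivial_iff_ne_bot T).2 hne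
  have hZ := hT.center_nontrivial
  have hZp : IsPGroup 2 (center T) := hT.to_subgroup _
  obtain ⟨n, hn0, hn⟩ := hZp.nontrivial_iff_card.1 hZ
  obtain ⟨w, hw⟩ := exists_prime_orderOf_dvd_card' (G := center T) 2 (by rw [hn]; exact dvd_pow_self 2 hn0.ne')
  have h2 : ((w : T) : G) * ((w : T) : G) = 1 := by
    have : w * w = 1 := by rw [← pow_two, ← hw, pow_orderOf_eq_one]
    exact congrArg (fun x : center T => ((x : T) : G)) this
  refine ⟨((w : T) : G), ⟨(w : T).2, fun y hy => ?_, h2⟩, ?_⟩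
  · exact (congrArg Subtype.val (mem_center_iff.1 w.2 ⟨y, hy⟩)).symm
  · intro h
    have : w = 1 := Subtype.ext (Subtype.ext h)
    rw [this, orderOf_one] at hw
    omega

theorem index_lt [Finite G] {N W : Subgroup G} (hW : ∀ n ∈ N, ∀ w ∈ W, n * w * n⁻¹ ∈ W) {z : G} (hz : z ∈ W)
    (h1 : z ≠ 1) : ((centralizer ({z} : Set G)).subgroupOf N).index < Nat.card W := by
  let f : N ⧸ (centralizer ({z} : Set G)).subgroupOf N → W := fun q =>
    ⟨((Quotient.out q : N) : G) * z * ((Quotient.out q : N) : G)⁻¹, hW _ (Quotient.out q).2 z hz⟩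
  have hf : Function.Injective f := by
    intro q r h
    have h2 : ((Quotient.out q : N) : G) * z * ((Quotient.out q : N) : G)⁻¹ =
        ((Quotient.out r : N) : G) * z * ((Quotient.out r : N) : G)⁻¹ := congrArg Subtype.val h
    have h3 : (Quotient.out r : N)⁻¹ * (Quotient.out q : N) ∈ (centralizer ({z} : Set G)).subgroupOf N := by
      rw [mem_subgroupOf, mem_centralizer_singleton_iff]
      change (((Quotient.out r : N) : G)⁻¹ * ((Quotient.out q : N) : G)) * z =
        z * (((Quotient.out r : N) : G)⁻¹ * ((Quotient.out q : N) : G))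
      calc (((Quotient.out r : N) : G)⁻¹ * ((Quotient.out q : N) : G)) * z =
          ((Quotient.out r : N) : G)⁻¹ * (((Quotient.out q : N) : G) * z * ((Quotient.out q : N) : G)⁻¹) *
            ((Quotient.out q : N) : G) := by group
        _ = ((Quotient.out r : N) : G)⁻¹ * (((Quotient.out r : N) : G) * z * ((Quotient.out r : N) : G)⁻¹) *
            ((Quotient.out q : N) : G) := by rw [h2]
        _ = _ := by group
    have h4 := (QuotientGroup.eq.2 h3).symm
    rwa [QuotientGroup.out_eq', QuotientGroup.out_eq'] at h4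
  have h2 : ∀ q, f q ≠ 1 := by
    intro q h
    have h3 : ((Quotient.out q : N) : G) * z * ((Quotient.out q : N) : G)⁻¹ = 1 := congrArg Subtype.val h
    apply h1
    calc z = ((Quotient.out q : N) : G)⁻¹ * (((Quotient.out q : N) : G) * z * ((Quotient.out q : N) : G)⁻¹) *
          ((Quotient.out q : N) : G) := by group
      _ = 1 := by rw [h3]; group
  have h3 : Nat.card (Set.range f) = ((centralizer ({z} : Set G)).subgroupOf N).index :=
    Nat.card_range_of_injective hf
  rw [← h3, Nat.card_coe_set_eq]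
  exact Set.ncard_lt_card (fun h => by
    obtain ⟨q, hq⟩ : (1 : W) ∈ Set.range f := h ▸ Set.mem_univ _
    exact h2 q hq)

theorem solvable_of_index {N : Type*} [Group N] [Finite N] (H : Subgroup N) (hs : Group.IsSolvable H)
    (hi : H.index ≤ 4) : Group.IsSolvable N := by
  classical
  have hfin : Fintype (N ⧸ H) := Fintype.ofFinite _
  have hc : Nat.card (Equiv.Perm (N ⧸ H)) = (H.index).factorial := by
    rw [Nat.card_eq_fintype_card, Fintype.card_perm, ← Nat.card_eq_fintype_card]
    rfl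
  have hpos : 0 < H.index := Nat.pos_of_ne_zero H.index_ne_zero_of_finite
  have h1 : Group.IsSolvable (Equiv.Perm (N ⧸ H)) := by
    have h2 : H.index = 1 ∨ H.index = 2 ∨ H.index = 3 ∨ H.index = 4 := by omega
    rcases h2 with h | h | h | h <;> rw [h] at hc
    · exact Cfsg.Agent.S0144.result 2 3 0 0 Nat.prime_two Nat.prime_three hc
    · exact Cfsg.Agent.S0144.result 2 3 1 0 Nat.prime_two Nat.prime_three hc
    · exact Cfsg.Agent.S0144.result 2 3 1 1 Nat.prime_two Nat.prime_three hc
    · exact Cfsg.Agent.S0144.result 2 3 3 1 Nat.prime_two Nat.prime_three hc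
  refine Group.isSolvable_of_ker_le_range H.subtype (MulAction.toPermHom N (N ⧸ H)) ?_
  rw [range_subtype, ← Subgroup.normalCore_eq_ker]
  exact H.normalCore_le

end Cfsg.Agent.H288.Orbit
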