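import Mathlib
import Cfsg.Agent.SignalizersComponents.BalMain

/-!
# Local setups on a group with trivial core

The reduction of `BalRed`, `BalRedTwo`, `BalLocal` for `LocalSetup` on the whole group: if `O(G) = 1`,
`LocalSetup S W` and `W ≠ 1`, then `F*(G)` is a nonabelian simple group which has a nontrivial
local setup.
-/

set_option autoImplicit false

namespace Cfsg.Agent.H288.SigRed

open Cfsg Subgroup
open Cfsg.Agent.TwoGenCore (Four fourSub)
open Cfsg.Agent.TwoGenCore.Involution (Closed pRankLE_map pRankLE_of_injective)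
open Cfsg.Agent.SignalizersComponents
open Cfsg.Agent.SignalizersComponents.BalRed (eq_bot_of_centralizes core_le_centralizer_component
  le_centralizer_of_inf_eq_bot inf_eq_bot_of_odd orderOf_eq_two four_sylow)
open Cfsg.Agent.SignalizersComponents.BalRedTwo (exists_conj_le exists_four_inf)
open Cfsg.Agent.SignalizersComponents.BalLocal

universe u

variable {G : Type u} [Group G] {S : Sylow 2 G} {W : Subgroup G}

/-- Step 1: `O_2(G) = 1`. -/
theorem pCore_eq_bot [Finite G] (h : LocalSetup S W) (hO : pPrimeCore 2 G = ⊥) (hW : W ≠ ⊥) :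
    pCore 2 G = ⊥ := by
  by_contra hne
  apply hW
  have hp := Lib.Cores.pCore_isPGroup (G := G) 2
  have hcent : W ≤ centralizer (pCore 2 G : Set G) := by
    refine le_centralizer_of_inf_eq_bot ?_ ?_ (inf_eq_bot_of_odd h.odd hp)
    · rw [normalizer_eq_top_iff.mpr (Lib.Cores.pCore_normal 2)]
      exact le_top
    · exact (Lib.Cores.pCore_le_sylow S).trans h.le_normalizer
  -- a central involution of `O_2(G)`
  have : Nontrivial (pCore 2 G) := (nontrivial_iff_ne_bot _).mpr hne
  have : Nontrivial (center (pCore 2 G)) := hp.center_nontrivial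
  have hcp : IsPGroup 2 (center (pCore 2 G)) := hp.to_subgroup _
  obtain ⟨n, hn, hcard⟩ := hcp.nontrivial_iff_card.mp this
  have hdvd : 2 ∣ Nat.card (center (pCore 2 G)) := by
    rw [hcard]; exact dvd_pow_self 2 (by omega)
  obtain ⟨z, hz⟩ := exists_prime_orderOf_dvd_card' 2 hdvd
  set t : G := ((z : pCore 2 G) : G) with ht
  have ht2 : orderOf t = 2 := by
    rw [ht, Subgroup.orderOf_coe, Subgroup.orderOf_coe]; exact hz
  have htc : pCore 2 G ≤ centralizer {t} := by
    intro x hx
    rw [mem_centralizer_singleton_iff]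
    have := mem_center_iff.mp z.2 ⟨x, hx⟩
    exact congrArg Subtype.val this
  have htO : t ∈ pCore 2 G := (z : pCore 2 G).2
  have htS : t ∈ (S : Subgroup G) := Lib.Cores.pCore_le_sylow S htO
  have hWt : W ≤ centralizerPPrimeCore 2 t := by
    refine le_trans ?_ (h.inf_le_core htS ht2)
    refine le_inf le_rfl ?_
    intro w hw
    rw [mem_centralizer_singleton_iff]
    exact ((mem_centralizer_iff.mp (hcent hw)) t htO).symm
  refine eq_bot_of_centralizes hO h.odd ?_ hcent
  intro K hK
  refine hWt.trans (core_le_centralizer_component hO hK ?_)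
  -- components centralize `O_2(G)`
  have hs : ⁅K, pCore 2 G⁆ = ⊥ := by
    refine Components.component_commutator_solvable hK ?_ ?_
    · rw [normalizer_eq_top_iff.mpr (Lib.Cores.pCore_normal 2)]
      exact le_top
    · have := hp.isNilpotent
      infer_instance
  intro k hk
  rw [mem_centralizer_singleton_iff]
  have := (mem_centralizer_iff.mp (commutator_eq_bot_iff_le_centralizer.mp hs hk)) t htO
  exact this.symm

/-- Step 2a: if `K` is a component of 2-rank at least 2, `W` centralizes the other components. -/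
theorem le_centralizer_of_ne [Finite G] (h : LocalSetup S W) (hO : pPrimeCore 2 G = ⊥)
    {K L : Subgroup G} (hK : IsComponent K) (hr : ¬ PRankLE 2 1 K) (hL : IsComponent L)
    (hne : L ≠ K) : W ≤ centralizer (L : Set G) := by
  obtain ⟨Q, hQ⟩ := Cfsg.Agent.S0542.result 2 K hK.1 S
  have hF : Four (⊤ : Subgroup K) := by
    rw [← Cfsg.Agent.TwoGenCore.not_pRankLE_one_iff]
    intro h1
    apply hr
    exact Cfsg.Agent.TwoGenCore.Involution.pRankLE_of_injective
      (topEquiv (G := K)).symm.toMonoidHom (topEquiv (G := K)).symm.injective h1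
  obtain ⟨x, hx, y, hy, h1, h2, h3, h4, h5, h6⟩ := four_sylow hF Q
  rw [hQ, mem_subgroupOf] at hx hy
  have hxK : (x : G) ∈ K := x.2
  have hyK : (y : G) ∈ K := y.2
  have h1' : (x : G) ≠ 1 := fun e => h1 (Subtype.ext e)
  have h2' : (y : G) ≠ 1 := fun e => h2 (Subtype.ext e)
  have h4' : (x : G) * x = 1 := congrArg Subtype.val h4
  have h5' : (y : G) * y = 1 := congrArg Subtype.val h5
  have h6' : (x : G) * y = y * x := congrArg Subtype.val h6
  have h3' : (x : G) * y ≠ 1 := by
    intro e
    apply h3
    apply Subtype.ext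
    have : (x : G) * y = x * x := by rw [e, h4']
    exact (mul_left_cancel this).symm
  have h7 : ((x : G) * y) * (x * y) = 1 := by
    calc (x : G) * y * (x * y) = x * y * (y * x) := by rw [h6']
      _ = x * (y * y) * x := by group
      _ = 1 := by rw [h5', mul_one, h4']
  have key : ∀ z ∈ K, z ∈ (S : Subgroup G) → z ≠ 1 → z * z = 1 →
      W ⊓ centralizer {z} ≤ centralizer (L : Set G) := by
    intro z hzK hzS hz1 hz2
    refine (h.inf_le_core hzS (orderOf_eq_two hz1 hz2)).trans
      (core_le_centralizer_component hO hL ?_)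
    intro l hl
    rw [mem_centralizer_singleton_iff]
    exact (mem_centralizer_iff.mp (Components.component_le_centralizer_of_ne hL hK hne hl)
      z hzK).symm
  exact h.le_of_four hx hy h4' h5' h6' (key x hxK hx h1' h4') (key y hyK hy h2' h5')
    (key _ (K.mul_mem hxK hyK) ((S : Subgroup G).mul_mem hx hy) h3' h7)

/-- Step 2: `F*(G)` is simple. -/
theorem exists_simple [Finite G] (h : LocalSetup S W) (hO : pPrimeCore 2 G = ⊥) (hW : W ≠ ⊥)
    (hBS : ∀ K : Subgroup G, IsComponent K → center K = ⊥ → Even (Nat.card K) →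
      ¬ PRankLE 2 1 K) :
    ∃ L : Subgroup G, L.Normal ∧ IsSimpleGroup L ∧ ¬ IsMulCommutative L ∧ Even (Nat.card L) ∧
      ¬ PRankLE 2 1 L ∧ centralizer (L : Set G) = ⊥ := by
  have hp := pCore_eq_bot h hO hW
  have hF : fittingSubgroup G = ⊥ := by
    rw [eq_bot_iff, ← hp]
    exact CompOrbit.fittingSubgroup_le_pCore hO
  have hcW : W ≤ centralizer (pCore 2 G : Set G) := by
    rw [hp, le_centralizer_iff]
    exact bot_le
  have hcenter : ∀ K : Subgroup G, IsComponent K → center K = ⊥ := by
    intro K hK
    have hn : Group.IsNilpotent (center K) := open scoped IsMulCommutative in inferInstance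
    have h1 : ((center K).map K.subtype).IsSubnormal :=
      (Normal.isSubnormal (inferInstance : (center K).Normal)).trans' hK.1
    have h2 : Group.IsNilpotent ((center K).map K.subtype) :=
      FStarNormal.isNilpotent_map _ _ hn
    have h3 := FStarNormal.le_fitting_of_subnormal h1 h2
    rw [hF, le_bot_iff, Subgroup.map_eq_bot_iff, ker_subtype, le_bot_iff] at h3
    exact h3
  have heven : ∀ K : Subgroup G, IsComponent K → Even (Nat.card K) := by
    intro K hK
    by_contra hodd
    rw [Nat.not_even_iff_odd] at hodd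
    have h4 := CompBasic.subnormal_coprime_le_pPrimeCore (p := 2) hK.1
      (Nat.coprime_two_right.mpr hodd)
    rw [hO, le_bot_iff] at h4
    exact Components.component_ne_bot hK h4
  have hrank : ∀ K : Subgroup G, IsComponent K → ¬ PRankLE 2 1 K :=
    fun K hK => hBS K hK (hcenter K hK) (heven K hK)
  -- existence of a component
  obtain ⟨K, hK⟩ : ∃ K : Subgroup G, IsComponent K := by
    by_contra hno
    push Not at hno
    exact hW (eq_bot_of_centralizes hO h.odd (fun K hK => absurd hK (hno K)) hcW)
  -- uniqueness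
  have huniq : ∀ L : Subgroup G, IsComponent L → L = K := by
    intro L hL
    by_contra hne
    apply hW
    refine eq_bot_of_centralizes hO h.odd (fun M hM => ?_) hcW
    by_cases hMK : M = K
    · exact le_centralizer_of_ne h hO hL (hrank L hL) hM (by rw [hMK]; exact fun e => hne e.symm)
    · exact le_centralizer_of_ne h hO hK (hrank K hK) hM hMK
  have hnormal : K.Normal := by
    refine ⟨fun n hn g => ?_⟩
    have h1 := huniq _ (Components.isComponent_conj g hK)
    rw [← h1]
    exact ⟨n, hn, rfl⟩
  refine ⟨K, hnormal, ?_, Components.quasisimple_not_isMulCommutative hK.2, heven K hK,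
    hrank K hK, ?_⟩
  · have h1 : IsSimpleGroup (K ⧸ center K) := hK.2.2
    have e : K ⧸ center K ≃* K :=
      (QuotientGroup.quotientMulEquivOfEq (hcenter K hK)).trans (QuotientGroup.quotientBot (G := K))
    exact (MulEquiv.isSimpleGroup_congr e).mp h1
  · have h1 : layer G = K := by
      apply le_antisymm
      · rw [Components.layer_le_iff]
        intro L hL
        rw [huniq L hL]
      · exact Components.component_le_layer hK
    have h2 : generalizedFittingSubgroup G = K := by
      rw [Lib.GenFitting.genFitting_def, h1, hF, sup_bot_eq]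
    have h3 := Lib.GenFitting.centralizer_genFitting_le (G := G)
    have h4 := CompOrbit.inf_centralizer_self_le_pCore hO
      (Lib.GenFitting.genFitting_normal (G := G))
    rw [inf_eq_right.2 h3, hp, le_bot_iff, h2] at h4
    exact h4

/-- Step 3: `W` meets the simple normal subgroup `L` nontrivially. -/
theorem inf_ne_bot [Finite G] (h : LocalSetup S W) (hW : W ≠ ⊥) {L : Subgroup G} (hL : L.Normal)
    (hsimple : IsSimpleGroup L) (heven : Even (Nat.card L)) (hr : ¬ PRankLE 2 1 L)
    (hcent : centralizer (L : Set G) = ⊥)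
    (hSE : ∀ (J : Subgroup G) (H : Subgroup J), IsStronglyEmbedded H →
      (oddCore ↥H).map H.subtype ≤ oddCore J) :
    W ⊓ L ≠ ⊥ := by
  intro hbot
  apply hW
  set M := normalizer (W : Set G) with hM
  have hSM : (S : Subgroup G) ≤ M := h.le_normalizer
  have hWM : W ≤ M := Subgroup.le_normalizer
  -- `M ∩ L` centralizes `W`
  have hML : M ⊓ L ≤ centralizer (W : Set G) := by
    refine le_centralizer_of_inf_eq_bot inf_le_left ?_ ?_
    · intro w hw
      rw [mem_normalizer_iff]
      intro x
      constructor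
      · rintro ⟨h1, h2⟩
        exact ⟨M.mul_mem (M.mul_mem (hWM hw) h1) (M.inv_mem (hWM hw)), hL.conj_mem _ h2 w⟩
      · rintro ⟨h1, h2⟩
        refine ⟨?_, ?_⟩
        · have := M.mul_mem (M.mul_mem (M.inv_mem (hWM hw)) h1) (hWM hw)
          simpa [mul_assoc] using this
        · have := hL.conj_mem _ h2 w⁻¹
          simpa [mul_assoc] using this
    · rw [eq_bot_iff, ← hbot]
      exact fun x hx => ⟨hx.2, hx.1.2⟩
  -- centralizers of involutions of `M ∩ L`
  have hcx : ∀ x ∈ (S : Subgroup G) ⊓ L, orderOf x = 2 → centralizer ({x} : Set G) ≤ M := by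
    rintro x ⟨hxS, hxL⟩ hx2
    have h1 : W ⊓ centralizer {x} = W := by
      refine inf_eq_left.2 ?_
      intro w hw
      rw [mem_centralizer_singleton_iff]
      exact (mem_centralizer_iff.mp (hML ⟨hSM hxS, hxL⟩)) w hw
    have h2 := h.fix x hxS hx2
    rw [h1] at h2
    exact h2
  have hct : ∀ t ∈ M ⊓ L, orderOf t = 2 → centralizer ({t} : Set G) ≤ M := by
    rintro t ⟨htM, htL⟩ ht2
    have hZ : IsPGroup 2 (zpowers t) := by
      rw [IsPGroup.iff_card]
      exact ⟨1, by rw [Nat.card_zpowers, ht2, pow_one]⟩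
    obtain ⟨m, hm, hconj⟩ := exists_conj_le S hSM (by rw [zpowers_le]; exact htM) hZ
    have hx : m * t * m⁻¹ ∈ (S : Subgroup G) ⊓ L :=
      ⟨hconj ⟨t, mem_zpowers t, by simp [MulAut.conj_apply]⟩, hL.conj_mem _ htL m⟩
    have hx2 : orderOf (m * t * m⁻¹) = 2 := by
      rw [← ht2]
      have := orderOf_injective (MulAut.conj m).toMonoidHom (MulAut.conj m).injective t
      simpa [MulAut.conj_apply] using this
    have h2 := hcx _ hx hx2
    intro c hc
    have h3 : m * c * m⁻¹ ∈ M := by
      apply h2
      rw [mem_centralizer_singleton_iff] at hc ⊢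
      calc m * c * m⁻¹ * (m * t * m⁻¹) = m * (c * t) * m⁻¹ := by group
        _ = m * (t * c) * m⁻¹ := by rw [hc]
        _ = m * t * m⁻¹ * (m * c * m⁻¹) := by group
    have := M.mul_mem (M.mul_mem (M.inv_mem hm) h3) hm
    simpa [mul_assoc] using this
  obtain ⟨x, hx, y, hy, hx1, -, -, hx2, -, -⟩ := exists_four_inf S hL hr
  have hxo : orderOf x = 2 := orderOf_eq_two hx1 hx2
  -- the strongly embedded subgroup of `W L`
  set J := W ⊔ L with hJ
  have hLJ : L ≤ J := le_sup_right
  have hWJ : W ≤ J := le_sup_left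
  set H := M.subgroupOf J with hH
  have hclosed : Closed H := (h.closed).subgroupOf J
  have htop : H ≠ ⊤ := by
    intro e
    rw [hH, subgroupOf_eq_top] at e
    have h1 : L ≤ centralizer (W : Set G) := fun l hl => hML ⟨e (hLJ hl), hl⟩
    rw [le_centralizer_iff, hcent, le_bot_iff] at h1
    exact hW h1
  have hevenH : Even (Nat.card H) := by
    have h1 : (⟨⟨x, hLJ hx.2⟩, hSM hx.1⟩ : H) ≠ 1 := by
      intro e
      apply hx1
      exact congrArg (fun z : H => ((z : J) : G)) e
    have h2 : orderOf (⟨⟨x, hLJ hx.2⟩, hSM hx.1⟩ : H) = 2 := by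
      rw [← Subgroup.orderOf_coe, ← Subgroup.orderOf_coe]
      exact hxo
    rw [even_iff_two_dvd, ← h2]
    exact orderOf_dvd_natCard _
  have hodd : ∀ t ∈ J, orderOf t = 2 → t ∈ L := by
    intro t ht ht2
    rw [← QuotientGroup.eq_one_iff (N := L)]
    have h1 : (QuotientGroup.mk' L t) ∈ W.map (QuotientGroup.mk' L) := by
      have h2 : (QuotientGroup.mk' L t) ∈ J.map (QuotientGroup.mk' L) := ⟨t, ht, rfl⟩
      have h3 : L.map (QuotientGroup.mk' L) = ⊥ :=
        (Subgroup.map_eq_bot_iff _).mpr (by rw [QuotientGroup.ker_mk'])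
      rw [hJ, Subgroup.map_sup, h3, sup_bot_eq] at h2
      exact h2
    have h3 : Odd (Nat.card (W.map (QuotientGroup.mk' L))) := by
      obtain ⟨k, hk⟩ := Subgroup.card_map_dvd (H := W) (QuotientGroup.mk' L)
      have := h.odd
      rw [hk, Nat.odd_mul] at this
      exact this.1
    have h4 : orderOf (QuotientGroup.mk' L t) ∣ 2 := by
      apply orderOf_dvd_of_pow_eq_one
      rw [← map_pow, ← ht2, pow_orderOf_eq_one, map_one]
    have h5 : orderOf (QuotientGroup.mk' L t) ∣ Nat.card (W.map (QuotientGroup.mk' L)) :=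
      Subgroup.orderOf_dvd_natCard _ h1
    have h6 : orderOf (QuotientGroup.mk' L t) = 1 := by
      rcases (Nat.dvd_prime Nat.prime_two).mp h4 with h7 | h7
      · exact h7
      · exfalso
        rw [h7] at h5
        rw [Nat.odd_iff] at h3
        omega
    exact orderOf_eq_one_iff.mp h6
  have hse : IsStronglyEmbedded H := by
    refine hclosed.isStronglyEmbedded htop hevenH ?_
    intro t ht ht2 c hc
    rw [hH, mem_subgroupOf]
    have ht2' : orderOf (t : G) = 2 := by rw [Subgroup.orderOf_coe]; exact ht2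
    refine hct t ⟨ht, hodd t t.2 ht2'⟩ ht2' ?_
    rw [mem_centralizer_singleton_iff] at hc ⊢
    exact congrArg Subtype.val hc
  have hcore := hSE J H hse
  -- `W ≤ O(H)`
  have hWO : (W.subgroupOf J).subgroupOf H ≤ oddCore H := by
    refine Lib.Cores.le_pPrimeCore ?_ ?_
    · refine ⟨fun w hw g => ?_⟩
      rw [mem_subgroupOf, mem_subgroupOf] at hw ⊢
      have hg : ((g : J) : G) ∈ normalizer (W : Set G) := g.2
      exact (mem_normalizer_iff.mp hg _).mp hw
    · have h1 : Nat.card ((W.subgroupOf J).subgroupOf H) ∣ Nat.card W := by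
        have h2 := Subgroup.card_dvd_of_injective
          (((J.subtype.comp H.subtype).subgroupMap ((W.subgroupOf J).subgroupOf H)))
          (by
            intro a b hab
            have := congrArg Subtype.val hab
            exact Subtype.ext (Subtype.ext (Subtype.ext this)))
        refine h2.trans (card_dvd_of_le ?_)
        rintro _ ⟨a, ha, rfl⟩
        exact ha
      exact (Nat.coprime_two_right.mpr h.odd).coprime_dvd_left h1
  have hWO2 : W.subgroupOf J ≤ oddCore J := by
    refine le_trans ?_ hcore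
    intro w hw
    exact ⟨⟨w, hWM hw⟩, hWO (by
      rw [mem_subgroupOf]
      exact hw), rfl⟩
  set R := (oddCore J).map J.subtype with hR
  have hRodd : Odd (Nat.card R) := by
    have h1 := Lib.Cores.pPrimeCore_coprime (G := J) 2
    rw [Nat.coprime_two_right] at h1
    rw [hR, card_map_of_injective J.subtype_injective]
    exact h1
  have hRJ : R ≤ J := map_subtype_le _
  have hLR : L ≤ normalizer (R : Set G) := by
    refine hLJ.trans ?_
    have hn : (oddCore J).Normal := Lib.Cores.pPrimeCore_normal 2
    intro g hg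
    rw [mem_normalizer_iff]
    intro r
    constructor
    · rintro ⟨r', hr', rfl⟩
      exact ⟨_, hn.conj_mem r' hr' ⟨g, hg⟩, rfl⟩
    · rintro ⟨r', hr', hrr⟩
      refine ⟨_, hn.conj_mem r' hr' ⟨g, hg⟩⁻¹, ?_⟩
      have h1 : (r' : G) = g * r * g⁻¹ := hrr
      show g⁻¹ * (r' : G) * (g⁻¹)⁻¹ = r
      rw [h1]
      group
  have hRL : R ⊓ L = ⊥ := by
    have hn : ((R ⊓ L).subgroupOf L).Normal := by
      rw [inf_subgroupOf_right]
      exact normal_subgroupOf_of_le_normalizer hLR
    rcases hn.eq_bot_or_eq_top with e | e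
    · rwa [subgroupOf_eq_bot, disjoint_iff, inf_assoc, inf_idem] at e
    · exfalso
      rw [subgroupOf_eq_top] at e
      have h1 := card_dvd_of_le (e.trans inf_le_left)
      obtain ⟨k, hk⟩ := h1
      rw [hk, Nat.odd_mul] at hRodd
      exact (Nat.not_even_iff_odd.mpr hRodd.1) heven
  have hRc : R ≤ centralizer (L : Set G) := by
    refine le_centralizer_of_inf_eq_bot ?_ hLR hRL
    rw [normalizer_eq_top_iff.mpr hL]
    exact le_top
  rw [hcent] at hRc
  refine le_bot_iff.mp (le_trans ?_ hRc)
  intro w hw
  exact ⟨⟨w, hWJ hw⟩, hWO2 hw, rfl⟩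

/-- A local setup of `G` induces a local setup on each normal subgroup of 2-rank at least 2. -/
theorem localSetup [Finite G] (h : LocalSetup S W) {K : Subgroup G} (hK : K.Normal)
    (hr : ¬ PRankLE 2 1 K) : ∃ T : Sylow 2 K, LocalSetup T (W.subgroupOf K) := by
  obtain ⟨T, hT⟩ := Cfsg.Agent.S0542.result 2 K hK.isSubnormal S
  refine ⟨T, ?_, ?_, ?_, ?_, ?_⟩
  · have h1 : Nat.card (W.subgroupOf K) ∣ Nat.card W := by
      have h2 := Subgroup.card_dvd_of_injective (K.subtype.subgroupMap (W.subgroupOf K))
        (by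
          intro a b hab
          have := congrArg Subtype.val hab
          exact Subtype.ext (Subtype.ext this))
      refine h2.trans (card_dvd_of_le ?_)
      rintro _ ⟨a, ha, rfl⟩
      exact ha
    obtain ⟨k, hk⟩ := h1
    have := h.odd
    rw [hk, Nat.odd_mul] at this
    exact this.1
  · intro x hx hx2 c hc
    rw [hT, mem_subgroupOf] at hx
    have hx2' : orderOf (x : G) = 2 := by rw [Subgroup.orderOf_coe]; exact hx2
    have hc' : (c : G) ∈ centralizer ({(x : G)} : Set G) := by
      rw [mem_centralizer_singleton_iff] at hc ⊢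
      exact congrArg Subtype.val hc
    have h2 := h.fix x hx hx2' hc'
    rw [mem_normalizer_iff] at h2 ⊢
    intro g
    have h3 := h2 (g : G)
    have h4 : ∀ g : K, g ∈ (W.subgroupOf K ⊓ centralizer {x} : Subgroup K) ↔
        (g : G) ∈ (W ⊓ centralizer {(x : G)} : Subgroup G) := by
      intro g
      rw [mem_inf, mem_inf, mem_subgroupOf, mem_centralizer_singleton_iff,
        mem_centralizer_singleton_iff]
      constructor
      · rintro ⟨h5, h6⟩
        exact ⟨h5, congrArg Subtype.val h6⟩
      · rintro ⟨h5, h6⟩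
        exact ⟨h5, Subtype.ext h6⟩
    rw [h4, h4, h3]
    rfl
  · intro x hx hx2 g hg w hw hwx
    rw [hT, mem_subgroupOf] at hx hg
    rw [mem_subgroupOf] at hw ⊢
    have hx2' : orderOf (x : G) = 2 := by rw [Subgroup.orderOf_coe]; exact hx2
    exact h.equi x hx hx2' g hg w hw (congrArg Subtype.val hwx)
  · intro X hX hr' c hc
    have hX' : X.map K.subtype ≤ (S : Subgroup G) := by
      rintro _ ⟨y, hy, rfl⟩
      have := hX hy
      rw [hT, mem_subgroupOf] at this
      exact this
    have h1 := h.norm _ hX' (by rwa [pRankLE_map _ K.subtype_injective])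
    have hc' : (c : G) ∈ normalizer ((X.map K.subtype : Subgroup G) : Set G) := by
      rw [mem_normalizer_iff] at hc ⊢
      intro g
      constructor
      · rintro ⟨y, hy, rfl⟩
        exact ⟨_, (hc y).mp hy, rfl⟩
      · rintro ⟨y, hy, hyg⟩
        have hg : g = ((c⁻¹ * y * c⁻¹⁻¹ : K) : G) := by
          have h2 : (y : G) = c * g * (c : G)⁻¹ := hyg
          push_cast
          rw [h2]
          group
        have h3 : c * (c⁻¹ * y * c⁻¹⁻¹) * c⁻¹ = y := by group
        exact ⟨c⁻¹ * y * c⁻¹⁻¹, (hc _).mpr (by rw [h3]; exact hy), hg.symm⟩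
    have h2 := mem_normalizer_iff.mp (h1 hc')
    rw [mem_normalizer_iff]
    intro g
    rw [mem_subgroupOf, mem_subgroupOf, h2 (g : G)]
    rfl
  · rw [Cfsg.Agent.TwoGenCore.not_pRankLE_one_iff]
    apply four_sylow
    rw [← Cfsg.Agent.TwoGenCore.not_pRankLE_one_iff]
    intro h1
    apply hr
    exact pRankLE_of_injective (topEquiv (G := K)).symm.toMonoidHom
      (topEquiv (G := K)).symm.injective h1

/-- **The reduction theorem.** `hSE`: cores of strongly embedded subgroups (S1221); `hEnd`: the end
game for the simple groups with a proper 2-generated core. -/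
theorem eq_bot [Finite G] (h : LocalSetup S W) (hO : oddCore G = ⊥)
    (hSE : ∀ (J : Type u) [Group J] [Finite J] (H : Subgroup J), IsStronglyEmbedded H →
      (oddCore ↥H).map H.subtype ≤ oddCore J)
    (hEnd : ∀ (K : Type u) [Group K] [Finite K] (T : Sylow 2 K) (V : Subgroup K),
      IsSimpleGroup K → ¬ IsMulCommutative K → HasProperTwoGeneratedCore K → LocalSetup T V →
      V = ⊥) : W = ⊥ := by
  by_contra hV
  obtain ⟨K, hK, hs, hna, heven, hr, hc⟩ := exists_simple h hO hV
    (fun K hK hc he => BalMain.not_pRankLE_one hK.2 hc he)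
  have h1 := inf_ne_bot h hV hK hs heven hr hc (fun J H hH => hSE J H hH)
  obtain ⟨T, hT⟩ := localSetup h hK hr
  have h2 : W.subgroupOf K ≠ ⊥ := by
    intro e
    rw [subgroupOf_eq_bot, disjoint_iff] at e
    exact h1 e
  exact h2 (hEnd K T _ hs hna (hT.hasProperTwoGeneratedCore h2) hT)

end Cfsg.Agent.H288.SigRed
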